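import Groth.Agent.Lib.GenFinite.Basic
import Groth.Agent.Lib.Cyc.DimFun
import Groth.Agent.Lib.ModelFibre.StalkIdeal
import Groth.Agent.Lib.Cyc.SmoothReg
import Groth.Prelude.Def_IntMult
import Mathlib

/-!
# Dimensions of local rings at components of a proper intersection
-/

set_option autoImplicit false
set_option linter.style.haveILetI false

universe u

open CategoryTheory AlgebraicGeometry IsLocalRing

namespace Groth.Agent.H19.IntMult.Dims

open Groth.Agent.Lib Groth.Agent.Lib.Cyc

variable {K : Type u} [Field K] {X : Scheme.{u}} (f : X ⟶ Spec (CommRingCat.of K)) [LocallyOfFiniteType f]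

/-- The prime of an integral closed subscheme at one of its points. -/
theorem integral_closed (I : X.IdealSheafData) [IsIntegral I.subscheme] {r : ℕ}
    (hr : topologicalKrullDim I.support = r) {x : X} (hx : x ∈ I.support) :
    ∃ (g : X) (h : g ⤳ x), closure ({g} : Set X) = (I.support : Set X) ∧ FieldDim.fdelta f g = r ∧
      IntMult.stalkIdeal I x = (DimFun.genPrime x g h).asIdeal := by
  let g := I.subschemeι (genericPoint ↥I.subscheme)
  have hcl : closure ({g} : Set X) = (I.support : Set X) := by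
    have h1 : I.subschemeι '' closure {genericPoint ↥I.subscheme} =
        closure (I.subschemeι '' {genericPoint ↥I.subscheme}) :=
      (I.subschemeι.isClosedEmbedding.closure_image_eq _).symm
    rw [genericPoint_closure, Set.image_univ, I.range_subschemeι, Set.image_singleton] at h1
    exact h1.symm
  have hg : g ⤳ x := specializes_iff_mem_closure.mpr (hcl.symm ▸ hx)
  refine ⟨g, hg, hcl, ?_, ?_⟩
  · have h := FieldDim.topologicalKrullDim_closure f g
    rw [hcl] at h
    have h' : ((r : ℕ) : WithBot ℕ∞) = ((FieldDim.fdelta f g).toNat : WithBot ℕ∞) := hr.symm.trans h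
    have h2 : r = (FieldDim.fdelta f g).toNat := by exact_mod_cast h'
    have := FieldDim.fdelta_nonneg f g
    omega
  · have h := (Groth.Agent.Lib.ModelFibre.StalkIdeal.stalkIdeal_ker I.subschemeι x hg).2
      (DimFun.genPrime x g hg) (DimFun.fromSpecStalk_genPrime x g hg)
    rw [Scheme.IdealSheafData.ker_subschemeι] at h
    exact h.symm

/-- The local algebra at a component of a proper intersection. -/
theorem dims [IsAlgClosed K] [Smooth f] [IsIntegral X] (IV IW : X.IdealSheafData)
    [IsIntegral IV.subscheme] [IsIntegral IW.subscheme] (n r s : ℕ) (hn : topologicalKrullDim X = n)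
    (hr : topologicalKrullDim IV.support = r) (hs : topologicalKrullDim IW.support = s)
    (hprop : IntMult.ProperInt (IV.support : Set X) (IW.support : Set X) n r s) (ξ : X)
    (hξV : ξ ∈ IV.support) (hξW : ξ ∈ IW.support)
    (hmax : ∀ ξ' : X, ξ' ∈ IV.support → ξ' ∈ IW.support → ξ' ⤳ ξ → ξ' = ξ) :
    IsRegularLocalRing (X.presheaf.stalk ξ) ∧
      (IntMult.stalkIdeal IV ξ).IsPrime ∧ (IntMult.stalkIdeal IW ξ).IsPrime ∧
      (∀ q : Ideal (X.presheaf.stalk ξ), q.IsPrime → IntMult.stalkIdeal IV ξ ≤ q →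
        IntMult.stalkIdeal IW ξ ≤ q → q = maximalIdeal _) ∧
      ∃ d a b : ℕ, ringKrullDim (X.presheaf.stalk ξ) = d ∧
        ringKrullDim (X.presheaf.stalk ξ ⧸ IntMult.stalkIdeal IV ξ) = a ∧
        ringKrullDim (X.presheaf.stalk ξ ⧸ IntMult.stalkIdeal IW ξ) = b ∧ d ≤ a + b := by
  have hδ := FieldDim.isDimFun_fdelta f
  obtain ⟨g, hg, hgc, hgd, hgI⟩ := integral_closed f IV hr hξV
  obtain ⟨g', hg', hgc', hgd', hgI'⟩ := integral_closed f IW hs hξW
  refine ⟨Cyc.SmoothReg.isRegularLocalRing_stalk f ξ, hgI ▸ (DimFun.genPrime ξ g hg).2,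
    hgI' ▸ (DimFun.genPrime ξ g' hg').2, fun q hq h1 h2 => ?_, ?_⟩
  · rw [hgI] at h1
    rw [hgI'] at h2
    let y := X.fromSpecStalk ξ ⟨q, hq⟩
    have hy1 : g ⤳ y := by
      have := (DimFun.fromSpecStalk_specializes_iff ξ (DimFun.genPrime ξ g hg) ⟨q, hq⟩).2 h1
      rwa [DimFun.fromSpecStalk_genPrime] at this
    have hy2 : g' ⤳ y := by
      have := (DimFun.fromSpecStalk_specializes_iff ξ (DimFun.genPrime ξ g' hg') ⟨q, hq⟩).2 h2
      rwa [DimFun.fromSpecStalk_genPrime] at this
    have hV : y ∈ (IV.support : Set X) := hgc ▸ specializes_iff_mem_closure.mp hy1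
    have hW : y ∈ (IW.support : Set X) := hgc' ▸ specializes_iff_mem_closure.mp hy2
    have he := hmax y hV hW (DimFun.fromSpecStalk_specializes_self ξ ⟨q, hq⟩)
    have h3 : X.fromSpecStalk ξ ⟨q, hq⟩ = X.fromSpecStalk ξ (closedPoint _) :=
      he.trans Scheme.fromSpecStalk_closedPoint.symm
    exact congrArg PrimeSpectrum.asIdeal (DimFun.fromSpecStalk_injective ξ h3)
  · have hX : FieldDim.fdelta f (genericPoint X) = n := by
      have h := GenFinite.Basic.topologicalKrullDim_eq_fdelta f
      rw [hn] at h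
      have h2 : n = (FieldDim.fdelta f (genericPoint X)).toNat := by exact_mod_cast h
      have := FieldDim.fdelta_nonneg f (genericPoint X)
      omega
    refine ⟨_, _, _, DimFun.ringKrullDim_stalk hδ ξ,
      (ringKrullDim_eq_of_ringEquiv (Ideal.quotEquivOfEq hgI)).trans (DimFun.ringKrullDim_locQuot hδ ξ g hg),
      (ringKrullDim_eq_of_ringEquiv (Ideal.quotEquivOfEq hgI')).trans (DimFun.ringKrullDim_locQuot hδ ξ g' hg'), ?_⟩
    obtain ⟨hle, hdim⟩ := hprop ⟨ξ, hξV, hξW⟩
    have hsub : closure ({ξ} : Set X) ⊆ (IV.support : Set X) ∩ IW.support :=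
      closure_minimal (Set.singleton_subset_iff.mpr ⟨hξV, hξW⟩)
        (IV.support.isClosed.inter IW.support.isClosed)
    have h1 : topologicalKrullDim (closure ({ξ} : Set X)) ≤ ((r + s - n : ℕ) : WithBot ℕ∞) :=
      ((Topology.IsInducing.topologicalKrullDim_le
        (Topology.IsEmbedding.inclusion hsub).isInducing)).trans hdim
    rw [FieldDim.topologicalKrullDim_closure f ξ] at h1
    have h2 : (FieldDim.fdelta f ξ).toNat ≤ r + s - n := by exact_mod_cast h1
    have := FieldDim.fdelta_nonneg f ξ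
    omega

end Groth.Agent.H19.IntMult.Dims
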