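import Groth.Agent.H19.Koszul.TorChi
import Groth.Agent.H19.IntMult.Dims
import Groth.Agent.Lib.Koszul.Serre
import Groth.Agent.H20.CMRegular
import Mathlib

/-!
# Intersection numbers against a complete intersection
-/

set_option autoImplicit false
set_option linter.style.haveILetI false

universe u

open CategoryTheory IsLocalRing RingTheory.Sequence

namespace Groth.Agent.H19.IntMult.RegSeq

open Groth.Agent.Lib Groth.Agent.Lib.Koszul

variable {A : Type u} [CommRing A]

theorem chi_of_weaklyRegular [IsNoetherianRing A] :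
    ∀ (l : List A) (M : Type u) [AddCommGroup M] [Module A M] [Module.Finite A M], IsWeaklyRegular M l →
      Groth.Agent.Lib.Koszul.Chi.chi (Groth.Agent.Lib.Koszul.Basic.koszulOn
          (Groth.Agent.Lib.Koszul.Basic.sgl (ModuleCat.of A M)) l) =
        ((Module.length A (M ⧸ (Ideal.ofList l • ⊤ : Submodule A M))).toNat : ℤ)
  | [], M, _, _, _, _ => by
    rw [Euler.chi_nil, Ideal.ofList_nil, Submodule.bot_smul,
      (Submodule.quotEquivOfEqBot (⊥ : Submodule A M) rfl).length_eq]
    rfl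
  | f :: l, M, _, _, _, h => by
    obtain ⟨hf, hl⟩ := (isWeaklyRegular_cons_iff M f l).mp h
    rw [(Submodule.quotOfListConsSMulTopEquivQuotSMulTopInner M f l).length_eq,
      ← chi_of_weaklyRegular l (QuotSMulTop f M) hl]
    exact Euler.chi_cons_regular (ModuleCat.of A M) hf l

theorem chi_comm (M N : Type u) [AddCommGroup M] [Module A M] [AddCommGroup N] [Module A N] :
    IntMult.chi A M N = IntMult.chi A N M :=
  finsum_congr fun i => by
    rw [(Tor.Balance.torFlipIso (ModuleCat.of A M) (ModuleCat.of A N) i).toLinearEquiv.length_eq]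

variable [IsNoetherianRing A] [IsLocalRing A]

theorem ofList_ofFn {c : ℕ} (g : Fin c → A) : Ideal.ofList (List.ofFn g) = Ideal.span (Set.range g) := by
  rw [Ideal.ofList]; congr 1; ext a; exact List.mem_ofFn

theorem ringKrullDim_quotient_le_zero {Q : Ideal A}
    (h : ∀ q : Ideal A, q.IsPrime → Q ≤ q → q = maximalIdeal A) : ringKrullDim (A ⧸ Q) ≤ 0 := by
  rw [← Module.supportDim_quotient_eq_ringKrullDim]
  refine Order.krullDim_nonpos_iff_forall_isMax.mpr fun p q hpq => ?_
  have hmem : ∀ x : Module.support A (A ⧸ Q), x.1.asIdeal = maximalIdeal A := fun x => by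
    refine h _ x.1.2 ?_
    have h1 := Module.mem_support_iff_of_finite.mp x.2
    rwa [Ideal.annihilator_quotient] at h1
  show q.1.asIdeal ≤ p.1.asIdeal
  rw [hmem p, hmem q]

theorem not_isUnit_mk {Q : Ideal A} (hQ : Q ≠ ⊤) {y : A} (hy : y ∈ maximalIdeal A) :
    ¬ IsUnit (algebraMap A (A ⧸ Q) y) := fun hu => by
  obtain ⟨v, hv⟩ := hu.exists_right_inv
  obtain ⟨z, rfl⟩ := Ideal.Quotient.mk_surjective v
  have h : y * z - 1 ∈ maximalIdeal A := IsLocalRing.le_maximalIdeal hQ (Ideal.Quotient.eq.mp (by rw [map_mul, map_one]; exact hv))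
  have h1 : (1 : A) ∈ maximalIdeal A := by
    have := (maximalIdeal A).sub_mem (Ideal.mul_mem_right z _ hy) h
    rwa [sub_sub_cancel] at this
  exact (Ideal.ne_top_iff_one _).mp (maximalIdeal.isMaximal A).ne_top h1

variable {c : ℕ} (g : Fin c → A) (hreg : IsRegular A (List.ofFn g)) (Q : Ideal A)
  (hfin : ∀ q : Ideal A, q.IsPrime → Ideal.span (Set.range g) ≤ q → Q ≤ q → q = maximalIdeal A)
  {d a b : ℕ} (hd : ringKrullDim A = d) (ha : ringKrullDim (A ⧸ Ideal.span (Set.range g)) = a)
  (hb : ringKrullDim (A ⧸ Q) = b) (hle : d ≤ a + b)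

include hreg in
theorem mem_maximalIdeal : ∀ x ∈ List.ofFn g, x ∈ maximalIdeal A := fun x hx => by
  refine IsLocalRing.le_maximalIdeal (fun htop => hreg.2 ?_) (Ideal.subset_span hx : x ∈ Ideal.ofList _)
  rw [show Ideal.ofList (List.ofFn g) = ⊤ from htop, Submodule.top_smul]

include hreg hd ha hb hle in
theorem le_b : c ≤ b := by
  have h := ringKrullDim_add_length_eq_ringKrullDim_of_isRegular (List.ofFn g) hreg
  rw [ringKrullDim_eq_of_ringEquiv (Ideal.quotEquivOfEq (ofList_ofFn g)), ha, hd, List.length_ofFn] at h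
  have h' : a + c = d := by exact_mod_cast h
  omega

include hfin in
theorem ringKrullDim_cut :
    ringKrullDim ((A ⧸ Q) ⧸ Ideal.ofList ((List.ofFn g).map (algebraMap A (A ⧸ Q)))) ≤ 0 := by
  rw [← Ideal.map_ofList]
  show ringKrullDim ((A ⧸ Q) ⧸ (Ideal.ofList (List.ofFn g)).map (Ideal.Quotient.mk Q)) ≤ 0
  rw [← ringKrullDim_eq_of_ringEquiv
    (DoubleQuot.quotQuotEquivQuotSup Q (Ideal.ofList (List.ofFn g))).symm]
  refine ringKrullDim_quotient_le_zero fun q hq hQ => hfin q hq ?_ (le_sup_left.trans hQ)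
  rw [← ofList_ofFn]; exact le_sup_right.trans hQ

include hreg hfin in
theorem map_mem_jacobson : ∀ x ∈ (List.ofFn g).map (algebraMap A (A ⧸ Q)), Q ≤ maximalIdeal A →
    x ∈ (maximalIdeal A).map (algebraMap A (A ⧸ Q)) := by
  intro x hx _
  obtain ⟨y, hy, rfl⟩ := List.mem_map.mp hx
  exact Ideal.mem_map_of_mem _ (mem_maximalIdeal g hreg y hy)

include hreg hfin hd ha hb hle in
/-- The cut-down module has the expected dimension. -/
theorem b_eq : b = c := by
  classical
  refine le_antisymm ?_ (le_b g hreg Q hd ha hb hle)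
  have hQ : Q ≠ ⊤ := fun h => by
    subst h
    rw [ringKrullDim_eq_bot_of_subsingleton] at hb
    exact WithBot.bot_ne_coe hb
  haveI : Nontrivial (A ⧸ Q) := Ideal.Quotient.nontrivial_iff.mpr hQ
  haveI : IsLocalRing (A ⧸ Q) := IsLocalRing.of_surjective' (algebraMap A (A ⧸ Q)) Ideal.Quotient.mk_surjective
  let l' := (List.ofFn g).map (algebraMap A (A ⧸ Q))
  have hmem : ∀ x ∈ l', x ∈ maximalIdeal (A ⧸ Q) := fun x hx => by
    obtain ⟨y, hy, rfl⟩ := List.mem_map.mp hx
    exact (IsLocalRing.mem_maximalIdeal _).mpr fun hu =>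
      not_isUnit_mk hQ (mem_maximalIdeal g hreg y hy) hu
  have h1 := ringKrullDim_le_ringKrullDim_quotient_add_card (R := A ⧸ Q) l'.toFinset (fun x hx =>
    (IsLocalRing.maximalIdeal_le_jacobson ⊥).trans (le_of_eq (Ideal.jacobson_bot ..)) (hmem x (List.mem_toFinset.mp hx)))
  have h2 : Ideal.span (l'.toFinset : Set (A ⧸ Q)) = Ideal.ofList l' := by
    rw [Ideal.ofList]; congr 1; ext x; simp
  rw [hb, ringKrullDim_eq_of_ringEquiv (Ideal.quotEquivOfEq h2)] at h1
  have h3 : ((b : ℕ) : WithBot ℕ∞) ≤ (0 : WithBot ℕ∞) + (l'.toFinset.card : WithBot ℕ∞) :=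
    h1.trans (add_le_add (ringKrullDim_cut g Q hfin) le_rfl)
  rw [zero_add] at h3
  have h4 : b ≤ l'.toFinset.card := by exact_mod_cast h3
  exact h4.trans ((List.toFinset_card_le _).trans (by simp [l']))

include hfin in
theorem isFiniteLength_cut :
    IsFiniteLength A ((A ⧸ Q) ⧸ (Ideal.span (Set.range g) • ⊤ : Submodule A (A ⧸ Q))) := by
  refine Module.length_ne_top_iff.1 (CycAlg.Smul.length_lt_top_of_supportDim_le_zero _ ?_).ne
  have hle0 : ringKrullDim (A ⧸ (Q ⊔ Ideal.span (Set.range g))) ≤ 0 :=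
    ringKrullDim_quotient_le_zero fun q hq h => hfin q hq (le_sup_right.trans h) (le_sup_left.trans h)
  refine le_trans ?_ ((Module.supportDim_quotient_eq_ringKrullDim _).le.trans hle0)
  refine Module.supportDim_le_of_surjective
    (Submodule.liftQ (Q ⊔ Ideal.span (Set.range g))
      ((Submodule.mkQ _).comp (Ideal.Quotient.mkₐ A Q).toLinearMap) ?_) ?_
  · refine sup_le (fun x hx => ?_) (fun x hx => ?_)
    · rw [LinearMap.mem_ker, LinearMap.comp_apply]
      show Submodule.mkQ _ (Ideal.Quotient.mk Q x) = 0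
      rw [Ideal.Quotient.eq_zero_iff_mem.mpr hx, map_zero]
    · rw [LinearMap.mem_ker, LinearMap.comp_apply, Submodule.mkQ_apply, Submodule.Quotient.mk_eq_zero]
      have h1 := Submodule.smul_mem_smul (N := (⊤ : Submodule A (A ⧸ Q))) hx
        (Submodule.mem_top (x := (1 : A ⧸ Q)))
      rwa [← Algebra.algebraMap_eq_smul_one] at h1
  · rw [← LinearMap.range_eq_top, Submodule.range_liftQ, LinearMap.range_eq_top]
    exact (Submodule.mkQ_surjective _).comp Ideal.Quotient.mk_surjective

include hreg hfin hd ha hb hle in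
/-- Serre's formula and positivity against a complete intersection. -/
theorem chi_pos : 0 < IntMult.chi A (A ⧸ Q) (A ⧸ Ideal.span (Set.range g)) := by
  rw [chi_comm, ← ofList_ofFn g, Koszul.TorChi.chi_eq _ hreg.toIsWeaklyRegular, Serre.chi_tensorCx]
  refine ((Serre.dichotomy _ (List.ofFn g) rfl (mem_maximalIdeal g hreg) (A ⧸ Q) inferInstance) ?_).2 ?_
  · rw [Euler.span'_ofFn]
    exact isFiniteLength_cut g Q hfin
  · rw [Module.supportDim_quotient_eq_ringKrullDim, hb, List.length_ofFn,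
      b_eq g hreg Q hfin hd ha hb hle]

include hreg in
/-- A cycle of too small dimension has intersection number zero. -/
theorem chi_zero (hb : ringKrullDim (A ⧸ Q) = b) (hbc : b < c)
    (hfin : ∀ q : Ideal A, q.IsPrime → Ideal.span (Set.range g) ≤ q → Q ≤ q → q = maximalIdeal A) :
    IntMult.chi A (A ⧸ Q) (A ⧸ Ideal.span (Set.range g)) = 0 := by
  rw [chi_comm, ← ofList_ofFn g, Koszul.TorChi.chi_eq _ hreg.toIsWeaklyRegular, Serre.chi_tensorCx]
  refine ((Serre.dichotomy _ (List.ofFn g) rfl (mem_maximalIdeal g hreg) (A ⧸ Q) inferInstance) ?_).1 ?_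
  · rw [Euler.span'_ofFn]
    exact isFiniteLength_cut g Q hfin
  · rw [Module.supportDim_quotient_eq_ringKrullDim, hb, List.length_ofFn]
    exact_mod_cast hbc

include hreg in
/-- Against a sequence regular on the cycle the intersection number is the length. -/
theorem chi_eq_length_of_regular (hw : IsWeaklyRegular (A ⧸ Q) (List.ofFn g)) :
    IntMult.chi A (A ⧸ Q) (A ⧸ Ideal.span (Set.range g)) =
      ((Module.length A (A ⧸ (Q ⊔ Ideal.span (Set.range g)))).toNat : ℤ) := by
  rw [chi_comm, ← ofList_ofFn g, Koszul.TorChi.chi_eq _ hreg.toIsWeaklyRegular, Serre.chi_tensorCx]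
  rw [chi_of_weaklyRegular (List.ofFn g) (A ⧸ Q) hw]
  congr 2
  refine LinearEquiv.length_eq ?_
  have hmap : (Ideal.ofList (List.ofFn g)).map (Ideal.Quotient.mkₐ A Q) = (Ideal.ofList (List.ofFn g)).map (algebraMap A (A ⧸ Q)) := rfl
  exact (Submodule.quotEquivOfEq _ _ (by rw [Ideal.smul_top_eq_map]; rfl)).trans
    ((Submodule.Quotient.restrictScalarsEquiv A _).trans
      (DoubleQuot.quotQuotEquivQuotSupₐ A Q (Ideal.ofList (List.ofFn g))).toLinearEquiv)

include hreg hfin hd ha hb hle in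
/-- For a Cohen-Macaulay cycle the intersection number is the length. -/
theorem chi_eq_length [LocCoh.IsCohenMacaulayLocalRing (A ⧸ Q)] :
    IntMult.chi A (A ⧸ Q) (A ⧸ Ideal.span (Set.range g)) =
      ((Module.length A (A ⧸ (Q ⊔ Ideal.span (Set.range g)))).toNat : ℤ) := by
  have hw : IsWeaklyRegular (A ⧸ Q) (List.ofFn g) := by
    refine (isWeaklyRegular_map_algebraMap_iff (A ⧸ Q) (A ⧸ Q) (List.ofFn g)).mp ?_
    refine (Groth.Agent.H20.CMRegular.isRegular_of_ringKrullDim_le
      ((List.ofFn g).map (algebraMap A (A ⧸ Q))) (fun x hx => ?_) ?_).toIsWeaklyRegular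
    · obtain ⟨y, hy, rfl⟩ := List.mem_map.mp hx
      exact (IsLocalRing.mem_maximalIdeal _).mpr fun hu =>
        not_isUnit_mk (fun h => not_subsingleton (A ⧸ Q) (Ideal.Quotient.subsingleton_iff.mpr h))
          (mem_maximalIdeal g hreg y hy) hu
    · rw [hb, List.length_map, List.length_ofFn, b_eq g hreg Q hfin hd ha hb hle]
      refine (add_le_add (ringKrullDim_cut g Q hfin) le_rfl).trans ?_
      rw [zero_add]
  exact chi_eq_length_of_regular g hreg Q hw

end Groth.Agent.H19.IntMult.RegSeq
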