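import Groth.Agent.H25.TorLES
import Groth.Agent.H22.HomDepth
import Groth.Agent.H20.PDDepth
import Groth.Agent.Lib.Depth.CM
import Groth.Agent.Lib.Depth.SES
import Groth.Agent.H19.IntMult.RegSeq
import Mathlib

/-!
# Vanishing of Tor for Cohen-Macaulay modules meeting properly
-/

set_option autoImplicit false
set_option linter.style.haveILetI false

universe u

open CategoryTheory CategoryTheory.Limits MonoidalCategory IsLocalRing
open scoped TensorProduct

namespace Groth.Agent.H19.IntMult.TorVanish

open Groth.Agent.H25.TorLES Groth.Agent.Lib Groth.Agent.Lib.Regular.PD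

variable {A : Type u} [CommRing A] [IsLocalRing A] [IsNoetherianRing A]

theorem torsion_eq_zero (J : Ideal A) (hJ : ∀ a ∈ maximalIdeal A, ∃ k : ℕ, a ^ k ∈ J)
    {X : Type u} [AddCommGroup X] [Module A X] [Module.Finite A X] (hX : 1 ≤ LocCoh.depth A X)
    {x : X} (hx : ∀ a ∈ J, a • x = 0) : x = 0 := by
  rcases subsingleton_or_nontrivial X with h | h
  · exact Subsingleton.elim _ _
  obtain h' | ⟨a, ha, hreg⟩ := (Depth.Basic.one_le_idealDepth_iff).mp hX
  · exact absurd h' (Depth.Basic.smul_top_ne_top (Ideal.IsPrime.ne_top' (I := maximalIdeal A)))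
  · obtain ⟨k, hk⟩ := hJ a ha
    exact (hreg.pow k).right_eq_zero_of_smul (hx _ hk)

theorem injective_of_natIso {F G : ModuleCat.{u} A ⥤ ModuleCat.{u} A} (e : F ≅ G) {X Y : ModuleCat.{u} A}
    (f : X ⟶ Y) (h : Mono (F.map f)) : Function.Injective (G.map f).hom := by
  have h' := (ModuleCat.mono_iff_injective (F.map f)).mp h
  intro a b hab
  have key : ∀ c, (e.app Y).toLinearEquiv ((F.map f).hom ((e.app X).toLinearEquiv.symm c)) = (G.map f).hom c := fun c => by
    have := congrArg (fun g => g.hom ((e.app X).toLinearEquiv.symm c)) (e.hom.naturality f)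
    refine Eq.trans this ?_
    exact congrArg (G.map f).hom ((e.app X).toLinearEquiv.apply_symm_apply c)
  exact (e.app X).toLinearEquiv.symm.injective (h' ((e.app Y).toLinearEquiv.injective (by rw [key, key, hab])))

theorem vanish (N : ModuleCat.{u} A) [Module.Finite A N] {n : ℕ} (hn : (n : ℕ∞) ≤ LocCoh.depth A N)
    (J : Ideal A) (hJ : ∀ a ∈ maximalIdeal A, ∃ k : ℕ, a ^ k ∈ J) :
    ∀ (k : ℕ) (M : ModuleCat.{u} A) [Module.Finite A M], PDle A M k → k ≤ n →
      (∀ i, ∀ a ∈ J, ∀ z : (T N (i + 1)).obj M, a • z = 0) →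
      (∀ i, IsZero ((T N (i + 1)).obj M)) ∧ ((n - k : ℕ) : ℕ∞) ≤ LocCoh.depth A (N ⊗[A] M) := by
  intro k
  induction k with
  | zero =>
    intro M _ hM _ _
    haveI : Module.Projective A M := (pdle_zero_iff (M := M)).mp hM
    refine ⟨fun i => Lib.Tor.Balance.isZero_tor_succ_of_flat_right N M i, ?_⟩
    haveI : Module.Free A M := Module.free_of_flat_of_isLocalRing
    let b := (Module.Free.chooseBasis A M)
    haveI : Finite (Module.Free.ChooseBasisIndex A M) := inferInstance
    haveI : Fintype (Module.Free.ChooseBasisIndex A M) := Fintype.ofFinite _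
    let e : N ⊗[A] M ≃ₗ[A] (Fin (Fintype.card (Module.Free.ChooseBasisIndex A M)) → N) :=
      (TensorProduct.congr (LinearEquiv.refl A N) (b.reindex (Fintype.equivFin _)).equivFun).trans
        (TensorProduct.piScalarRight A A N _)
    rw [Depth.Basic.depth_congr e, Nat.sub_zero]
    exact Groth.Agent.H22.HomDepth.le_idealDepth_pi (N := N) _ hn _
  | succ k ih =>
    intro M _ hM hk hkill
    obtain ⟨r, f, hf⟩ := exists_free_cover (R := A) M
    have hK : PDle A (LinearMap.ker f) k := (pdle_succ_iff hf k).mp hM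
    let S := f.shortComplexKer
    have hS : S.ShortExact := LinearMap.shortExact_shortComplexKer hf
    haveI : Module.Flat A S.X₂ := inferInstanceAs (Module.Flat A (Fin r → A))
    haveI : Module.Finite A S.X₁ := inferInstanceAs (Module.Finite A (LinearMap.ker f))
    have hF : ∀ i, IsZero ((T N (i + 1)).obj S.X₂) := fun i =>
      Lib.Tor.Balance.isZero_tor_succ_of_flat_right N S.X₂ i
    obtain ⟨hvan, hdep⟩ := ih S.X₁ hK (by omega) (fun i a ha z => by
      haveI : Epi (δ (M := N) hS (i + 1)) := (exact₁ hS (i + 1)).epi_f ((hF i).eq_of_tgt _ _)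
      obtain ⟨w, rfl⟩ := (ModuleCat.epi_iff_surjective _).mp this z
      have hw : a • w = 0 := hkill (i + 1) a ha w
      rw [← map_smul, hw, map_zero])
    have hdep1 : 1 ≤ LocCoh.depth A (N ⊗[A] S.X₁) := le_trans (by exact_mod_cast (by omega : 1 ≤ n - k)) hdep
    haveI := mono_δ (M := N) hS 0 (hF 0)
    have hT1 : IsZero ((T N 1).obj M) := by
      haveI : Subsingleton ((T N 1).obj M) := subsingleton_of_forall_eq 0 fun z => by
        have hinj := (ModuleCat.mono_iff_injective (δ (M := N) hS 0)).mp inferInstance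
        let e := ((zeroIso N).app S.X₁).toLinearEquiv
        refine hinj (e.injective ?_)
        show e ((δ (M := N) hS 0).hom z) = e ((δ (M := N) hS 0).hom (0 : (T N 1).obj S.X₃))
        rw [map_zero, map_zero]
        exact torsion_eq_zero J hJ hdep1 (x := e ((δ (M := N) hS 0).hom z)) fun a ha => by
          have hz : a • z = 0 := hkill 0 a ha z
          rw [← map_smul, ← map_smul]
          exact (congrArg (fun w => e ((δ (M := N) hS 0).hom w)) hz).trans (by simp)
      exact ModuleCat.isZero_of_subsingleton _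
    refine ⟨fun i => ?_, ?_⟩
    · cases i with
      | zero => exact hT1
      | succ i => exact isZero_right (M := N) hS (i + 1) (hF (i + 1)) (hvan i)
    · haveI : Mono ((T N 0).map S.f) := (exact₁ (M := N) hS 0).mono_g (hT1.eq_of_src _ _)
      have hinjf : Function.Injective (LinearMap.lTensor N S.f.hom) :=
        injective_of_natIso (zeroIso N) S.f inferInstance
      refine Depth.SES.le_idealDepth_right (maximalIdeal A) (n := n - (k + 1))
        (f := LinearMap.lTensor N S.f.hom) (g := LinearMap.lTensor N f) hinjf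
        (lTensor_exact N (LinearMap.exact_subtype_ker_map f) hf) (LinearMap.lTensor_surjective N hf) ?_ ?_
      · let e : N ⊗[A] (Fin r → A) ≃ₗ[A] (Fin r → N) := TensorProduct.piScalarRight A A N _
        show _ ≤ LocCoh.depth A (N ⊗[A] (Fin r → A))
        rw [Depth.Basic.depth_congr e]
        refine le_trans ?_ (Groth.Agent.H22.HomDepth.le_idealDepth_pi (N := N) _ hn _)
        exact_mod_cast Nat.sub_le n (k + 1)
      · refine le_trans ?_ hdep
        exact_mod_cast (by omega : n - (k + 1) + 1 ≤ n - k)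

omit [IsLocalRing A] [IsNoetherianRing A] in
theorem smul_tor_eq_zero (N M : ModuleCat.{u} A) {a : A}
    (ha : a ∈ Module.annihilator A M ⊔ Module.annihilator A N) (i : ℕ) (z : (T N i).obj M) : a • z = 0 := by
  have key : ∀ (N M : ModuleCat.{u} A), ∀ b ∈ Module.annihilator A M, ∀ z : (T N i).obj M, b • z = 0 := by
    intro N M b hb z
    let e := (Lib.Tor.Balance.torObjIso (projectiveResolution N) M i).toLinearEquiv
    refine e.injective ?_
    rw [map_smul, map_zero]
    generalize e z = w
    let C := ((tensorRight M).mapHomologicalComplex (ComplexShape.down ℕ)).obj (projectiveResolution N).complex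
    have hC : ∀ y : (projectiveResolution N).complex.X i ⊗[A] M, b • y = 0 := fun y => by
      induction y using TensorProduct.induction_on with
      | zero => exact smul_zero _
      | tmul p m => rw [← TensorProduct.tmul_smul, Module.mem_annihilator.mp hb m, TensorProduct.tmul_zero]
      | add x y hx hy => rw [smul_add, hx, hy, add_zero]
    obtain ⟨v, rfl⟩ := (ModuleCat.epi_iff_surjective (C.homologyπ i)).mp inferInstance w
    rw [← map_smul]
    have : b • v = 0 := (ModuleCat.mono_iff_injective (C.iCycles i)).mp inferInstance (by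
      rw [map_smul, map_zero]; exact hC _)
    rw [this, map_zero]
  obtain ⟨b, hb, c, hc, rfl⟩ := Submodule.mem_sup.mp ha
  rw [add_smul, key N M b hb z, zero_add]
  let e := (Lib.Tor.Balance.torFlipIso N M i).toLinearEquiv
  refine e.injective ?_
  rw [map_smul, map_zero]
  exact key M N c hc (e z)

noncomputable def quotSmulTopEquiv (P Q : Ideal A) :
    ((A ⧸ P) ⧸ (Q • ⊤ : Submodule A (A ⧸ P))) ≃ₗ[A] A ⧸ (P ⊔ Q) :=
  (Submodule.quotEquivOfEq _ _ (by
    rw [Submodule.map_sup]
    have h1 : Submodule.map (Submodule.mkQ P) P = ⊥ := Submodule.mkQ_map_self P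
    rw [h1, bot_sup_eq, ← Submodule.range_mkQ P, ← Submodule.map_top, ← Submodule.map_smul'',
      smul_eq_mul, Ideal.mul_top])).trans
    (Submodule.quotientQuotientEquivQuotient P (P ⊔ Q) le_sup_left)

/-- For Cohen-Macaulay cycles meeting properly in a regular local ring the higher Tor vanish. -/
theorem chi_eq_length [IsRegularLocalRing A] {P Q : Ideal A}
    [LocCoh.IsCohenMacaulayLocalRing (A ⧸ P)] [LocCoh.IsCohenMacaulayLocalRing (A ⧸ Q)]
    (hfin : ∀ q : Ideal A, q.IsPrime → P ≤ q → Q ≤ q → q = maximalIdeal A) {d a b : ℕ}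
    (hd : ringKrullDim A = d) (ha : ringKrullDim (A ⧸ P) = a) (hb : ringKrullDim (A ⧸ Q) = b)
    (hle : d ≤ a + b) :
    IntMult.chi A (A ⧸ Q) (A ⧸ P) = ((Module.length A (A ⧸ (P ⊔ Q))).toNat : ℤ) := by
  have hdepth : ∀ (I : Ideal A) (c : ℕ) [LocCoh.IsCohenMacaulayLocalRing (A ⧸ I)],
      ringKrullDim (A ⧸ I) = c → LocCoh.depth A (A ⧸ I) = c := fun I c h hc => by
    rw [Depth.Basic.depth_eq_of_surjective (R := A) (S := A ⧸ I) (M := A ⧸ I) Ideal.Quotient.mk_surjective]
    have h1 := (Module.supportDim_self_eq_ringKrullDim (R := A ⧸ I)).symm.le.trans h.supportDim_eq_depth.le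
    have h2 := h.supportDim_eq_depth.ge.trans (Module.supportDim_self_eq_ringKrullDim (R := A ⧸ I)).le
    rw [hc] at h1 h2
    exact le_antisymm (by exact_mod_cast h2) (by exact_mod_cast h1)
  have hemb : ((maximalIdeal A).spanFinrank : WithBot ℕ∞) = d := by
    rw [← hd]; exact IsRegularLocalRing.spanFinrank_maximalIdeal
  have hemb' : (maximalIdeal A).spanFinrank = d := by exact_mod_cast hemb
  have had : a ≤ d := by
    have := ringKrullDim_le_of_surjective (Ideal.Quotient.mk P) Ideal.Quotient.mk_surjective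
    rw [hd, ha] at this
    exact_mod_cast this
  have hPtop : P ≠ ⊤ := fun h => by
    subst h
    rw [ringKrullDim_eq_bot_of_subsingleton] at ha
    exact WithBot.bot_ne_coe ha
  haveI : Nontrivial (A ⧸ P) := Ideal.Quotient.nontrivial_iff.mpr hPtop
  have hpd : PDle A (A ⧸ P) (d - a) := by
    rw [Groth.Agent.H20.PDDepth.pdle_iff_le_depth_add, hdepth P a ha, hemb']
    exact_mod_cast (by omega : d ≤ a + (d - a))
  have hJ : ∀ x ∈ maximalIdeal A, ∃ k : ℕ, x ^ k ∈ P ⊔ Q := fun x hx => by
    show x ∈ (P ⊔ Q).radical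
    rw [Ideal.radical_eq_sInf, Submodule.mem_sInf]
    rintro q ⟨hle', hq⟩
    rwa [hfin q hq (le_sup_left.trans hle') (le_sup_right.trans hle')]
  obtain ⟨hvan, -⟩ := vanish (ModuleCat.of A (A ⧸ Q)) (n := b) (hdepth Q b hb).ge (P ⊔ Q) hJ (d - a)
    (ModuleCat.of A (A ⧸ P)) hpd (by omega) (fun i x hx z => smul_tor_eq_zero _ _ (by
      rw [show Module.annihilator A (ModuleCat.of A (A ⧸ P)) = P from Ideal.annihilator_quotient,
        show Module.annihilator A (ModuleCat.of A (A ⧸ Q)) = Q from Ideal.annihilator_quotient]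
      exact hx) _ z)
  rw [IntMult.chi, finsum_eq_single _ 0 fun i hi => by
    obtain ⟨j, rfl⟩ := Nat.exists_eq_succ_of_ne_zero hi
    have := ModuleCat.subsingleton_of_isZero (hvan j)
    rw [Module.length_eq_zero, ENat.toNat_zero, Nat.cast_zero, mul_zero]]
  rw [pow_zero, one_mul]
  congr 2
  refine LinearEquiv.length_eq ?_
  exact (((zeroIso (ModuleCat.of A (A ⧸ Q))).app (ModuleCat.of A (A ⧸ P))).toLinearEquiv).trans
    ((TensorProduct.quotTensorEquivQuotSMul (A ⧸ P) Q).trans
      (quotSmulTopEquiv P Q))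

end Groth.Agent.H19.IntMult.TorVanish
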