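import Groth.Agent.Lib.Tor.BaseChange
import Groth.Agent.H19.Koszul.TorChi
import Groth.Agent.H19.IntMult.TorVanish
import Groth.Agent.Lib.Koszul.Depth
import Groth.Agent.Lib.Koszul.Serre
import Mathlib

/-!
# Tor independence of ideals cut out locally by compatible regular sequences
-/

set_option autoImplicit false
set_option linter.style.haveILetI false

universe u

open CategoryTheory CategoryTheory.Limits MonoidalCategory IsLocalRing RingTheory.Sequence
open scoped TensorProduct

namespace Groth.Agent.H19.IntMult.TorIndep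

open Groth.Agent.Lib

variable {A : Type u} [CommRing A]

/-- A class dying in `Tor(N, A' ⊗ M)` for a localisation `A'` is killed by a denominator. -/
theorem exists_smul_eq_zero (S : Submonoid A) (A' : Type u) [CommRing A'] [Algebra A A'] [IsLocalization S A']
    (N M : ModuleCat.{u} A) (i : ℕ)
    (h : Subsingleton (((CategoryTheory.Tor (ModuleCat.{u} A) (i + 1)).obj N).obj (ModuleCat.of A (A' ⊗[A] M)) : ModuleCat.{u} A))
    (z : ((CategoryTheory.Tor (ModuleCat.{u} A) (i + 1)).obj N).obj M) : ∃ s ∈ S, s • z = 0 := by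
  let P := (projectiveResolution N).complex
  let M' := ModuleCat.of A (A' ⊗[A] M)
  let e := (Tor.Balance.torObjIso (projectiveResolution N) M (i + 1)).toLinearEquiv
  let e' := (Tor.Balance.torObjIso (projectiveResolution N) M' (i + 1)).toLinearEquiv
  let K := ((tensorRight M).mapHomologicalComplex (ComplexShape.down ℕ)).obj P
  let K' := ((tensorRight M').mapHomologicalComplex (ComplexShape.down ℕ)).obj P
  suffices H : ∀ w : K.homology (i + 1), ∃ s ∈ S, s • w = 0 by
    obtain ⟨s, hs, h0⟩ := H (e z)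
    exact ⟨s, hs, e.injective (by rw [map_smul, map_zero]; exact h0)⟩
  intro w
  obtain ⟨c, rfl⟩ := (ModuleCat.epi_iff_surjective (K.homologyπ (i + 1))).1 inferInstance w
  let ι : M →ₗ[A] A' ⊗[A] M := TensorProduct.mk A A' M 1
  let c₀ : P.X (i + 1) ⊗[A] M := K.iCycles (i + 1) c
  have hc₀ : LinearMap.rTensor M (P.d (i + 1) i).hom c₀ = 0 := by
    change (K.iCycles (i + 1) ≫ K.d (i + 1) i) c = 0
    rw [HomologicalComplex.iCycles_d]
    rfl
  haveI : Subsingleton (K'.homology (i + 1)) := e'.symm.injective.subsingleton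
  have hK' : K'.ExactAt (i + 1) :=
    (K'.exactAt_iff_isZero_homology _).2 (ModuleCat.isZero_of_subsingleton _)
  rw [HomologicalComplex.exactAt_iff' _ (i + 2) (i + 1) i (by simp) (by simp),
    ShortComplex.moduleCat_exact_iff] at hK'
  obtain ⟨w', hw'⟩ := hK' (LinearMap.lTensor (P.X (i + 1)) ι c₀) (by
    change LinearMap.rTensor (A' ⊗[A] M) (P.d (i + 1) i).hom (LinearMap.lTensor (P.X (i + 1)) ι c₀) = 0
    rw [← LinearMap.comp_apply, LinearMap.rTensor_comp_lTensor, ← LinearMap.lTensor_comp_rTensor,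
      LinearMap.comp_apply, hc₀, map_zero])
  change LinearMap.rTensor (A' ⊗[A] M) (P.d (i + 2) (i + 1)).hom w' = LinearMap.lTensor (P.X (i + 1)) ι c₀ at hw'
  have key : ∀ j, IsLocalizedModule S (LinearMap.lTensor (P.X j) ι) := fun j => by
    have h1 : LinearMap.lTensor (P.X j) ι =
        (TensorProduct.leftComm A A' (P.X j) M).toLinearMap ∘ₗ TensorProduct.mk A A' (P.X j ⊗[A] M) 1 :=
      TensorProduct.ext' fun p m => rfl
    haveI : IsLocalizedModule S (TensorProduct.mk A A' (P.X j ⊗[A] M) 1) :=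
      (isLocalizedModule_iff_isBaseChange S A' _).mpr (TensorProduct.isBaseChange _ _ _)
    rw [h1]
    exact IsLocalizedModule.of_linearEquiv S _ _
  haveI := key
  obtain ⟨⟨y, s⟩, hy⟩ := IsLocalizedModule.surj S (LinearMap.lTensor (P.X (i + 2)) ι) w'
  obtain ⟨t, ht⟩ := IsLocalizedModule.exists_of_eq (S := S) (f := LinearMap.lTensor (P.X (i + 1)) ι)
    (x₁ := (s : A) • c₀) (x₂ := LinearMap.rTensor M (P.d (i + 2) (i + 1)).hom y) (by
      rw [map_smul, ← hw', ← map_smul]
      refine (congrArg _ hy).trans ?_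
      rw [← LinearMap.comp_apply, LinearMap.rTensor_comp_lTensor, ← LinearMap.lTensor_comp_rTensor,
        LinearMap.comp_apply])
  refine ⟨(t : A) * s, mul_mem t.2 s.2, ?_⟩
  rw [← map_smul]
  have hz : K.toCycles (i + 2) (i + 1) ((t : A) • y) = ((t : A) * s) • c := by
    refine (ModuleCat.mono_iff_injective (K.iCycles (i + 1))).1 inferInstance ?_
    rw [← ConcreteCategory.comp_apply, HomologicalComplex.toCycles_i, map_smul (K.iCycles (i + 1)).hom, mul_smul]
    exact (map_smul (LinearMap.rTensor M (P.d (i + 2) (i + 1)).hom) (t : A) y).trans ht.symm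
  rw [← hz, ← ConcreteCategory.comp_apply, HomologicalComplex.toCycles_comp_homologyπ]
  rfl

theorem subsingleton_tor_of_regular (l : List A) (hl : IsWeaklyRegular A l) (M : ModuleCat.{u} A)
    (hM : IsWeaklyRegular M l) (i : ℕ) :
    Subsingleton (((CategoryTheory.Tor (ModuleCat.{u} A) (i + 1)).obj (ModuleCat.of A (A ⧸ Ideal.ofList l))).obj M : ModuleCat.{u} A) := by
  obtain ⟨e⟩ := Koszul.TorChi.tor_iso l hl M (i + 1)
  have h0 := Lib.Koszul.Depth.isZero_of_regular l l M hM (fun a ha => Ideal.subset_span ha)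
    (-((i + 1 : ℕ) : ℤ)) (by omega)
  exact ModuleCat.subsingleton_of_isZero ((h0.of_iso (Lib.Koszul.Tensor.tensorHomologyIso l M _)).of_iso e)

theorem subsingleton_tor (I J : Ideal A)
    (h : ∀ p : Ideal A, ∀ _ : p.IsPrime, I ≤ p → J ≤ p → ∃ l : List (Localization.AtPrime p),
      IsWeaklyRegular (Localization.AtPrime p) l ∧ Ideal.ofList l = I.map (algebraMap A _) ∧
        IsWeaklyRegular (Localization.AtPrime p ⊗[A] (A ⧸ J)) l) (i : ℕ) :
    Subsingleton (DRing.Tor A (i + 1) (A ⧸ I) (A ⧸ J)) := by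
  refine subsingleton_of_forall_eq 0 fun z => ?_
  let C : Ideal A := LinearMap.ker (LinearMap.toSpanSingleton A _ z)
  suffices hC : C = ⊤ by
    have : (1 : A) ∈ C := hC ▸ Submodule.mem_top
    have h' : (1 : A) • z = 0 := this
    rwa [one_smul] at h'
  by_contra hC
  obtain ⟨p, hp, hCp⟩ := Ideal.exists_le_maximal C hC
  haveI := hp.isPrime
  have ann : ∀ a ∈ I ⊔ J, a • z = 0 := fun a ha => by
    refine TorVanish.smul_tor_eq_zero _ _ ?_ _ z
    rw [show Module.annihilator A (ModuleCat.of A (A ⧸ I)) = I from Ideal.annihilator_quotient,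
      show Module.annihilator A (ModuleCat.of A (A ⧸ J)) = J from Ideal.annihilator_quotient, sup_comm]
    exact ha
  have hIJ : I ⊔ J ≤ p := fun a ha => hCp (show a • z = 0 from ann a ha)
  obtain ⟨l, hl, hlI, hlJ⟩ := h p hp.isPrime (le_sup_left.trans hIJ) (le_sup_right.trans hIJ)
  let A' := Localization.AtPrime p
  let M' := A' ⊗[A] (A ⧸ J)
  obtain ⟨φ, hφ⟩ := Tor.BaseChange.tor_flat_baseChange (A := A) (A' := A') (P' := M') (A ⧸ I) (i + 1)
  let q : ModuleCat.of A' (A' ⊗[A] (A ⧸ I)) ≅ ModuleCat.of A' (A' ⧸ Ideal.ofList l) :=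
    ((Algebra.TensorProduct.quotIdealMapEquivTensorQuot A' I).toLinearEquiv.symm.trans
      (Submodule.quotEquivOfEq _ _ hlI.symm)).toModuleIso
  have hsub := subsingleton_tor_of_regular l hl (ModuleCat.of A' M') hlJ i
  have h1 : Subsingleton (DRing.Tor A' (i + 1) M' (A' ⊗[A] (A ⧸ I))) :=
    ((Tor.Balance.torFlipIso _ _ _ ≪≫ (((CategoryTheory.Tor (ModuleCat.{u} A') (i + 1)).mapIso q).app _))).toLinearEquiv.injective.subsingleton
  have h2 : Subsingleton (DRing.Tor A (i + 1) M' (A ⧸ I)) := hφ.injective.subsingleton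
  have h3 : Subsingleton (DRing.Tor A (i + 1) (A ⧸ I) M') :=
    (Tor.Balance.torFlipIso _ _ _).toLinearEquiv.injective.subsingleton
  obtain ⟨s, hs, hs0⟩ := exists_smul_eq_zero p.primeCompl A' (ModuleCat.of A (A ⧸ I)) (ModuleCat.of A (A ⧸ J)) i h3 z
  exact hs (hCp (show s • z = 0 from hs0))

end Groth.Agent.H19.IntMult.TorIndep
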