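import Groth.Agent.H19.IntMult.Diagonal
import Groth.Agent.H19.IntMult.TorIndep
import Groth.Agent.H47.ChartPullback
import Groth.Agent.Lib.RegImmFlat.Basic
import Groth.Agent.H20.CMRegular
import Mathlib

/-!
# Proper intersections of regular immersions in Cohen-Macaulay schemes
-/

set_option autoImplicit false
set_option linter.style.haveILetI false

universe u

open CategoryTheory CategoryTheory.Limits AlgebraicGeometry IsLocalRing RingTheory.Sequence
open scoped TensorProduct

namespace Groth.Agent.H19.IntMult.ProperCI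

open Groth.Agent.Lib Groth.Agent.Lib.Cyc Groth.Agent.H26

theorem quotient_dim_le {R : Type u} [CommRing R] (I : Ideal R) (n : ℕ)
    (h : ∀ q : PrimeSpectrum R, I ≤ q.asIdeal → (n : ℕ∞) ≤ Order.height q) :
    ringKrullDim (R ⧸ I) + n ≤ ringKrullDim R := by
  rw [ringKrullDim_quotient]
  rcases isEmpty_or_nonempty (PrimeSpectrum.zeroLocus (I : Set R)) with he | hne
  · rw [Order.krullDim_eq_bot, WithBot.bot_add]; exact bot_le
  rw [Order.krullDim_eq_iSup_length, WithBot.coe_iSup (OrderTop.bddAbove _)]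
  have key : ∀ l : LTSeries (PrimeSpectrum.zeroLocus (I : Set R)),
      ((l.length + n : ℕ) : WithBot ℕ∞) ≤ ringKrullDim R := fun l => by
    obtain ⟨p, hp1, hp2⟩ := Order.exists_series_of_le_height l.head.1 (h _ l.head.2)
    have := Order.LTSeries.length_le_krullDim (p.smash (l.map Subtype.val fun _ _ h => h) (by rw [hp1]; rfl))
    refine le_trans ?_ this
    simp [RelSeries.smash, LTSeries.map, hp2, add_comm]
  rw [← WithBot.coe_iSup (OrderTop.bddAbove _), show (n : WithBot ℕ∞) = ((n : ℕ∞) : WithBot ℕ∞) from rfl,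
    ← WithBot.coe_add, ENat.iSup_add, WithBot.coe_iSup (OrderTop.bddAbove _)]
  exact iSup_le fun l => by simpa using key l

theorem height_fromSpecStalk {X : Scheme.{u}} (x : X) (q : PrimeSpectrum (X.presheaf.stalk x)) {n : ℕ}
    (h : (n : WithBot ℕ∞) ≤ ringKrullDim (X.presheaf.stalk (X.fromSpecStalk x q))) :
    (n : ℕ∞) ≤ Order.height q := by
  let y := X.fromSpecStalk x q
  have hy : y ⤳ x := DimFun.fromSpecStalk_specializes_self x q
  let g : PrimeSpectrum (X.presheaf.stalk y) → PrimeSpectrum (X.presheaf.stalk x) :=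
    PrimeSpectrum.comap (X.presheaf.stalkSpecializes hy).hom
  have hg : ∀ p, X.fromSpecStalk x (g p) = X.fromSpecStalk y p := fun p => by
    rw [← Scheme.SpecMap_stalkSpecializes_fromSpecStalk hy]; rfl
  have hmono : StrictMono g := fun p p' hlt => by
    refine lt_of_le_of_ne (Ideal.comap_mono hlt.le) fun he => hlt.ne ?_
    exact DimFun.fromSpecStalk_injective y (by rw [← hg, ← hg, he])
  have hq : g (closedPoint (X.presheaf.stalk y)) = q :=
    (DimFun.genPrime_eq x y hy).symm.trans (DimFun.eq_genPrime x q).symm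
  have h1 : (n : WithBot ℕ∞) ≤ ((Order.height (closedPoint (X.presheaf.stalk y)) : ℕ∞) : WithBot ℕ∞) := by
    refine h.trans (le_of_eq ?_)
    exact Order.height_top_eq_krullDim.symm
  rw [← hq]
  exact (WithBot.coe_le_coe.mp h1).trans (Order.height_le_height_apply_of_strictMono g hmono _)

theorem exists_ge_of_stalk {W X : Scheme.{u}} (w : W ⟶ X) (z : W) (hs : Function.Surjective (w.stalkMap z).hom)
    (q : PrimeSpectrum (X.presheaf.stalk (w z))) (hq : RingHom.ker (w.stalkMap z).hom ≤ q.asIdeal) :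
    ∃ z' : W, w z' = X.fromSpecStalk (w z) q := by
  obtain ⟨p, hp⟩ : q ∈ Set.range (PrimeSpectrum.comap (w.stalkMap z).hom) := by
    rw [range_comap_of_surjective _ _ hs]; exact hq
  refine ⟨W.fromSpecStalk z p, ?_⟩
  rw [← hp, ← Scheme.Hom.comp_apply, ← Scheme.SpecMap_stalkMap_fromSpecStalk]
  rfl

variable {X Y Z : Scheme.{u}} (iY : Y ⟶ X) (iZ : Z ⟶ X) [IsClosedImmersion iY] [IsClosedImmersion iZ]

theorem ker_app {U : X.Opens} (hU : IsAffineOpen U) :
    RingHom.ker ((pullback.fst iY iZ ≫ iY).app U).hom =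
      RingHom.ker (iY.app U).hom ⊔ RingHom.ker (iZ.app U).hom := by
  have sq : IsPullback (pullback.fst iY iZ) (pullback.snd iY iZ) iY iZ := IsPullback.of_hasPullback iY iZ
  let w := pullback.fst iY iZ ≫ iY
  have hw : w = pullback.snd iY iZ ≫ iZ := pullback.condition
  have hpo := H47.ChartPullback.isPushout_chart sq hU (hU.preimage iY) le_rfl (hU.preimage iZ) le_rfl
  have hb : Function.Surjective (iY.appLE U (iY ⁻¹ᵁ U) le_rfl).hom := by
    rw [← Scheme.Hom.app_eq_appLE]; exact iY.app_surjective U hU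
  have ha : Function.Surjective (iZ.appLE U (iZ ⁻¹ᵁ U) le_rfl).hom := by
    rw [← Scheme.Hom.app_eq_appLE]; exact iZ.app_surjective U hU
  have hk := RegImmFlat.ker_of_isPushout hpo hb
  let O := pullback.fst iY iZ ⁻¹ᵁ (iY ⁻¹ᵁ U) ⊓ pullback.snd iY iZ ⁻¹ᵁ (iZ ⁻¹ᵁ U)
  have hO : O = w ⁻¹ᵁ U := by
    refine le_antisymm inf_le_left (le_inf le_rfl fun p hp => ?_)
    show iZ (pullback.snd iY iZ p) ∈ U
    rw [← Scheme.Hom.comp_apply, ← pullback.condition]
    exact hp
  have key : ∀ (O' : (pullback iY iZ).Opens) (e : O' ≤ w ⁻¹ᵁ U), O' = w ⁻¹ᵁ U →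
      RingHom.ker (w.appLE U O' e).hom = RingHom.ker (w.app U).hom := by
    rintro O' e rfl; rw [Scheme.Hom.app_eq_appLE]
  show RingHom.ker (w.app U).hom = _
  rw [← key O hO.le hO]
  have h2 : w.appLE U O hO.le = iZ.appLE U (iZ ⁻¹ᵁ U) le_rfl ≫
      (pullback.snd iY iZ).appLE (iZ ⁻¹ᵁ U) O inf_le_right := by
    rw [Scheme.Hom.appLE_comp_appLE]; congr 1
  rw [h2, CommRingCat.hom_comp, ← RingHom.comap_ker]
  erw [hk]
  rw [Ideal.comap_map_of_surjective _ ha, ← RingHom.ker_eq_comap_bot, Scheme.Hom.app_eq_appLE, Scheme.Hom.app_eq_appLE]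

theorem ker_stalkMap {U : X.Opens} (hU : IsAffineOpen U) (z : ↥(pullback iY iZ))
    (hz : (pullback.fst iY iZ ≫ iY) z ∈ U) :
    RingHom.ker ((pullback.fst iY iZ ≫ iY).stalkMap z).hom =
      (RingHom.ker (iY.app U).hom).map (X.presheaf.germ U _ hz).hom ⊔
        (RingHom.ker (iZ.app U).hom).map (X.presheaf.germ U _ hz).hom := by
  haveI : IsClosedImmersion ((pullback.fst iY iZ ≫ iY) ∣_ U) := inferInstance
  rw [RegImmKind.ker_stalkMap _ hU z hz, ker_app iY iZ hU, Ideal.map_sup]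

theorem gens_germ {κ : RegImm.Kind} {c : ℕ} (i : Y ⟶ X) [IsClosedImmersion i]
    (h : RegImm.IsRegularImmersionOfCodim κ c i) (x : X) (y : Y) (hy : i y = x) {U : X.Opens}
    (hU : IsAffineOpen U) (hxU : x ∈ U) :
    ∃ fs : List (X.presheaf.stalk x), fs.length = c ∧
      Ideal.ofList fs = (RingHom.ker (i.app U).hom).map (X.presheaf.germ U x hxU).hom := by
  subst hy
  obtain ⟨⟨V, hV⟩, hyV, hcl, rs, hlen, -, hker⟩ := h.2 y
  haveI := hcl
  refine ⟨rs.map (X.presheaf.germ V (i y) hyV).hom, by simp [hlen], ?_⟩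
  rw [← RegImmKind.ker_stalkMap i hU y hxU, RegImmKind.ker_stalkMap i hV y hyV, hker, Ideal.map_ofList]

/-- At a point of a proper intersection the two sequences concatenate to a regular sequence. -/
theorem local_regular [IsLocallyNoetherian X] {a b : ℕ} {κ κ' : RegImm.Kind}
    (hY : RegImm.IsRegularImmersionOfCodim κ a iY) (hZ : RegImm.IsRegularImmersionOfCodim κ' b iZ)
    (hcodim : ∀ w : ↥(pullback iY iZ), ((a + b : ℕ) : WithBot ℕ∞) ≤
      ringKrullDim (X.presheaf.stalk ((pullback.fst iY iZ ≫ iY) w)))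
    {U : X.Opens} (hU : IsAffineOpen U) (z : ↥(pullback iY iZ)) (hz : (pullback.fst iY iZ ≫ iY) z ∈ U)
    [LocCoh.IsCohenMacaulayLocalRing (X.presheaf.stalk ((pullback.fst iY iZ ≫ iY) z))] :
    ∃ fs gs : List (X.presheaf.stalk ((pullback.fst iY iZ ≫ iY) z)), fs.length = a ∧ gs.length = b ∧
      Ideal.ofList fs = (RingHom.ker (iY.app U).hom).map (X.presheaf.germ U _ hz).hom ∧
      Ideal.ofList gs = (RingHom.ker (iZ.app U).hom).map (X.presheaf.germ U _ hz).hom ∧
      IsWeaklyRegular (X.presheaf.stalk ((pullback.fst iY iZ ≫ iY) z)) (gs ++ fs) := by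
  obtain ⟨fs, hfl, hfs⟩ := gens_germ iY hY ((pullback.fst iY iZ ≫ iY) z) (pullback.fst iY iZ z)
    (Scheme.Hom.comp_apply _ _ _).symm hU hz
  obtain ⟨gs, hgl, hgs⟩ := gens_germ iZ hZ ((pullback.fst iY iZ ≫ iY) z) (pullback.snd iY iZ z)
    ((Scheme.Hom.comp_apply _ _ _).symm.trans (by rw [pullback.condition])) hU hz
  refine ⟨fs, gs, hfl, hgl, hfs, hgs, ?_⟩
  have hk : Ideal.ofList (gs ++ fs) = RingHom.ker ((pullback.fst iY iZ ≫ iY).stalkMap z).hom := by
    rw [ker_stalkMap iY iZ hU z hz, Ideal.ofList_append, hfs, hgs, sup_comm]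
  refine (Groth.Agent.H20.CMRegular.isRegular_of_ringKrullDim_le (gs ++ fs) (fun r hr =>
    le_maximalIdeal (RingHom.ker_ne_top _) (hk.le (Ideal.subset_span hr))) ?_).toIsWeaklyRegular
  rw [hk, List.length_append, hfl, hgl, add_comm b a]
  refine quotient_dim_le _ (a + b) fun q hq => height_fromSpecStalk _ q ?_
  obtain ⟨z', hz'⟩ := exists_ge_of_stalk _ z ((pullback.fst iY iZ ≫ iY).stalkMap_surjective z) q hq
  rw [← hz']
  exact hcodim z'

theorem regularImmersion [IsLocallyNoetherian X] {a b : ℕ} {κ κ' : RegImm.Kind}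
    (hY : RegImm.IsRegularImmersionOfCodim κ a iY) (hZ : RegImm.IsRegularImmersionOfCodim κ' b iZ)
    (hCM : ∀ x : X, LocCoh.IsCohenMacaulayLocalRing (X.presheaf.stalk x))
    (hcodim : ∀ w : ↥(pullback iY iZ), ((a + b : ℕ) : WithBot ℕ∞) ≤
      ringKrullDim (X.presheaf.stalk ((pullback.fst iY iZ ≫ iY) w))) :
    RegImm.IsRegularImmersionOfCodim RegImm.Kind.regular (a + b) (pullback.fst iY iZ ≫ iY) := by
  refine Diagonal.isRegularImmersionOfCodim_of_stalk _ _ fun z => ?_
  obtain ⟨U, hU, hzU, -⟩ := exists_isAffineOpen_mem_and_subset (x := (pullback.fst iY iZ ≫ iY) z)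
    (U := (⊤ : X.Opens)) trivial
  haveI := hCM ((pullback.fst iY iZ ≫ iY) z)
  obtain ⟨fs, gs, hfl, hgl, hfs, hgs, hreg⟩ := local_regular iY iZ hY hZ hcodim hU z hzU
  refine ⟨gs ++ fs, by rw [List.length_append, hfl, hgl, add_comm], hreg, ?_⟩
  rw [ker_stalkMap iY iZ hU z hzU, Ideal.ofList_append, hfs, hgs, sup_comm]

/-- Tor independence of a proper intersection of regular immersions. -/
theorem torIndep [IsLocallyNoetherian X] {a b : ℕ} {κ κ' : RegImm.Kind}
    (hY : RegImm.IsRegularImmersionOfCodim κ a iY) (hZ : RegImm.IsRegularImmersionOfCodim κ' b iZ)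
    (hCM : ∀ x : X, LocCoh.IsCohenMacaulayLocalRing (X.presheaf.stalk x))
    (hcodim : ∀ w : ↥(pullback iY iZ), ((a + b : ℕ) : WithBot ℕ∞) ≤
      ringKrullDim (X.presheaf.stalk ((pullback.fst iY iZ ≫ iY) w)))
    {U : X.Opens} (hU : IsAffineOpen U) (i : ℕ) :
    Subsingleton (DRing.Tor Γ(X, U) (i + 1) (Γ(X, U) ⧸ RingHom.ker (iY.app U).hom)
      (Γ(X, U) ⧸ RingHom.ker (iZ.app U).hom)) := by
  refine TorIndep.subsingleton_tor _ _ (fun p hp hI hJ => ?_) i
  let x := hU.fromSpec ⟨p, hp⟩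
  have hxU : x ∈ U := hU.range_fromSpec.subset ⟨⟨p, hp⟩, rfl⟩
  have hpx : hU.primeIdealOf ⟨x, hxU⟩ = ⟨p, hp⟩ :=
    hU.fromSpec.isOpenEmbedding.injective (hU.fromSpec_primeIdealOf ⟨x, hxU⟩)
  have hmem : ∀ {W : Scheme.{u}} (i : W ⟶ X) [IsClosedImmersion i],
      RingHom.ker (i.app U).hom ≤ p → ∃ y, i y = x := fun {W} i _ hle => by
    by_contra hn
    obtain ⟨g, hg, hgx⟩ := hU.exists_basicOpen_le (V := ⟨(Set.range i)ᶜ, i.isClosedEmbedding.isClosed_range.isOpen_compl⟩)
      ⟨x, fun h => hn h⟩ hxU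
    have hnil : IsNilpotent (i.app U g) := by
      rw [Scheme.isNilpotent_iff_basicOpen_eq_bot_of_isCompact (hU.preimage i).isCompact,
        ← Scheme.preimage_basicOpen]
      ext w
      simp only [TopologicalSpace.Opens.coe_bot, Set.mem_empty_iff_false, iff_false]
      exact fun hw => hg hw ⟨w, rfl⟩
    obtain ⟨m, hm⟩ := hnil
    rw [← map_pow] at hm
    have hgp : g ∈ p := hp.mem_of_pow_mem m (hle hm)
    have := (Groth.Agent.Lib.Synt92.KRImm.mem_basicOpen_iff hU g ⟨x, hxU⟩).1 hgx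
    rw [hpx] at this
    exact this hgp
  obtain ⟨y, hy⟩ := hmem iY hI
  obtain ⟨z', hz'⟩ := hmem iZ hJ
  obtain ⟨z, hz1, -⟩ := Scheme.Pullback.exists_preimage_pullback (f := iY) (g := iZ) y z' (hy.trans hz'.symm)
  have hzx : (pullback.fst iY iZ ≫ iY) z = x := by rw [Scheme.Hom.comp_apply, hz1, hy]
  have hz : (pullback.fst iY iZ ≫ iY) z ∈ U := hzx ▸ hxU
  haveI := hCM ((pullback.fst iY iZ ≫ iY) z)
  obtain ⟨fs, gs, -, -, hfs, hgs, hreg⟩ := local_regular iY iZ hY hZ hcodim hU z hz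
  have hp' : (hU.primeIdealOf ⟨_, hz⟩).asIdeal = p := by
    rw [show (⟨_, hz⟩ : U) = ⟨x, hxU⟩ from Subtype.ext hzx, hpx]
  letI := TopCat.Presheaf.algebra_section_stalk X.presheaf (⟨_, hz⟩ : U)
  haveI := hU.isLocalization_stalk ⟨_, hz⟩
  haveI : IsLocalization p.primeCompl (X.presheaf.stalk ((pullback.fst iY iZ ≫ iY) z)) := by
    have key : ∀ (P : Ideal Γ(X, U)) (_ : P.IsPrime), P = p →
        IsLocalization.AtPrime (X.presheaf.stalk ((pullback.fst iY iZ ≫ iY) z)) P →
        IsLocalization p.primeCompl (X.presheaf.stalk ((pullback.fst iY iZ ≫ iY) z)) := by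
      rintro P hP rfl q; exact q
    exact key _ _ hp' (hU.isLocalization_stalk ⟨_, hz⟩)
  let e : X.presheaf.stalk ((pullback.fst iY iZ ≫ iY) z) ≃ₐ[Γ(X, U)] Localization.AtPrime p :=
    IsLocalization.algEquiv p.primeCompl _ _
  have hmap : ∀ (K : Ideal Γ(X, U)) (rs : List (X.presheaf.stalk ((pullback.fst iY iZ ≫ iY) z))),
      Ideal.ofList rs = K.map (X.presheaf.germ U _ hz).hom →
      Ideal.ofList (rs.map e) = K.map (algebraMap Γ(X, U) (Localization.AtPrime p)) := fun K rs h => by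
    have h1 : (Ideal.ofList rs).map e.toRingEquiv.toRingHom = Ideal.ofList (rs.map e) := Ideal.map_ofList _ _
    rw [← h1, h, Ideal.map_map]
    congr 1
    exact RingHom.ext fun r => e.commutes r
  haveI : IsNoetherianRing Γ(X, U) := IsLocallyNoetherian.component_noetherian ⟨U, hU⟩
  have hr : IsWeaklyRegular (Localization.AtPrime p) ((gs ++ fs).map e) := by
    refine (AddEquiv.isWeaklyRegular_congr (e := e.toRingEquiv.toAddEquiv) (List.forall₂_map_right_iff.mpr
      (List.forall₂_same.mpr fun r _ m => map_mul e r m))).mp hreg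
  rw [List.map_append] at hr
  refine ⟨fs.map e, ?_, hmap _ fs hfs, ?_⟩
  · have hperm : IsWeaklyRegular (Localization.AtPrime p) (fs.map e ++ gs.map e) := by
      refine hr.of_perm_of_subset_jacobson_annihilator List.perm_append_comm fun r hr' => ?_
      have hm : r ∈ IsLocalRing.maximalIdeal (Localization.AtPrime p) := by
        rw [← Localization.AtPrime.map_eq_maximalIdeal (I := p)]
        rcases List.mem_append.1 hr' with h | h
        · have h' : r ∈ Ideal.ofList (gs.map e) := Ideal.subset_span h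
          rw [hmap _ gs hgs] at h'
          exact Ideal.map_mono hJ h'
        · have h' : r ∈ Ideal.ofList (fs.map e) := Ideal.subset_span h
          rw [hmap _ fs hfs] at h'
          exact Ideal.map_mono hI h'
      rw [IsLocalRing.jacobson_eq_maximalIdeal]
      · exact hm
      · intro htop
        have h1 : (1 : Localization.AtPrime p) ∈ Module.annihilator (Localization.AtPrime p) (Localization.AtPrime p) :=
          htop ▸ Submodule.mem_top
        exact one_ne_zero ((one_mul (1 : Localization.AtPrime p)).symm.trans (Module.mem_annihilator.mp h1 1))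
    exact ((isWeaklyRegular_append_iff _ _ _).mp hperm).1
  · have h2 := ((isWeaklyRegular_append_iff _ _ _).mp hr).2
    refine (LinearEquiv.isWeaklyRegular_congr ?_ _).mp h2
    exact ((Submodule.quotEquivOfEq _ _ (by rw [smul_eq_mul, Ideal.mul_top, hmap _ gs hgs])).trans
      (Algebra.TensorProduct.quotIdealMapEquivTensorQuot (Localization.AtPrime p)
        (RingHom.ker (iZ.app U).hom)).toLinearEquiv)

end Groth.Agent.H19.IntMult.ProperCI
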