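import Groth.Agent.H19.IntMult.Transversal
import Groth.Agent.H19.IntMult.ProperCI
import Groth.Agent.H19.IntMult.Dims
import Groth.Agent.H75.RedSub
import Mathlib

/-!
# Components of multiplicity one
-/

set_option autoImplicit false
set_option linter.style.haveILetI false

universe u

open CategoryTheory CategoryTheory.Limits AlgebraicGeometry IsLocalRing

namespace Groth.Agent.H19.IntMult.MultOne

open Groth.Agent.Lib Groth.Agent.Lib.Cyc Groth.Agent.H26

theorem cotangent_sup {A : Type u} [CommRing A] [IsRegularLocalRing A] {P Q P' Q' : Ideal A}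
    [hP : P.IsPrime] [hQ : Q.IsPrime] (hP' : P' ≤ P) (hQ' : Q' ≤ Q) (hPQ : P' ⊔ Q' = maximalIdeal A)
    {d a b : ℕ} (hd : ringKrullDim A = d) (ha : ringKrullDim (A ⧸ P) = a) (hb : ringKrullDim (A ⧸ Q) = b)
    (hle : d ≤ a + b) : P' = P ∧ Q' = Q := by
  obtain ⟨cp, fp, hfp, hlp, hcp⟩ := Transversal.exists_indep P'
  obtain ⟨cq, fq, hfq, hlq, hcq⟩ := Transversal.exists_indep Q'
  obtain ⟨h1, hPe⟩ := Transversal.eq_span_of_le fp (fun i => hP' (hfp i)) hlp hd ha
  obtain ⟨h2, hQe⟩ := Transversal.eq_span_of_le fq (fun i => hQ' (hfq i)) hlq hd hb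
  set Sp := Submodule.span (ResidueField A) ((maximalIdeal A).toCotangent '' {x | (x : A) ∈ P'})
  set Sq := Submodule.span (ResidueField A) ((maximalIdeal A).toCotangent '' {x | (x : A) ∈ Q'})
  have htop : Sp ⊔ Sq = ⊤ := by
    refine eq_top_iff.mpr fun v _ => ?_
    obtain ⟨⟨x, hx⟩, rfl⟩ := (maximalIdeal A).toCotangent_surjective v
    obtain ⟨y, hy, z, hz, rfl⟩ := Submodule.mem_sup.mp (hPQ.symm ▸ hx : x ∈ P' ⊔ Q')
    have hym : y ∈ maximalIdeal A := le_maximalIdeal hP.ne_top (hP' hy)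
    have hzm : z ∈ maximalIdeal A := le_maximalIdeal hQ.ne_top (hQ' hz)
    rw [show (⟨y + z, hx⟩ : maximalIdeal A) = ⟨y, hym⟩ + ⟨z, hzm⟩ from rfl, map_add]
    exact Submodule.add_mem_sup (Submodule.subset_span ⟨_, hy, rfl⟩) (Submodule.subset_span ⟨_, hz, rfl⟩)
  have hV : Module.finrank (ResidueField A) (CotangentSpace A) = d := by
    have h := (IsRegularLocalRing.iff_finrank_cotangentSpace A).mp inferInstance
    rw [hd] at h
    exact_mod_cast h
  have h3 : d ≤ cp + cq := by
    have hV' : Module.finrank (ResidueField A) (⊤ : Submodule (ResidueField A) (CotangentSpace A)) = d := by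
      rw [finrank_top]; exact hV
    rw [← htop] at hV'
    rw [hcp, hcq, ← hV']
    exact (le_of_le_of_eq (Nat.le_add_right _ _) (Submodule.finrank_sup_add_finrank_inf_eq Sp Sq) :)
  refine ⟨le_antisymm hP' ?_, le_antisymm hQ' ?_⟩
  · rw [(hPe (by omega)).1, Ideal.span_le]
    rintro _ ⟨i, rfl⟩
    exact hfp i
  · rw [(hQe (by omega)).1, Ideal.span_le]
    rintro _ ⟨i, rfl⟩
    exact hfq i

variable {X : Scheme.{u}}

theorem stalkIdeal_ptIdeal (ξ x : X) (h : ξ ⤳ x) :
    IntMult.stalkIdeal (IntMult.ptIdeal ξ) x = (DimFun.genPrime x ξ h).asIdeal := by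
  let I := IntMult.ptIdeal ξ
  have hr : Set.range I.subschemeι = closure ({ξ} : Set X) := by
    rw [Scheme.IdealSheafData.range_subschemeι]; exact rfl
  haveI : IsReduced I.subscheme := H75.RedSub.isReduced_vanishingIdeal _
  obtain ⟨g, hg⟩ : ξ ∈ Set.range I.subschemeι := hr.symm ▸ subset_closure rfl
  have hgen : ∀ v, g ⤳ v := fun v => I.subschemeι.isEmbedding.isInducing.specializes_iff.1
    (by rw [hg]; exact specializes_iff_mem_closure.2 (hr.le ⟨v, rfl⟩))
  haveI : IrreducibleSpace ↥I.subscheme :=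
    { toPreirreducibleSpace := ⟨fun U V hU hV ⟨a, _, ha⟩ ⟨b, _, hb⟩ =>
        ⟨g, trivial, (hgen a).mem_open hU ha, (hgen b).mem_open hV hb⟩⟩
      toNonempty := ⟨g⟩ }
  haveI : IsIntegral I.subscheme := isIntegral_of_irreducibleSpace_of_isReduced _
  have hgp : genericPoint ↥I.subscheme = g :=
    ((genericPoint_specializes g).antisymm (hgen _)).eq
  have hξ : I.subschemeι (genericPoint ↥I.subscheme) = ξ := by rw [hgp, hg]
  have h' := (Groth.Agent.Lib.ModelFibre.StalkIdeal.stalkIdeal_ker I.subschemeι x (hξ.symm ▸ h)).2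
    (DimFun.genPrime x ξ h) ((DimFun.fromSpecStalk_genPrime x ξ h).trans hξ.symm)
  rw [Scheme.IdealSheafData.ker_subschemeι] at h'
  exact h'.symm

theorem ker_stalkMap_le {Y : Scheme.{u}} (i : Y ⟶ X) {y y₀ : Y} (h : y₀ ⤳ y) :
    RingHom.ker (i.stalkMap y).hom ≤ (DimFun.genPrime (i y) (i y₀) (h.map i.continuous)).asIdeal := by
  intro a ha
  rw [DimFun.genPrime_eq]
  show (X.presheaf.stalkSpecializes _).hom a ∈ maximalIdeal _
  intro hu
  have h1 := Scheme.Hom.stalkSpecializes_stalkMap_apply i y₀ y h a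
  rw [RingHom.mem_ker.mp ha, map_zero] at h1
  exact not_isUnit_zero (h1 ▸ hu.map (i.stalkMap y₀).hom)

theorem length_stalk_of_genPrime {Y : Scheme.{u}} (i : Y ⟶ X) [IsClosedImmersion i] {y y₀ : Y} (h : y₀ ⤳ y)
    (heq : RingHom.ker (i.stalkMap y).hom = (DimFun.genPrime (i y) (i y₀) (h.map i.continuous)).asIdeal) :
    Module.length (Y.presheaf.stalk y₀) (Y.presheaf.stalk y₀) = 1 := by
  have hm : maximalIdeal (X.presheaf.stalk (i y₀)) ≤ RingHom.ker (i.stalkMap y₀).hom := by
    have h1 := Groth.Agent.Lib.ModelFibre.StalkIdeal.map_stalkSpecializes (IntMult.ptIdeal (i y₀)) (h.map i.continuous)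
    change Ideal.map _ (IntMult.stalkIdeal _ _) = IntMult.stalkIdeal _ _ at h1
    rw [stalkIdeal_ptIdeal _ _ (h.map i.continuous), stalkIdeal_ptIdeal _ _ specializes_rfl, DimFun.genPrime_self, ← heq] at h1
    refine le_of_eq_of_le h1.symm (Ideal.map_le_iff_le_comap.mpr fun a ha => ?_)
    show (i.stalkMap y₀).hom ((X.presheaf.stalkSpecializes _).hom a) = 0
    refine (Scheme.Hom.stalkSpecializes_stalkMap_apply i y₀ y h a).trans ?_
    rw [RingHom.mem_ker.mp ha, map_zero]
  have hbot : IsSimpleModule (Y.presheaf.stalk y₀) (Y.presheaf.stalk y₀) := by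
    haveI : IsSimpleOrder (Ideal (Y.presheaf.stalk y₀)) := by
      have hmax : maximalIdeal (Y.presheaf.stalk y₀) = ⊥ := by
        refine eq_bot_iff.mpr fun b hb => ?_
        obtain ⟨a, rfl⟩ := i.stalkMap_surjective y₀ b
        exact RingHom.mem_ker.mp (hm fun hu => hb (hu.map (i.stalkMap y₀).hom))
      exact isSimpleOrder_iff_isCoatom_bot.mpr (hmax ▸ (maximalIdeal.isMaximal _).out)
    exact isSimpleModule_iff _ _ |>.mpr this
  exact Module.length_eq_one_iff.mpr hbot

variable {Y Z : Scheme.{u}} (iY : Y ⟶ X) (iZ : Z ⟶ X) [IsClosedImmersion iY] [IsClosedImmersion iZ]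

theorem sup_ker_eq (w : ↥(pullback iY iZ))
    (hw : Module.length ((pullback iY iZ).presheaf.stalk w) ((pullback iY iZ).presheaf.stalk w) = 1)
    (hz : iZ (pullback.snd iY iZ w) = iY (pullback.fst iY iZ w)) :
    RingHom.ker ((iY.stalkMap (pullback.fst iY iZ w)).hom) ⊔
      (RingHom.ker (iZ.stalkMap (pullback.snd iY iZ w)).hom).map
        (X.presheaf.stalkSpecializes (Inseparable.of_eq hz.symm).specializes).hom =
      maximalIdeal (X.presheaf.stalk (iY (pullback.fst iY iZ w))) := by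
  obtain ⟨U, hU, hxU, -⟩ := exists_isAffineOpen_mem_and_subset (x := (pullback.fst iY iZ ≫ iY) w)
    (U := (⊤ : X.Opens)) trivial
  have hmax : IsLocalRing.maximalIdeal ((pullback iY iZ).presheaf.stalk w) = ⊥ := by
    haveI := Module.length_eq_one_iff.mp hw
    haveI : IsSimpleOrder (Ideal ((pullback iY iZ).presheaf.stalk w)) := isSimpleModule_iff _ _ |>.mp this
    exact (IsSimpleOrder.eq_bot_or_eq_top _).resolve_right (maximalIdeal.isMaximal _).ne_top
  have hk : RingHom.ker ((pullback.fst iY iZ ≫ iY).stalkMap w).hom = maximalIdeal _ := by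
    refine le_antisymm (le_maximalIdeal (RingHom.ker_ne_top _)) fun a ha => ?_
    have : ((pullback.fst iY iZ ≫ iY).stalkMap w).hom a ∈ maximalIdeal ((pullback iY iZ).presheaf.stalk w) :=
      map_nonunit _ a ha
    rw [hmax] at this
    exact this
  rw [ProperCI.ker_stalkMap iY iZ hU w hxU] at hk
  have hzU : iZ (pullback.snd iY iZ w) ∈ U := hz.symm ▸ hxU
  rw [RegImmKind.ker_stalkMap iY hU (pullback.fst iY iZ w) hxU, RegImmKind.ker_stalkMap iZ hU _ hzU,
    Ideal.map_map, ← CommRingCat.hom_comp]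
  erw [TopCat.Presheaf.germ_stalkSpecializes]
  exact hk

end Groth.Agent.H19.IntMult.MultOne
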