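import Groth.Agent.H19.IntMult.Positive
import Groth.Agent.H19.IntMult.TorVanish
import Groth.Agent.H25.TorLES
import Groth.Agent.S12212
import Mathlib

/-!
# Additivity of intersection numbers and their expression through the components of the supports
-/

set_option autoImplicit false
set_option linter.style.haveILetI false

universe u

open CategoryTheory CategoryTheory.Limits MonoidalCategory IsLocalRing
open scoped TensorProduct

namespace Groth.Agent.H19.IntMult.Additive

open Groth.Agent.H25.TorLES Groth.Agent.Lib Groth.Agent.Lib.Regular.PD Groth.Agent.S12212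

variable {A : Type u} [CommRing A]

/-- The length as an integer. -/
noncomputable abbrev lz (V : Type u) [AddCommGroup V] [Module A V] : ℤ := ((Module.length A V).toNat : ℤ)

theorem lz_range_add {U V W : Type u} [AddCommGroup U] [AddCommGroup V] [AddCommGroup W] [Module A U]
    [Module A V] [Module A W] (f : U →ₗ[A] V) (g : V →ₗ[A] W) (h : Function.Exact f g)
    (hV : Module.length A V ≠ ⊤) :
    lz (A := A) V = lz (A := A) (LinearMap.range f) + lz (A := A) (LinearMap.range g) := by
  have e : Module.length A V = Module.length A (LinearMap.range f) + Module.length A (LinearMap.range g) :=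
    Module.length_eq_add_of_exact (LinearMap.range f).subtype g.rangeRestrict (Submodule.injective_subtype _)
      g.surjective_rangeRestrict (fun x => by
        constructor
        · intro hx
          obtain ⟨y, rfl⟩ := (h x).1 (congrArg Subtype.val hx)
          exact ⟨⟨f y, y, rfl⟩, rfl⟩
        · rintro ⟨⟨_, y, rfl⟩, rfl⟩
          exact Subtype.ext ((h _).2 ⟨y, rfl⟩))
  obtain ⟨h1, h2⟩ := WithTop.add_ne_top.mp (e ▸ hV)
  simp only [lz]
  rw [e, ENat.toNat_add h1 h2]
  push_cast
  rfl

theorem lz_range_of_surjective {V W : Type u} [AddCommGroup V] [AddCommGroup W] [Module A V] [Module A W]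
    (g : V →ₗ[A] W) (hg : Function.Surjective g) : lz (A := A) (LinearMap.range g) = lz (A := A) W :=
  congrArg (fun x : ℕ∞ => (x.toNat : ℤ))
    ((LinearEquiv.ofEq _ _ (LinearMap.range_eq_top.2 hg)).trans Submodule.topEquiv).length_eq

theorem chi_congr_right {N M M' : Type u} [AddCommGroup N] [Module A N] [AddCommGroup M] [Module A M]
    [AddCommGroup M'] [Module A M'] (e : M ≃ₗ[A] M') : IntMult.chi A N M = IntMult.chi A N M' :=
  finsum_congr fun i => by
    rw [((((CategoryTheory.Tor (ModuleCat.{u} A) i).obj (ModuleCat.of A N)).mapIso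
      e.toModuleIso).toLinearEquiv).length_eq]

theorem chi_eq_sum {N M : ModuleCat.{u} A} {D : ℕ} (hvan : ∀ i, D < i → IsZero ((T N i).obj M)) :
    IntMult.chi A N M = ∑ i ∈ Finset.range (D + 1), (-1 : ℤ) ^ i * lz (A := A) ((T N i).obj M) := by
  refine finsum_eq_sum_of_support_subset _ fun i hi => ?_
  rw [Finset.coe_range, Set.mem_Iio]
  by_contra h
  haveI := ModuleCat.subsingleton_of_isZero (hvan i (by omega))
  exact hi (by simp [Module.length_eq_zero])

theorem chi_add {N : ModuleCat.{u} A} {S : ShortComplex (ModuleCat.{u} A)} (hS : S.ShortExact) {D : ℕ}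
    (h1 : ∀ i, Module.length A ((T N i).obj S.X₁) ≠ ⊤) (h2 : ∀ i, Module.length A ((T N i).obj S.X₂) ≠ ⊤)
    (h3 : ∀ i, Module.length A ((T N i).obj S.X₃) ≠ ⊤)
    (v1 : ∀ i, D < i → IsZero ((T N i).obj S.X₁)) (v2 : ∀ i, D < i → IsZero ((T N i).obj S.X₂))
    (v3 : ∀ i, D < i → IsZero ((T N i).obj S.X₃)) :
    IntMult.chi A N S.X₂ = IntMult.chi A N S.X₁ + IntMult.chi A N S.X₃ := by
  rw [chi_eq_sum v1, chi_eq_sum v2, chi_eq_sum v3]
  let a : ℕ → ℤ := fun i => lz (A := A) (LinearMap.range ((T N i).map S.f).hom)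
  let b : ℕ → ℤ := fun i => lz (A := A) (LinearMap.range ((T N i).map S.g).hom)
  let c : ℕ → ℤ := fun i => lz (A := A) (LinearMap.range (δ (M := N) hS i).hom)
  have e1 : ∀ i, lz (A := A) ((T N i).obj S.X₁) = c i + a i := fun i =>
    lz_range_add _ _ ((ShortComplex.ShortExact.moduleCat_exact_iff_function_exact _).mp (exact₁ hS i)) (h1 i)
  have e2 : ∀ i, lz (A := A) ((T N i).obj S.X₂) = a i + b i := fun i =>
    lz_range_add _ _ ((ShortComplex.ShortExact.moduleCat_exact_iff_function_exact _).mp (exact₂ hS i (map_comp i))) (h2 i)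
  have e3 : ∀ i, lz (A := A) ((T N (i + 1)).obj S.X₃) = b (i + 1) + c i := fun i =>
    lz_range_add _ _ ((ShortComplex.ShortExact.moduleCat_exact_iff_function_exact _).mp (exact₃ hS i)) (h3 (i + 1))
  have e30 : lz (A := A) ((T N 0).obj S.X₃) = b 0 :=
    (lz_range_of_surjective _ ((ModuleCat.epi_iff_surjective _).mp (epi_zero hS))).symm
  have key : ∀ m, ∑ i ∈ Finset.range (m + 1), (-1 : ℤ) ^ i *
      (lz (A := A) ((T N i).obj S.X₁) + lz (A := A) ((T N i).obj S.X₃) - lz (A := A) ((T N i).obj S.X₂)) =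
        (-1) ^ m * c m := by
    intro m
    induction m with
    | zero => rw [Finset.sum_range_one, e1, e2, e30]; ring
    | succ m ih => rw [Finset.sum_range_succ, ih, e1, e2, e3, pow_succ]; ring
  have hcD : c D = 0 := by
    haveI := ModuleCat.subsingleton_of_isZero (v3 (D + 1) (by omega))
    haveI : Subsingleton (LinearMap.range (δ (M := N) hS D).hom) :=
      Function.Surjective.subsingleton (δ (M := N) hS D).hom.surjective_rangeRestrict
    simp [c, lz, Module.length_eq_zero]
  have h := key D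
  rw [hcD, mul_zero] at h
  simp only [mul_sub, mul_add, Finset.sum_sub_distrib, Finset.sum_add_distrib] at h
  linarith

variable [IsRegularLocalRing A]

theorem pdle_dim (M : Type u) [AddCommGroup M] [Module A M] [Module.Finite A M] :
    PDle A M (maximalIdeal A).spanFinrank := by
  rcases subsingleton_or_nontrivial M with h | h
  · exact pdle_mono (pdle_zero_iff.mpr (Module.Projective.of_free)) (Nat.zero_le _)
  · rw [Groth.Agent.H20.PDDepth.pdle_iff_le_depth_add]
    exact le_add_self

theorem isZero_of_pdle (N : ModuleCat.{u} A) : ∀ (k : ℕ) (M : ModuleCat.{u} A) [Module.Finite A M],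
    PDle A M k → ∀ i, k < i → IsZero ((T N i).obj M) := by
  intro k
  induction k with
  | zero =>
    intro M _ hM i hi
    haveI : Module.Projective A M := (pdle_zero_iff (M := M)).mp hM
    obtain ⟨j, rfl⟩ : ∃ j, i = j + 1 := ⟨i - 1, by omega⟩
    exact Lib.Tor.Balance.isZero_tor_succ_of_flat_right N M j
  | succ k ih =>
    intro M _ hM i hi
    obtain ⟨r, f, hf⟩ := exists_free_cover (R := A) M
    have hK : PDle A (LinearMap.ker f) k := (pdle_succ_iff hf k).mp hM
    let S := f.shortComplexKer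
    have hS : S.ShortExact := LinearMap.shortExact_shortComplexKer hf
    haveI : Module.Flat A S.X₂ := inferInstanceAs (Module.Flat A (Fin r → A))
    haveI : Module.Finite A S.X₁ := inferInstanceAs (Module.Finite A (LinearMap.ker f))
    obtain ⟨j, rfl⟩ : ∃ j, i = j + 1 := ⟨i - 1, by omega⟩
    exact isZero_right (M := N) hS j (Lib.Tor.Balance.isZero_tor_succ_of_flat_right N S.X₂ j)
      (ih S.X₁ hK j (by omega))

theorem length_tor_ne_top (N M : ModuleCat.{u} A) [Module.Finite A N] [Module.Finite A M]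
    (hfin : ∀ q : PrimeSpectrum A, q ∈ Module.support A N → q ∈ Module.support A M → q.asIdeal = maximalIdeal A)
    (i : ℕ) : Module.length A ((T N i).obj M) ≠ ⊤ := by
  haveI := finite_tor N i M inferInstance
  refine (CycAlg.Smul.length_lt_top_of_supportDim_le_zero _ ?_).ne
  refine Order.krullDim_nonpos_iff_forall_isMax.mpr fun p q hpq => ?_
  have hmem : ∀ x : Module.support A ((T N i).obj M), x.1.asIdeal = maximalIdeal A := fun x => by
    obtain ⟨x, hx⟩ := x
    rw [Module.support_eq_zeroLocus, PrimeSpectrum.mem_zeroLocus, SetLike.coe_subset_coe] at hx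
    show x.asIdeal = _
    refine hfin x ?_ ?_ <;>
      rw [Module.support_eq_zeroLocus, PrimeSpectrum.mem_zeroLocus, SetLike.coe_subset_coe] <;>
      refine fun a ha => hx (Module.mem_annihilator.mpr fun z => TorVanish.smul_tor_eq_zero N M ?_ i z)
    · exact Ideal.mem_sup_right ha
    · exact Ideal.mem_sup_left ha
  exact le_of_eq (Subtype.ext (PrimeSpectrum.ext ((hmem q).trans (hmem p).symm)))

theorem supp_of_exact {N₁ N₂ N₃ : Type u} [AddCommGroup N₁] [Module A N₁] [AddCommGroup N₂]
    [Module A N₂] [AddCommGroup N₃] [Module A N₃] (f : N₁ →ₗ[A] N₂) (g : N₂ →ₗ[A] N₃)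
    (hf : Function.Injective f) (hg : Function.Surjective g) :
    Module.support A N₁ ⊆ Module.support A N₂ ∧ Module.support A N₃ ⊆ Module.support A N₂ :=
  ⟨Module.support_subset_of_injective f hf, Module.support_subset_of_surjective g hg⟩

/-- The intersection number as a linear function of the lengths at the top components. -/
theorem chi_expand (N : ModuleCat.{u} A) [Module.Finite A N] (a : ℕ) (S : Finset (PrimeSpectrum A))
    (V : Set (PrimeSpectrum A)) (hfin : ∀ q ∈ V, q ∈ Module.support A N → q.asIdeal = maximalIdeal A)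
    (hdim : ∀ q ∈ V, ringKrullDim (A ⧸ q.asIdeal) ≤ a)
    (hS : ∀ q, q ∈ S ↔ q ∈ V ∧ ringKrullDim (A ⧸ q.asIdeal) = a)
    (hz : ∀ q ∈ V, ringKrullDim (A ⧸ q.asIdeal) < a → IntMult.chi A N (A ⧸ q.asIdeal) = 0)
    (M : Type u) [AddCommGroup M] [Module A M] [Module.Finite A M] (hM : Module.support A M ⊆ V) :
    (∀ p ∈ S, locLen M p ≠ ⊤) ∧
      IntMult.chi A N M = ∑ p ∈ S, ((locLen M p).toNat : ℤ) * IntMult.chi A N (A ⧸ p.asIdeal) := by
  classical
  induction ‹Module.Finite A M› using IsNoetherianRing.induction_on_isQuotientEquivQuotientPrime A with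
  | subsingleton M =>
    have h0 : ∀ p, locLen M p = 0 := fun (p : PrimeSpectrum A) => locLen_eq_zero (N := M) (p := p) (by simp [Module.support_eq_empty])
    refine ⟨fun p _ => by simp [h0 p], ?_⟩
    rw [Finset.sum_eq_zero fun p _ => by simp [h0 p]]
    refine finsum_eq_zero_of_forall_eq_zero fun i => ?_
    have hz : IsZero ((T N i).obj (ModuleCat.of A M)) :=
      Functor.map_isZero _ (ModuleCat.isZero_of_subsingleton _)
    haveI := ModuleCat.subsingleton_of_isZero hz
    rw [Module.length_eq_zero, ENat.toNat_zero, Nat.cast_zero, mul_zero]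
  | quotient M q eq =>
    have hq : q ∈ V := hM (by
      rw [eq.support_eq, Module.support_eq_zeroLocus, Ideal.annihilator_quotient]
      exact Set.Subset.rfl)
    have hsupp : ∀ p, p ∈ Module.support A M → q ≤ p := fun p hp => by
      rw [eq.support_eq, Module.support_eq_zeroLocus, Ideal.annihilator_quotient] at hp
      exact hp
    obtain ⟨nq, hnq⟩ : ∃ n : ℕ, ringKrullDim (A ⧸ q.asIdeal) = n :=
      haveI : Nontrivial (A ⧸ q.asIdeal) := Ideal.Quotient.nontrivial_iff.mpr q.isPrime.ne_top
      haveI : IsLocalRing (A ⧸ q.asIdeal) := IsLocalRing.of_surjective' _ Ideal.Quotient.mk_surjective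
      Positive.exists_nat_dim
    have hne : ∀ p ∈ S, p ≠ q → locLen M p = 0 := fun p hp hpq => by
      refine locLen_eq_zero fun hmem => ?_
      refine quotient_cons (lt_of_le_of_ne (hsupp p hmem) (Ne.symm hpq)) (n := a) ?_ ((hS p).1 hp).2
      rw [Module.supportDim_quotient_eq_ringKrullDim]
      exact hdim q hq
    have hcq : IntMult.chi A N M = IntMult.chi A N (A ⧸ q.asIdeal) := chi_congr_right eq
    have hlq : locLen M q = 1 := (locLen_congr eq q).trans (locLen_quotient_self q)
    refine ⟨fun p hp => ?_, ?_⟩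
    · rcases eq_or_ne p q with rfl | h
      · simp [hlq]
      · simp [hne p hp h]
    by_cases hqS : q ∈ S
    · rw [Finset.sum_eq_single q (fun p hp h => by simp [hne p hp h]) (fun h => absurd hqS h), hlq, hcq]
      simp
    · rw [Finset.sum_eq_zero fun p hp => by simp [hne p hp (fun h => hqS (h ▸ hp))], hcq]
      refine hz q hq (lt_of_le_of_ne (hdim q hq) fun h => hqS ((hS q).2 ⟨hq, h⟩))
  | exact M₁ M₂ M₃ f g hf hg hfg ih1 ih3 =>
    obtain ⟨s1, s3⟩ := supp_of_exact f g hf hg
    obtain ⟨l1, c1⟩ := ih1 (s1.trans hM)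
    obtain ⟨l3, c3⟩ := ih3 (s3.trans hM)
    have hl : ∀ p, locLen M₂ p = locLen M₁ p + locLen M₃ p := fun p => locLen_add f g hf hg hfg p
    refine ⟨fun p hp => by rw [hl]; exact WithTop.add_ne_top.mpr ⟨l1 p hp, l3 p hp⟩, ?_⟩
    let Sc : ShortComplex (ModuleCat.{u} A) :=
      ShortComplex.mk (ModuleCat.ofHom f) (ModuleCat.ofHom g) (by ext x; exact hfg.apply_apply_eq_zero x)
    have hSc : Sc.ShortExact := ShortComplex.ShortExact.mk'
      ((ShortComplex.ShortExact.moduleCat_exact_iff_function_exact _).mpr hfg)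
      ((ModuleCat.mono_iff_injective _).mpr hf) ((ModuleCat.epi_iff_surjective _).mpr hg)
    have hsup : ∀ (M' : Type u) [AddCommGroup M'] [Module A M'], Module.support A M' ⊆ V →
        ∀ q : PrimeSpectrum A, q ∈ Module.support A N → q ∈ Module.support A M' → q.asIdeal = maximalIdeal A :=
      fun M' _ _ h q hN hq => hfin q (h hq) hN
    haveI : Module.Finite A Sc.X₁ := ‹Module.Finite A M₁›
    haveI : Module.Finite A Sc.X₂ := ‹Module.Finite A M₂›
    haveI : Module.Finite A Sc.X₃ := ‹Module.Finite A M₃›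
    have hadd : IntMult.chi A N M₂ = IntMult.chi A N M₁ + IntMult.chi A N M₃ :=
      chi_add (N := N) (S := Sc) hSc (D := (maximalIdeal A).spanFinrank)
        (length_tor_ne_top N Sc.X₁ (hsup M₁ (s1.trans hM))) (length_tor_ne_top N Sc.X₂ (hsup M₂ hM))
        (length_tor_ne_top N Sc.X₃ (hsup M₃ (s3.trans hM)))
        (isZero_of_pdle N _ Sc.X₁ (pdle_dim M₁)) (isZero_of_pdle N _ Sc.X₂ (pdle_dim M₂))
        (isZero_of_pdle N _ Sc.X₃ (pdle_dim M₃))
    rw [hadd, c1, c3, ← Finset.sum_add_distrib]
    refine Finset.sum_congr rfl fun p hp => ?_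
    rw [hl, ENat.toNat_add (l1 p hp) (l3 p hp)]
    push_cast
    ring

/-- The intersection number of two modules meeting properly at the closed point. -/
theorem chi_modules {K : Type u} [Field K] [Algebra K A] [Algebra.EssFiniteType K A]
    [Algebra.FormallySmooth K A] (M N : Type u) [AddCommGroup M] [Module A M] [Module.Finite A M]
    [AddCommGroup N] [Module A N] [Module.Finite A N] {d a b : ℕ} (hd : ringKrullDim A = d) (hab : a + b ≤ d)
    (hfin : ∀ q : PrimeSpectrum A, q ∈ Module.support A M → q ∈ Module.support A N → q.asIdeal = maximalIdeal A)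
    (ha : ∀ q ∈ Module.support A M, ringKrullDim (A ⧸ q.asIdeal) ≤ a)
    (hb : ∀ q ∈ Module.support A N, ringKrullDim (A ⧸ q.asIdeal) ≤ b) (S T : Finset (PrimeSpectrum A))
    (hS : ∀ q, q ∈ S ↔ q ∈ Module.support A M ∧ ringKrullDim (A ⧸ q.asIdeal) = a)
    (hT : ∀ q, q ∈ T ↔ q ∈ Module.support A N ∧ ringKrullDim (A ⧸ q.asIdeal) = b) :
    IntMult.chi A M N = ∑ p ∈ S, ∑ q ∈ T, ((locLen M p).toNat : ℤ) * ((locLen N q).toNat : ℤ) *
      IntMult.chi A (A ⧸ q.asIdeal) (A ⧸ p.asIdeal) := by
  classical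
  have hsub : ∀ p q : PrimeSpectrum A, q.asIdeal ≤ p.asIdeal → ∀ (L : Type u) [AddCommGroup L] [Module A L] [Module.Finite A L],
      q ∈ Module.support A L → p ∈ Module.support A L := fun p q h L _ _ _ hq =>
    Module.mem_support_mono h hq
  have hquot : ∀ (p r : PrimeSpectrum A), r ∈ Module.support A (A ⧸ p.asIdeal) ↔ p.asIdeal ≤ r.asIdeal := fun p r => by
    rw [Module.support_eq_zeroLocus, Ideal.annihilator_quotient, PrimeSpectrum.mem_zeroLocus, SetLike.coe_subset_coe]
  have hdimnat : ∀ p : PrimeSpectrum A, ∃ n : ℕ, ringKrullDim (A ⧸ p.asIdeal) = n := fun p =>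
    haveI : Nontrivial (A ⧸ p.asIdeal) := Ideal.Quotient.nontrivial_iff.mpr p.isPrime.ne_top
    haveI : IsLocalRing (A ⧸ p.asIdeal) := IsLocalRing.of_surjective' _ Ideal.Quotient.mk_surjective
    Positive.exists_nat_dim
  -- expansion in the second module against a prime cycle
  have inner : ∀ p : PrimeSpectrum A, p ∈ Module.support A M →
      IntMult.chi A N (A ⧸ p.asIdeal) =
        ∑ q ∈ T, ((locLen N q).toNat : ℤ) * IntMult.chi A (A ⧸ q.asIdeal) (A ⧸ p.asIdeal) := fun p hp => by
    have hfin' : ∀ r ∈ Module.support A N, r ∈ Module.support A (A ⧸ p.asIdeal) → r.asIdeal = maximalIdeal A :=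
      fun r hr hr' => hfin r (hsub r p ((hquot p r).1 hr') M hp) hr
    obtain ⟨-, h⟩ := chi_expand (ModuleCat.of A (A ⧸ p.asIdeal)) b T _ hfin' hb hT (fun q hq hlt => by
      obtain ⟨na, hna⟩ := hdimnat p
      obtain ⟨nb, hnb⟩ := hdimnat q
      have h1 := ha p hp
      rw [hna] at h1
      rw [hnb] at hlt
      have h1' : na ≤ a := by exact_mod_cast h1
      have h2' : nb < b := by exact_mod_cast hlt
      rw [RegSeq.chi_comm]
      exact Positive.chi_zero (K := K) p.asIdeal q.asIdeal p.isPrime.ne_top q.isPrime.ne_top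
        (fun r hr h h' => hfin' ⟨r, hr⟩ (hsub ⟨r, hr⟩ q h' N hq) ((hquot p ⟨r, hr⟩).2 h)) hd hna hnb (by omega))
      N subset_rfl
    rw [RegSeq.chi_comm, h]
    exact Finset.sum_congr rfl fun q _ => by rw [RegSeq.chi_comm]
  obtain ⟨-, h⟩ := chi_expand (ModuleCat.of A N) a S _ hfin ha hS (fun p hp hlt => by
    rw [inner p hp]
    refine Finset.sum_eq_zero fun q hq => ?_
    obtain ⟨na, hna⟩ := hdimnat p
    rw [hna] at hlt
    have h1' : na < a := by exact_mod_cast hlt
    rw [Positive.chi_zero (K := K) p.asIdeal q.asIdeal p.isPrime.ne_top q.isPrime.ne_top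
      (fun r hr h h' => hfin ⟨r, hr⟩ (hsub ⟨r, hr⟩ p h M hp) (hsub ⟨r, hr⟩ q h' N ((hT q).1 hq).1))
      hd hna ((hT q).1 hq).2 (by omega), mul_zero]) M subset_rfl
  rw [RegSeq.chi_comm, h]
  refine Finset.sum_congr rfl fun p hp => ?_
  rw [inner p ((hS p).1 hp).1, Finset.mul_sum]
  exact Finset.sum_congr rfl fun q _ => by ring

end Groth.Agent.H19.IntMult.Additive
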