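import Groth.Agent.H46.FibreProf.LocStalk
import Groth.Agent.S12212
import Groth.Agent.Lib.Cyc.DimFun
import Mathlib

/-!
# Lengths of localized stalks
-/

set_option autoImplicit false
set_option linter.style.haveILetI false

universe u

open CategoryTheory AlgebraicGeometry IsLocalRing

namespace Groth.Agent.H19.IntMult.StalkLen

open Groth.Agent.Lib Groth.Agent.S12212 Groth.Agent.H46.FibreProf

theorem length_eq {Γ : Type u} [CommRing Γ] (q : Ideal Γ) [q.IsPrime] (S : Type u)
    [CommRing S] [Algebra Γ S] [IsLocalization.AtPrime S q] {M : Type u}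
    [AddCommGroup M] [Module Γ M] (N : Type u) [AddCommGroup N] [Module Γ N] [Module S N]
    [IsScalarTower Γ S N] (g : M →ₗ[Γ] N) [IsLocalizedModule q.primeCompl g] :
    Module.length S N =
      Module.length (Localization.AtPrime q) (LocalizedModule q.primeCompl M) := by
  let ε : Localization.AtPrime q ≃ₐ[Γ] S := IsLocalization.algEquiv q.primeCompl _ _
  letI : Algebra (Localization.AtPrime q) S := ε.toRingHom.toAlgebra
  letI : Module (Localization.AtPrime q) N := Module.compHom _ ε.toRingHom
  haveI : IsScalarTower (Localization.AtPrime q) S N :=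
    IsScalarTower.of_algebraMap_smul fun _ _ => rfl
  haveI : IsScalarTower Γ (Localization.AtPrime q) N :=
    IsScalarTower.of_algebraMap_smul fun r m => by
      show ε (algebraMap Γ (Localization.AtPrime q) r) • m = r • m
      rw [ε.commutes]
      exact algebraMap_smul _ r m
  let e : LocalizedModule q.primeCompl M ≃ₗ[Localization.AtPrime q] N :=
    (IsLocalizedModule.iso q.primeCompl g).extendScalarsOfIsLocalization q.primeCompl _
  rw [e.length_eq, Module.length_eq_of_surjective (R := S) (S := Localization.AtPrime q) ε.surjective]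

variable {X : Scheme.{u}} (M : X.Modules) [M.IsQuasicoherent]

/-- The length of a localization of a stalk is that of the stalk at the generization. -/
theorem locLen_stalk (x : X) (P : PrimeSpectrum (X.presheaf.stalk x)) :
    locLen (M.presheaf.stalk x) P =
      Module.length (X.presheaf.stalk (X.fromSpecStalk x P)) (M.presheaf.stalk (X.fromSpecStalk x P)) := by
  obtain ⟨U, hU, hx, -⟩ := exists_isAffineOpen_mem_and_subset (x := x) (U := ⊤) trivial
  let Γ' := Γ(X, U)
  letI := TopCat.Presheaf.algebra_section_stalk X.presheaf (⟨x, hx⟩ : U)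
  haveI := hU.isLocalization_stalk ⟨x, hx⟩
  letI := StalkLoc.Basic.moduleSections M hx
  haveI := StalkLoc.Basic.isScalarTower_sections M hx
  haveI := StalkLoc.Basic.isLocalizedModule_germ (M := M) hU hx
  have he : X.fromSpecStalk x P = hU.fromSpec (P.comap (algebraMap Γ(X, U) (X.presheaf.stalk x))) := by
    rw [← hU.fromSpecStalk_eq_fromSpecStalk hx]
    rfl
  have hz : X.fromSpecStalk x P ∈ U := by
    rw [he, ← SetLike.mem_coe, ← hU.range_fromSpec]; exact ⟨_, rfl⟩
  have hq : (hU.primeIdealOf ⟨_, hz⟩).asIdeal =
      P.asIdeal.comap (algebraMap Γ(X, U) (X.presheaf.stalk x)) := congrArg PrimeSpectrum.asIdeal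
    (hU.fromSpec.isOpenEmbedding.injective ((hU.fromSpec_primeIdealOf ⟨_, hz⟩).trans he))
  let q := P.asIdeal.comap (algebraMap Γ(X, U) (X.presheaf.stalk x))
  haveI : IsLocalization.AtPrime (Localization.AtPrime P.asIdeal) q :=
    IsLocalization.isLocalization_isLocalization_atPrime_isLocalization
      (hU.primeIdealOf ⟨x, hx⟩).asIdeal.primeCompl (Localization.AtPrime P.asIdeal) P.asIdeal
  haveI := LocStalk.isLocalizedModule_comp (hU.primeIdealOf ⟨x, hx⟩).asIdeal (StalkLoc.Basic.germₗ M hx) P.asIdeal
  have h1 := length_eq q (Localization.AtPrime P.asIdeal)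
    (LocalizedModule P.asIdeal.primeCompl (M.presheaf.stalk x))
    (((LocalizedModule.mkLinearMap P.asIdeal.primeCompl (M.presheaf.stalk x)).restrictScalars Γ') ∘ₗ
      StalkLoc.Basic.germₗ M hx)
  let z := X.fromSpecStalk x P
  letI := TopCat.Presheaf.algebra_section_stalk X.presheaf (⟨z, hz⟩ : U)
  haveI : IsLocalization.AtPrime (X.presheaf.stalk z) q := by
    show IsLocalization q.primeCompl _
    rw [show q.primeCompl = (hU.primeIdealOf ⟨_, hz⟩).asIdeal.primeCompl from
      SetLike.ext fun r => not_congr (SetLike.ext_iff.1 hq r).symm]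
    exact hU.isLocalization_stalk ⟨z, hz⟩
  letI := StalkLoc.Basic.moduleSections M hz
  haveI := StalkLoc.Basic.isScalarTower_sections M hz
  haveI : IsLocalizedModule q.primeCompl (StalkLoc.Basic.germₗ M hz) := by
    rw [show q.primeCompl = (hU.primeIdealOf ⟨_, hz⟩).asIdeal.primeCompl from
      SetLike.ext fun r => not_congr (SetLike.ext_iff.1 hq r).symm]
    exact StalkLoc.Basic.isLocalizedModule_germ (M := M) hU hz
  exact h1.trans (length_eq q (X.presheaf.stalk z) (M.presheaf.stalk z) (StalkLoc.Basic.germₗ M hz)).symm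

theorem mem_support_stalk (x : X) (P : PrimeSpectrum (X.presheaf.stalk x)) :
    P ∈ Module.support (X.presheaf.stalk x) (M.presheaf.stalk x) ↔
      Nontrivial (M.presheaf.stalk (X.fromSpecStalk x P)) := by
  rw [Module.mem_support_iff, ← not_subsingleton_iff_nontrivial, ← not_subsingleton_iff_nontrivial,
    ← Module.length_eq_zero_iff (R := Localization.AtPrime P.asIdeal),
    ← Module.length_eq_zero_iff (R := X.presheaf.stalk (X.fromSpecStalk x P))]
  exact not_congr (Eq.congr_left (locLen_stalk M x P))

theorem nontrivial_of_specializes {ξ x : X} (h : ξ ⤳ x) (hξ : Nontrivial (M.presheaf.stalk ξ)) :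
    Nontrivial (M.presheaf.stalk x) := by
  rcases subsingleton_or_nontrivial (M.presheaf.stalk x) with hs | hn
  · exfalso
    have h1 := (mem_support_stalk M x (Cyc.DimFun.genPrime x ξ h)).mpr
      (by rwa [Cyc.DimFun.fromSpecStalk_genPrime])
    rw [Module.support_eq_empty] at h1
    exact h1
  · exact hn

end Groth.Agent.H19.IntMult.StalkLen
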