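import Groth.Agent.H19.IntMult.P1Bundle
import Groth.Agent.H19.IntMult.RegSeq
import Groth.Agent.Lib.Cyc.InducedDimFun
import Groth.Agent.Lib.Cyc.PP.P1Fib
import Groth.Agent.H19.IntMult.MultOne
import Groth.Agent.S6470
import Mathlib

/-!
# Intersections with the sections of the projective line
-/

set_option autoImplicit false
set_option linter.style.haveILetI false

universe u

open CategoryTheory CategoryTheory.Limits AlgebraicGeometry IsLocalRing

namespace Groth.Agent.H19.IntMult.SectDiv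

open Groth.Agent.Lib Groth.Agent.Lib.Cyc Groth.Agent.Lib.Cyc.PP

variable {P : Scheme.{u}}

theorem ker_stalkMap_iso_comp {A B C : Scheme.{u}} (e : A ⟶ B) [IsIso e] (q : B ⟶ C) (h : A ⟶ C) (w : e ≫ q = h)
    (a : A) {τ : C.presheaf.stalk (h a)} {τ' : C.presheaf.stalk (q (e a))}
    (hτ : τ' = (C.presheaf.stalkSpecializes (specializes_of_eq (by rw [← w]; rfl))) τ)
    (hk : RingHom.ker (q.stalkMap (e a)).hom = Ideal.span {τ'}) :
    RingHom.ker (h.stalkMap a).hom = Ideal.span {τ} := by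
  subst w
  have hτ' : τ' = τ := by
    rw [hτ]
    exact CategoryTheory.congr_fun (TopCat.Presheaf.stalkSpecializes_refl C.presheaf (q (e a))) τ
  rw [Scheme.Hom.stalkMap_comp]
  show RingHom.ker ((e.stalkMap a).hom.comp (q.stalkMap (e a)).hom) = _
  refine (RingHom.comap_ker _ _).symm.trans ?_
  rw [(RingHom.injective_iff_ker_eq_bot _).1 (ConcreteCategory.bijective_of_isIso (e.stalkMap a)).1]
  exact hτ' ▸ hk

theorem length_of_surj {A B : Type u} [CommRing A] [CommRing B] (φ : A →+* B) (hs : Function.Surjective φ)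
    (J : Ideal A) (hJ : RingHom.ker φ = J) : Module.length A (A ⧸ J) = Module.length B B := by
  subst hJ
  letI := φ.toAlgebra
  refine Eq.trans ?_ (Module.length_eq_of_surjective (R := B) (M := B) (S := A) hs)
  exact (Ideal.quotientKerAlgEquivOfSurjective (f := Algebra.ofId A B) hs).toLinearEquiv.length_eq

/-- The equation of a section of the projective line, as a section of the structure sheaf. -/
noncomputable def eqn (P : Scheme.{u}) (i : Fin (1 + 1)) :
    Γ(CohB1.ProjSpaceOver 1 P, (pullback.fst (CohB1.ProjSpace.toSpec 1 P1.R0.{u})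
      (specULiftZIsTerminal.from P)) ⁻¹ᵁ P1Coord.D i) :=
  (pullback.fst (CohB1.ProjSpace.toSpec 1 P1.R0.{u}) (specULiftZIsTerminal.from P)).app (P1Coord.D i) (P1Coord.s i)

theorem mem_eqn {W : Scheme.{u}} (ι : W ⟶ CohB1.ProjSpaceOver 1 P) (i : Fin (1 + 1))
    (z : ↥(pullback ι (P1.sect P i))) :
    ι (P1Fib.q ι i z) ∈ (pullback.fst (CohB1.ProjSpace.toSpec 1 P1.R0.{u})
      (specULiftZIsTerminal.from P)) ⁻¹ᵁ P1Coord.D i :=
  P1Fib.q_mem ι i z

/-- The ideal of a closed subscheme intersected with a section. -/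
theorem ker_fibre {W : Scheme.{u}} (ι : W ⟶ CohB1.ProjSpaceOver 1 P) [IsClosedImmersion ι] (i : Fin (1 + 1))
    (z : ↥(pullback ι (P1.sect P i))) :
    RingHom.ker ((P1Fib.q ι i ≫ ι).stalkMap z).hom =
      RingHom.ker (ι.stalkMap (P1Fib.q ι i z)).hom ⊔
        Ideal.span {(CohB1.ProjSpaceOver 1 P).presheaf.germ _ (ι (P1Fib.q ι i z)) (mem_eqn ι i z) (eqn P i)} := by
  have hk := (P1Fib.not_isUnit_iff_and_ker ι i).1 z
  have ht : W.presheaf.germ (P1Fib.V ι i) (P1Fib.q ι i z) (P1Fib.q_mem ι i z) (P1Fib.t ι i) =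
      ι.stalkMap (P1Fib.q ι i z)
        ((CohB1.ProjSpaceOver 1 P).presheaf.germ _ (ι (P1Fib.q ι i z)) (mem_eqn ι i z) (eqn P i)) := by
    rw [Scheme.Hom.germ_stalkMap_apply]
    refine congrArg _ ?_
    show (ι ≫ pullback.fst _ _).app (P1Coord.D i) (P1Coord.s i) = _
    rw [Scheme.Hom.comp_app]
    rfl
  rw [ht, ← Set.image_singleton, ← Ideal.map_span] at hk
  rw [Scheme.Hom.stalkMap_comp]
  show RingHom.ker (((P1Fib.q ι i).stalkMap z).hom.comp (ι.stalkMap (P1Fib.q ι i z)).hom) = _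
  refine (RingHom.comap_ker _ _).symm.trans ?_
  rw [hk]
  show Ideal.comap (ι.stalkMap (P1Fib.q ι i z)).hom (Ideal.map (ι.stalkMap (P1Fib.q ι i z)).hom _) = _
  rw [Ideal.comap_map_of_surjective' _ (ι.stalkMap_surjective _), sup_comm]

/-- The ideal of a section. -/
theorem ker_sect (i : Fin (1 + 1)) (c : P) :
    ∃ h : P1.sect P i c ∈ (pullback.fst (CohB1.ProjSpace.toSpec 1 P1.R0.{u})
        (specULiftZIsTerminal.from P)) ⁻¹ᵁ P1Coord.D i,
      RingHom.ker ((P1.sect P i).stalkMap c).hom =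
        Ideal.span {(CohB1.ProjSpaceOver 1 P).presheaf.germ _ (P1.sect P i c) h (eqn P i)} := by
  let e : P ⟶ pullback (𝟙 (CohB1.ProjSpaceOver 1 P)) (P1.sect P i) :=
    pullback.lift (P1.sect P i) (𝟙 P) (by simp)
  haveI : IsIso e := by
    haveI : IsIso (e ≫ pullback.snd (𝟙 (CohB1.ProjSpaceOver 1 P)) (P1.sect P i)) := by
      rw [pullback.lift_snd]; infer_instance
    exact IsIso.of_isIso_comp_right e (pullback.snd (𝟙 (CohB1.ProjSpaceOver 1 P)) (P1.sect P i))
  have w : e ≫ P1Fib.q (𝟙 (CohB1.ProjSpaceOver 1 P)) i ≫ 𝟙 _ = P1.sect P i := by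
    rw [Category.comp_id, pullback.lift_fst]
  have hpt : (𝟙 (CohB1.ProjSpaceOver 1 P) : _ ⟶ _) (P1Fib.q (𝟙 (CohB1.ProjSpaceOver 1 P)) i (e c)) = P1.sect P i c := by
    conv_rhs => rw [← w]
    rfl
  refine ⟨hpt ▸ mem_eqn (𝟙 _) i (e c), ker_stalkMap_iso_comp e _ _ w c
    (τ' := (CohB1.ProjSpaceOver 1 P).presheaf.germ _ _ (mem_eqn (𝟙 _) i (e c)) (eqn P i)) ?_ ?_⟩
  · exact (TopCat.Presheaf.germ_stalkSpecializes_apply _ _ _ _).symm
  · rw [ker_fibre (𝟙 (CohB1.ProjSpaceOver 1 P)) i (e c),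
      (RingHom.injective_iff_ker_eq_bot _).1 (ConcreteCategory.bijective_of_isIso (Scheme.Hom.stalkMap (𝟙 (CohB1.ProjSpaceOver 1 P)) _)).1]
    exact bot_sup_eq _

variable {δ : P → ℤ} {δQ : ↥(CohB1.ProjSpaceOver 1 P) → ℤ} {C : Scheme.{u}}
  (ι : C ⟶ CohB1.ProjSpaceOver 1 P) [IsClosedImmersion ι]

/-- A point of both a subscheme and a section. -/
theorem exists_point (i : Fin (1 + 1)) (v : C) (c : P) (h : ι v = P1.sect P i c) :
    ∃ w : ↥(pullback ι (P1.sect P i)), pullback.fst ι (P1.sect P i) w = v ∧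
      pullback.snd ι (P1.sect P i) w = c :=
  Scheme.Pullback.exists_preimage_pullback v c h

theorem sect_snd (i : Fin (1 + 1)) (w : ↥(pullback ι (P1.sect P i))) :
    ι (P1Fib.q ι i w) = P1.sect P i (pullback.snd ι (P1.sect P i) w) := by
  rw [← Scheme.Hom.comp_apply, pullback.condition, Scheme.Hom.comp_apply]

/-- The components of a fibre cut by one equation. -/
theorem exists_component [IsIntegral C] [IsLocallyNoetherian P] (hP : Cyc.IsSetup P δ)
    (hQ : Cyc.DeltaCompat (CohB1.ProjSpaceOver.toBase 1 P) δQ δ) {r : ℤ} (hr : δQ (ι (genericPoint C)) = r + 1)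
    (i : Fin (1 + 1)) (hle : ∀ w, δ (pullback.snd ι (P1.sect P i) w) ≤ r)
    (w : ↥(pullback ι (P1.sect P i))) :
    ∃ w₀, w₀ ⤳ w ∧ δ (pullback.snd ι (P1.sect P i) w₀) = r ∧
      0 < (Module.length ((pullback ι (P1.sect P i)).presheaf.stalk w₀)
        ((pullback ι (P1.sect P i)).presheaf.stalk w₀)).toNat := by
  let Z : Scheme.{u} := pullback ι (P1.sect P i)
  haveI : IsLocallyNoetherian C :=
    LocallyOfFiniteType.isLocallyNoetherian (ι ≫ CohB1.ProjSpaceOver.toBase 1 P)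
  haveI : IsLocallyNoetherian Z := LocallyOfFiniteType.isLocallyNoetherian (pullback.snd ι (P1.sect P i))
  have hC : Cyc.IsDimFun C (fun v => δQ (ι v)) :=
    InducedDimFun.isDimFun (ι ≫ CohB1.ProjSpaceOver.toBase 1 P) hP.2.2 hP.2.1 (P1Bundle.deltaCompat_struct ι hQ)
  obtain ⟨w₀, hw₀, hmax⟩ := DimFun.exists_isMaxPt_specializes w
  have hdim0 : Ring.KrullDimLE 0 (Z.presheaf.stalk w₀) := by
    rw [Ring.krullDimLE_iff]
    refine Order.krullDim_nonpos_iff_forall_isMax.mpr fun p q _ => le_of_eq ?_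
    exact DimFun.fromSpecStalk_injective w₀ ((hmax _ (DimFun.fromSpecStalk_specializes_self w₀ q)).trans
      (hmax _ (DimFun.fromSpecStalk_specializes_self w₀ p)).symm)
  haveI := hdim0
  haveI : IsArtinianRing (Z.presheaf.stalk w₀) := isArtinianRing_iff_krullDimLE_zero.mpr hdim0
  refine ⟨w₀, hw₀, le_antisymm (hle w₀) ?_, ?_⟩
  · let v := P1Fib.q ι i w₀
    have hk := (P1Fib.not_isUnit_iff_and_ker ι i).1 w₀
    let t := C.presheaf.germ (P1Fib.V ι i) v (P1Fib.q_mem ι i w₀) (P1Fib.t ι i)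
    have hsurj := (P1Fib.q ι i).stalkMap_surjective w₀
    have h0 : ringKrullDim (C.presheaf.stalk v ⧸ Ideal.span {t}) ≤ 0 := by
      rw [ringKrullDim_eq_of_ringEquiv ((Ideal.quotEquivOfEq hk.symm).trans
        (RingHom.quotientKerEquivOfSurjective hsurj))]
      exact Ring.krullDimLE_iff.mp hdim0
    have htm : t ∈ maximalIdeal (C.presheaf.stalk v) := by
      refine le_maximalIdeal (RingHom.ker_ne_top ((P1Fib.q ι i).stalkMap w₀).hom) ?_
      rw [hk]
      exact Ideal.mem_span_singleton_self t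
    have h1 := ringKrullDim_le_ringKrullDim_quotient_add_card (R := C.presheaf.stalk v) {t} (by
      rw [Finset.coe_singleton, Set.singleton_subset_iff, SetLike.mem_coe, IsLocalRing.ringJacobson_eq_maximalIdeal]
      exact htm)
    rw [Finset.coe_singleton, Finset.card_singleton] at h1
    have h2 : ringKrullDim (C.presheaf.stalk v) ≤ ((1 : ℕ) : WithBot ℕ∞) :=
      h1.trans ((add_le_add h0 le_rfl).trans (by simp))
    rw [DimFun.ringKrullDim_stalk hC v] at h2
    have h3 : (δQ (ι (genericPoint C)) - δQ (ι v)).toNat ≤ 1 := by exact_mod_cast h2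
    have h4 : δQ (ι v) = δ (pullback.snd ι (P1.sect P i) w₀) := by
      rw [sect_snd ι i w₀, P1Bundle.delta_sect hQ]
    omega
  · obtain ⟨a, ha⟩ := ENat.ne_top_iff_exists.mp (Module.length_ne_top (R := Z.presheaf.stalk w₀) (M := Z.presheaf.stalk w₀))
    have hpos : 0 < Module.length (Z.presheaf.stalk w₀) (Z.presheaf.stalk w₀) := Module.length_pos
    show 0 < (Module.length (Z.presheaf.stalk w₀) (Z.presheaf.stalk w₀)).toNat
    rw [← ha] at hpos ⊢
    exact_mod_cast hpos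

variable [IsIntegral P] [IsIntegral (CohB1.ProjSpaceOver 1 P)] [IsLocallyNoetherian P]
  [IsLocallyNoetherian (CohB1.ProjSpaceOver 1 P)] [IsIntegral C]

/-- The product of a prime cycle with a section of the projective line. -/
theorem interProd_sect {K : Type u} [Field K] (gQ : CohB1.ProjSpaceOver 1 P ⟶ Spec (CommRingCat.of K)) [Smooth gQ]
    (hQ : Cyc.DeltaCompat (CohB1.ProjSpaceOver.toBase 1 P) δQ δ) {N r : ℤ}
    (hN : δ (genericPoint P) = N) (hr : δQ (ι (genericPoint C)) = r + 1) (i : Fin (1 + 1))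
    (hle : ∀ w, δ (pullback.snd ι (P1.sect P i) w) ≤ r) (ζ : ↥(CohB1.ProjSpaceOver 1 P)) :
    (IntMult.interProd δQ (N + 1) (Set.indicator {ι (genericPoint C)} 1)
      (Set.indicator {P1.sect P i (genericPoint P)} 1) ζ ≠ 0 →
        δQ ζ = r ∧ ι (genericPoint C) ⤳ ζ ∧ P1.sect P i (genericPoint P) ⤳ ζ) ∧
    ∀ c, P1.sect P i c = ζ → IntMult.interProd δQ (N + 1) (Set.indicator {ι (genericPoint C)} 1)
      (Set.indicator {P1.sect P i (genericPoint P)} 1) ζ = Cyc.subschemeFun δ r (pullback.snd ι (P1.sect P i)) c := by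
  classical
  set ξ := ι (genericPoint C) with hξ
  set z₀ := P1.sect P i (genericPoint P) with hz₀
  have hz₀N : δQ z₀ = N := by rw [hz₀, P1Bundle.delta_sect hQ, hN]
  have hpair : ∀ p : {p : ↥(CohB1.ProjSpaceOver 1 P) × ↥(CohB1.ProjSpaceOver 1 P) //
      p.1 ⤳ ζ ∧ p.2 ⤳ ζ ∧ δQ p.1 + δQ p.2 - (N + 1) = δQ ζ},
      (Set.indicator {ξ} 1 : _ → ℤ) p.1.1 * (Set.indicator {z₀} 1 : _ → ℤ) p.1.2 *
        IntMult.mult (IntMult.ptIdeal p.1.1) (IntMult.ptIdeal p.1.2) ζ ≠ 0 → p.1 = (ξ, z₀) := fun p hp => by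
    have h1 : p.1.1 = ξ := by simpa using Set.mem_of_indicator_ne_zero (left_ne_zero_of_mul (left_ne_zero_of_mul hp))
    have h2 : p.1.2 = z₀ := by simpa using Set.mem_of_indicator_ne_zero (right_ne_zero_of_mul (left_ne_zero_of_mul hp))
    exact Prod.ext h1 h2
  refine ⟨fun hne => ?_, ?_⟩
  · obtain ⟨p, hp⟩ := not_forall.1 fun h => hne (finsum_eq_zero_of_forall_eq_zero h)
    have he := hpair p hp
    obtain ⟨⟨a, b⟩, h1, h2, h3⟩ := p
    obtain ⟨rfl, rfl⟩ := Prod.ext_iff.1 he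
    exact ⟨by dsimp only at h3; omega, h1, h2⟩
  rintro c rfl
  have hδc : δQ (P1.sect P i c) = δ c := P1Bundle.delta_sect hQ i c
  have hz₀c : z₀ ⤳ P1.sect P i c := (genericPoint_specializes c).map (P1.sect P i).continuous
  by_cases hcond : ξ ⤳ P1.sect P i c ∧ δ c = r
  swap
  · rw [Cyc.subschemeFun]
    refine Eq.trans ?_ (Eq.symm ?_) (b := (0 : ℤ))
    · refine finsum_eq_zero_of_forall_eq_zero fun p => ?_
      by_contra hp
      have he := hpair p hp
      obtain ⟨⟨a, b⟩, h1, h2, h3⟩ := p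
      obtain ⟨rfl, rfl⟩ := Prod.ext_iff.1 he
      exact hcond ⟨h1, by dsimp only at h3; omega⟩
    · split_ifs with hcr
      · refine finsum_mem_eq_zero_of_forall_eq_zero fun w hw => absurd ⟨?_, hcr⟩ hcond
        rw [← show pullback.snd ι (P1.sect P i) w = c from hw, ← sect_snd ι i w]
        exact (genericPoint_specializes _).map ι.continuous
      · rfl
  obtain ⟨hξc, hcr⟩ := hcond
  refine (finsum_eq_single _ ⟨(ξ, z₀), hξc, hz₀c, by dsimp only; omega⟩ fun p hp => ?_).trans ?_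
  · by_contra h
    exact hp (Subtype.ext (hpair p h))
  show (Set.indicator {ξ} 1 : _ → ℤ) ξ * (Set.indicator {z₀} 1 : _ → ℤ) z₀ *
    IntMult.mult (IntMult.ptIdeal ξ) (IntMult.ptIdeal z₀) (P1.sect P i c) = _
  rw [Set.indicator_of_mem (Set.mem_singleton ξ), Set.indicator_of_mem (Set.mem_singleton z₀), Pi.one_apply, Pi.one_apply, one_mul, one_mul,
    Cyc.subschemeFun, if_pos hcr]
  obtain ⟨v, hv⟩ : P1.sect P i c ∈ Set.range ι :=
    (ι.isClosedEmbedding.isClosed_range.closure_subset_iff.2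
      (Set.singleton_subset_iff.2 ⟨_, rfl⟩) : closure {ξ} ⊆ Set.range ι) hξc.mem_closure
  obtain ⟨w, hw1, hw2⟩ := exists_point ι i v c hv
  have hinj : Function.Injective (pullback.snd ι (P1.sect P i)) :=
    (pullback.snd ι (P1.sect P i)).isClosedEmbedding.injective
  rw [show {z | pullback.snd ι (P1.sect P i) z = c} = {w} from
    Set.ext fun z => ⟨fun h => hinj (h.trans hw2.symm), fun h => h ▸ hw2⟩, finsum_mem_singleton]
  let x := ι (P1Fib.q ι i w)
  have hx : x = P1.sect P i c := by rw [← hw2]; exact sect_snd ι i w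
  rw [← hx]
  have hξx : ξ ⤳ x := (genericPoint_specializes _).map ι.continuous
  have hz₀x : z₀ ⤳ x := hx ▸ hz₀c
  let τ := (CohB1.ProjSpaceOver 1 P).presheaf.germ _ x (mem_eqn ι i w) (eqn P i)
  have hJ : IntMult.stalkIdeal (IntMult.ptIdeal z₀) x = Ideal.span {τ} := by
    obtain ⟨hm, hk⟩ := ker_sect i c
    rw [MultOne.stalkIdeal_ptIdeal z₀ x hz₀x]
    have key : ∀ (y : ↥(CohB1.ProjSpaceOver 1 P)) (e : P1.sect P i c = y) (hy : z₀ ⤳ y)
        (hym : y ∈ (pullback.fst (CohB1.ProjSpace.toSpec 1 P1.R0.{u})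
          (specULiftZIsTerminal.from P)) ⁻¹ᵁ P1Coord.D i),
        (DimFun.genPrime y z₀ hy).asIdeal =
          Ideal.span {(CohB1.ProjSpaceOver 1 P).presheaf.germ _ y hym (eqn P i)} := by
      rintro y rfl hy hym
      rw [← hk]
      exact (PushLocal.ker_stalkMap_closed (P1.sect P i) c hy).symm
    exact key x hx.symm hz₀x _
  let Q := RingHom.ker (ι.stalkMap (P1Fib.q ι i w)).hom
  have hQ' : IntMult.stalkIdeal (IntMult.ptIdeal ξ) x = Q :=
    (MultOne.stalkIdeal_ptIdeal ξ x hξx).trans (PushLocal.ker_stalkMap_closed ι (P1Fib.q ι i w) hξx).symm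
  haveI : Q.IsPrime := RingHom.ker_isPrime _
  have hτQ : τ ∉ Q := fun h => by
    have h1 : DimFun.genPrime x z₀ hz₀x ≤ DimFun.genPrime x ξ hξx := by
      show (DimFun.genPrime x z₀ hz₀x).asIdeal ≤ (DimFun.genPrime x ξ hξx).asIdeal
      rw [← MultOne.stalkIdeal_ptIdeal z₀ x hz₀x, hJ, ← MultOne.stalkIdeal_ptIdeal ξ x hξx, hQ',
        Ideal.span_singleton_le_iff_mem]
      exact h
    have h2 := (DimFun.genPrime_le_iff x z₀ ξ hz₀x hξx).1 h1
    obtain ⟨c', hc'⟩ : ξ ∈ Set.range (P1.sect P i) :=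
      ((P1.sect P i).isClosedEmbedding.isClosed_range.closure_subset_iff.2
        (Set.singleton_subset_iff.2 ⟨_, rfl⟩) : closure {z₀} ⊆ Set.range (P1.sect P i)) h2.mem_closure
    obtain ⟨w', hw1', hw2'⟩ := exists_point ι i (genericPoint C) c' (hξ.symm.trans hc'.symm)
    have h3 := hle w'
    rw [hw2', ← P1Bundle.delta_sect hQ i c', hc', hr] at h3
    omega
  haveI : IsDomain ((CohB1.ProjSpaceOver 1 P).presheaf.stalk x) := inferInstance
  haveI : IsRegularLocalRing ((CohB1.ProjSpaceOver 1 P).presheaf.stalk x) :=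
    Cyc.SmoothReg.isRegularLocalRing_stalk gQ x
  have hτ0 : τ ≠ 0 := fun h => hτQ (h ▸ Q.zero_mem)
  have hl : List.ofFn ![τ] = [τ] := by simp
  have hr1 : Set.range ![τ] = {τ} := by simp
  have hτm : Ideal.span {τ} ≠ ⊤ := by
    rw [← hJ, MultOne.stalkIdeal_ptIdeal z₀ x hz₀x]
    exact (DimFun.genPrime x z₀ hz₀x).isPrime.ne_top
  have hreg' : RingTheory.Sequence.IsRegular ((CohB1.ProjSpaceOver 1 P).presheaf.stalk x) (List.ofFn ![τ]) := by
    rw [hl]
    refine ⟨(RingTheory.Sequence.isWeaklyRegular_cons_iff _ _ _).mpr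
      ⟨isSMulRegular_iff_right_eq_zero_of_smul.mpr fun a ha => (mul_eq_zero.1 ha).resolve_left hτ0,
        RingTheory.Sequence.IsWeaklyRegular.nil _ _⟩, fun h => ?_⟩
    rw [Ideal.smul_eq_mul, Ideal.mul_top, Ideal.ofList_singleton] at h
    exact hτm h.symm
  have hweak : RingTheory.Sequence.IsWeaklyRegular ((CohB1.ProjSpaceOver 1 P).presheaf.stalk x ⧸ Q) (List.ofFn ![τ]) := by
    rw [hl]
    refine (RingTheory.Sequence.isWeaklyRegular_cons_iff _ _ _).mpr
      ⟨isSMulRegular_iff_right_eq_zero_of_smul.mpr fun a ha => ?_, RingTheory.Sequence.IsWeaklyRegular.nil _ _⟩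
    rw [Algebra.smul_def, mul_eq_zero] at ha
    exact ha.resolve_left fun h0 => hτQ (Ideal.Quotient.eq_zero_iff_mem.mp h0)
  have hchi : IntMult.mult (IntMult.ptIdeal ξ) (IntMult.ptIdeal z₀) x =
      IntMult.chi ((CohB1.ProjSpaceOver 1 P).presheaf.stalk x) ((CohB1.ProjSpaceOver 1 P).presheaf.stalk x ⧸ Q)
        ((CohB1.ProjSpaceOver 1 P).presheaf.stalk x ⧸ Ideal.span (Set.range ![τ])) := by
    refine (RegSeq.chi_comm _ _).trans ?_
    exact S6470.chi_ideal_congr (hJ.trans (congrArg Ideal.span hr1.symm)) hQ'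
  rw [hchi, RegSeq.chi_eq_length_of_regular ![τ] hreg' Q hweak, hr1]
  refine congrArg (fun l : ℕ∞ => (l.toNat : ℤ)) ?_
  exact length_of_surj ((P1Fib.q ι i ≫ ι).stalkMap w).hom ((P1Fib.q ι i ≫ ι).stalkMap_surjective w) _
    (ker_fibre ι i w)

end Groth.Agent.H19.IntMult.SectDiv
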