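import Groth.Agent.H46.FiberStalk
import Groth.Agent.Lib.Cyc.FieldDim
import Mathlib

/-!
# Base change of an integral closed subscheme at points over its generic point
-/

set_option autoImplicit false
set_option linter.style.haveILetI false

universe u

open CategoryTheory CategoryTheory.Limits AlgebraicGeometry IsLocalRing

namespace Groth.Agent.H19.IntMult.BCClosed

variable {P Y V Q : Scheme.{u}} {q : P ⟶ Y} {i : V ⟶ Y} {j : Q ⟶ P} {v : Q ⟶ V}

theorem exists_section [IsPreimmersion i] (v₀ : V) :
    ∃ ρ : Spec (Y.residueField (i v₀)) ⟶ V, ρ ≫ i = Y.fromSpecResidueField (i v₀) := by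
  have hb : Function.Bijective (i.residueFieldMap v₀).hom :=
    ⟨RingHom.injective _, Groth.Agent.Lib.Cyc.FieldDim.residueFieldMap_surjective i v₀⟩
  haveI : IsIso (i.residueFieldMap v₀) := (ConcreteCategory.isIso_iff_bijective _).2 hb
  refine ⟨Spec.map (inv (i.residueFieldMap v₀)) ≫ V.fromSpecResidueField v₀, ?_⟩
  rw [Category.assoc, ← Scheme.Hom.SpecMap_residueFieldMap_fromSpecResidueField, ← Category.assoc, ← Spec.map_comp,
    IsIso.hom_inv_id, Spec.map_id, Category.id_comp]

/-- Over the generic point the ideal of the base change is that of the fibre. -/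
theorem ker_stalkMap [IsPreimmersion i] [IsPreimmersion j] [IsIntegral V] (H : IsPullback j v q i) (w : Q)
    (hw : v w = genericPoint V) :
    RingHom.ker (j.stalkMap w).hom =
      (maximalIdeal (Y.presheaf.stalk (q (j w)))).map (q.stalkMap (j w)).hom := by
  set x := j w with hx
  set I := (maximalIdeal (Y.presheaf.stalk (q x))).map (q.stalkMap x).hom with hI
  apply le_antisymm
  · have hy : q x = i (genericPoint V) := by
      rw [hx, ← Scheme.Hom.comp_apply, H.w, Scheme.Hom.comp_apply, hw]
    have hle : I ≤ maximalIdeal (P.presheaf.stalk x) :=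
      Ideal.map_le_iff_le_comap.2 fun r hr hu => hr (isUnit_of_map_unit (q.stalkMap x).hom r hu)
    haveI : Nontrivial (P.presheaf.stalk x ⧸ I) :=
      Ideal.Quotient.nontrivial_iff.2 fun h => (maximalIdeal.isMaximal (P.presheaf.stalk x)).ne_top
        (top_le_iff.1 (h ▸ hle))
    haveI : IsLocalRing (P.presheaf.stalk x ⧸ I) :=
      .of_surjective' (Ideal.Quotient.mk I) Ideal.Quotient.mk_surjective
    let Q' : CommRingCat.{u} := CommRingCat.of (P.presheaf.stalk x ⧸ I)
    haveI : IsLocalRing Q' := ‹IsLocalRing (P.presheaf.stalk x ⧸ I)›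
    let mk : P.presheaf.stalk x ⟶ Q' := CommRingCat.ofHom (Ideal.Quotient.mk I)
    obtain ⟨e, he⟩ := Groth.Agent.H46.FiberStalk.exists_factor_residueField q x Q' mk
      (fun r hr => Ideal.Quotient.eq_zero_iff_mem.2 (Ideal.mem_map_of_mem _ hr)) _ hy
    obtain ⟨ρ, hρ⟩ := exists_section (i := i) (genericPoint V)
    let h : Spec Q' ⟶ Q := H.lift (Spec.map mk ≫ P.fromSpecStalk x) (e ≫ ρ)
      (by rw [Category.assoc, Category.assoc, hρ, he])
    have hhj : h ≫ j = Spec.map mk ≫ P.fromSpecStalk x := H.lift_fst _ _ _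
    haveI hloc : IsLocalHom mk.hom :=
      .of_surjective (Ideal.Quotient.mk I) Ideal.Quotient.mk_surjective
    have hpt : h (closedPoint Q') = w := by
      apply j.isEmbedding.injective
      rw [← Scheme.Hom.comp_apply, hhj, Scheme.Hom.comp_apply]
      have : Spec.map mk (closedPoint Q') = closedPoint (P.presheaf.stalk x) :=
        IsLocalRing.comap_closedPoint mk.hom
      rw [this, Scheme.fromSpecStalk_closedPoint]
    let φ : Q.presheaf.stalk w ⟶ Q' :=
      Q.presheaf.stalkSpecializes (specializes_of_eq hpt) ≫ Scheme.stalkClosedPointTo h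
    have key : j.stalkMap w ≫ φ = mk := by
      apply Spec.map_injective
      rw [← cancel_mono (P.fromSpecStalk x), Spec.map_comp, Category.assoc,
        Scheme.SpecMap_stalkMap_fromSpecStalk, ← hhj, ← Category.assoc]
      congr 1
      simp only [φ, Spec.map_comp, Category.assoc,
        Scheme.SpecMap_stalkSpecializes_fromSpecStalk, Scheme.Spec_stalkClosedPointTo_fromSpecStalk]
    intro s hs
    have : mk.hom s = 0 := by
      rw [← key]
      show φ.hom ((j.stalkMap w).hom s) = 0
      rw [RingHom.mem_ker.1 hs, map_zero]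
    exact Ideal.Quotient.eq_zero_iff_mem.1 this
  · refine Ideal.map_le_iff_le_comap.2 fun r hr => ?_
    show (j.stalkMap w).hom ((q.stalkMap x).hom r) = 0
    have hF : IsField (V.presheaf.stalk (v w)) := by
      rw [hw]; exact Field.toIsField V.functionField
    have h1 : ∀ (g : Q ⟶ Y) (e : g = v ≫ i) (r : Y.presheaf.stalk (g w)),
        r ∈ maximalIdeal (Y.presheaf.stalk (g w)) → (g.stalkMap w).hom r = 0 := by
      rintro g rfl r hr
      rw [Scheme.Hom.stalkMap_comp]
      show (v.stalkMap w).hom ((i.stalkMap (v w)).hom r) = 0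
      have : (i.stalkMap (v w)).hom r = 0 := by_contra fun h0 => by
        letI := hF.toField
        exact (mem_maximalIdeal r).1 hr
          ((inferInstance : IsLocalHom (i.stalkMap (v w)).hom).map_nonunit r (isUnit_iff_ne_zero.2 h0))
      rw [this, map_zero]
    have h2 := h1 (j ≫ q) H.w r hr
    rw [Scheme.Hom.stalkMap_comp] at h2
    exact h2

end Groth.Agent.H19.IntMult.BCClosed
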