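import Groth.Agent.H19.IntMult.Positive
import Groth.Agent.Lib.CartierDescent.Stalk
import Groth.Agent.Lib.SurfInt.Stalk
import Groth.Agent.H26.RegImmKind
import Groth.Prelude.Def_IntMult
import Mathlib

/-!
# Reduction to the diagonal
-/

set_option autoImplicit false
set_option linter.style.haveILetI false

universe u

open CategoryTheory CategoryTheory.Limits AlgebraicGeometry IsLocalRing
open scoped TensorProduct

namespace Groth.Agent.H19.IntMult.DiagChi

open Groth.Agent.Lib

/-- Reduction to the diagonal for two retractions. -/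
theorem chi_diag {A D : Type u} [CommRing A] [CommRing D] (φ φ₂ : A →+* D) (ν : D →+* A)
    (h1 : ν.comp φ = RingHom.id A) (h2 : ν.comp φ₂ = RingHom.id A) (hflat₂ : φ₂.Flat) (P Q : Ideal A)
    (hflat : ((Ideal.Quotient.mk (Q.map φ₂)).comp φ).Flat) :
    IntMult.chi D (D ⧸ RingHom.ker ν) (D ⧸ (P.map φ ⊔ Q.map φ₂)) = IntMult.chi A (A ⧸ Q) (A ⧸ P) := by
  letI : Algebra D A := ν.toAlgebra
  letI : Algebra A D := φ.toAlgebra
  haveI : IsScalarTower A D A :=
    IsScalarTower.of_algebraMap_eq (R := A) (S := D) (A := A) fun x => (RingHom.congr_fun h1 x).symm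
  haveI : Module.Flat A (D ⧸ Q.map φ₂) := by
    exact hflat
  have hvan : ∀ m, Subsingleton (DRing.Tor D (m + 1) A (D ⧸ Q.map φ₂)) := fun m =>
    Positive.vanish_diag φ₂ hflat₂ h2 Q m
  have hJQ : (Q.map φ₂).map (algebraMap D A) = Q := by
    show (Q.map φ₂).map ν = Q
    rw [Ideal.map_map, h2, Ideal.map_id]
  have hνs : Function.Surjective ν := fun x => ⟨φ x, RingHom.congr_fun h1 x⟩
  refine finsum_congr fun i => ?_
  congr 2
  obtain ⟨φ₁, hφ₁⟩ := TorDiag.tor_diag A D (Q.map φ₂) P hvan i
  have l1 := Positive.length_eq_of_semilinear φ₁ hφ₁ fun s z =>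
    Positive.exists_smul_eq_of_retraction (B := D) φ (RingHom.congr_fun h1)
      (ModuleCat.of D (D ⧸ (Q.map φ₂ ⊔ P.map φ))) i s z
  have e3 : DRing.Tor D i (D ⧸ RingHom.ker ν) (D ⧸ (P.map φ ⊔ Q.map φ₂)) ≃ₗ[D]
      DRing.Tor D i A (D ⧸ (Q.map φ₂ ⊔ P.map φ)) :=
    (((CategoryTheory.Tor (ModuleCat.{u} D) i).mapIso
      (({ RingHom.quotientKerEquivOfSurjective hνs with
          map_smul' := fun r x => by
            obtain ⟨x, rfl⟩ := Ideal.Quotient.mk_surjective x
            exact map_mul ν r x } : (D ⧸ RingHom.ker ν) ≃ₗ[D] A)).toModuleIso).app _ ≪≫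
      ((CategoryTheory.Tor (ModuleCat.{u} D) i).obj _).mapIso
        (Submodule.quotEquivOfEq _ _ (sup_comm (P.map φ) (Q.map φ₂))).toModuleIso).toLinearEquiv
  rw [e3.length_eq]
  conv_rhs => rw [← hJQ]
  exact congrArg ENat.toNat l1.symm

variable {X Y : Scheme.{u}}

/-- The stalk of the ideal of a closed immersion. -/
theorem stalkIdeal_ker_closed (i : Y ⟶ X) [IsClosedImmersion i] (y : Y) :
    IntMult.stalkIdeal i.ker (i y) = RingHom.ker (i.stalkMap y).hom := by
  obtain ⟨U, hU, hxU, -⟩ := exists_isAffineOpen_mem_and_subset (show i y ∈ (⊤ : X.Opens) from trivial)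
  haveI : IsClosedImmersion (i ∣_ U) := inferInstance
  show Ideal.Prime.stalkIdeal i.ker (i y) = _
  rw [Ideal.Prime.stalkIdeal_eq i.ker ⟨U, hU⟩ hxU, H26.RegImmKind.ker_stalkMap i hU y hxU,
    Scheme.Hom.ker_apply]

/-- The ideal of a product of closed subschemes. -/
theorem ker_map_eq {S : Scheme.{u}} (f : X ⟶ S) (g : Y ⟶ S) (I : X.IdealSheafData) (J : Y.IdealSheafData) :
    (pullback.map (I.subschemeι ≫ f) (J.subschemeι ≫ g) f g I.subschemeι J.subschemeι (𝟙 _)
        (Category.comp_id _) (Category.comp_id _)).ker =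
      I.comap (pullback.fst f g) ⊔ J.comap (pullback.snd f g) := by
  set M := pullback.map (I.subschemeι ≫ f) (J.subschemeι ≫ g) f g I.subschemeι J.subschemeι (𝟙 _)
        (Category.comp_id _) (Category.comp_id _) with hM
  refine le_antisymm ?_ (sup_le ?_ ?_)
  · let s := (I.comap (pullback.fst f g) ⊔ J.comap (pullback.snd f g)).subschemeι
    have hsI : I.subschemeι.ker ≤ (s ≫ pullback.fst f g).ker := by
      rw [Scheme.IdealSheafData.ker_subschemeι, Scheme.Hom.ker_comp,
        Scheme.IdealSheafData.le_map_iff_comap_le, Scheme.IdealSheafData.ker_subschemeι]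
      exact le_sup_left
    have hsJ : J.subschemeι.ker ≤ (s ≫ pullback.snd f g).ker := by
      rw [Scheme.IdealSheafData.ker_subschemeι, Scheme.Hom.ker_comp,
        Scheme.IdealSheafData.le_map_iff_comap_le, Scheme.IdealSheafData.ker_subschemeι]
      exact le_sup_right
    let t := pullback.lift (f := I.subschemeι ≫ f) (g := J.subschemeι ≫ g)
      (IsClosedImmersion.lift I.subschemeι (s ≫ pullback.fst f g) hsI)
      (IsClosedImmersion.lift J.subschemeι (s ≫ pullback.snd f g) hsJ) (by
        rw [IsClosedImmersion.lift_fac_assoc, IsClosedImmersion.lift_fac_assoc, Category.assoc,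
          Category.assoc, pullback.condition])
    have ht : t ≫ M = s := by
      apply pullback.hom_ext
      · rw [Category.assoc, hM, pullback.lift_fst, pullback.lift_fst_assoc, IsClosedImmersion.lift_fac]
      · rw [Category.assoc, hM, pullback.lift_snd, pullback.lift_snd_assoc, IsClosedImmersion.lift_fac]
    refine (Scheme.Hom.le_ker_comp t M).trans (le_of_eq ?_)
    rw [ht, Scheme.IdealSheafData.ker_subschemeι]
  · rw [← Scheme.IdealSheafData.le_map_iff_comap_le, Scheme.IdealSheafData.map_ker, hM, pullback.lift_fst]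
    conv_lhs => rw [← I.ker_subschemeι]
    exact Scheme.Hom.le_ker_comp _ _
  · rw [← Scheme.IdealSheafData.le_map_iff_comap_le, Scheme.IdealSheafData.map_ker, hM, pullback.lift_snd]
    conv_lhs => rw [← J.ker_subschemeι]
    exact Scheme.Hom.le_ker_comp _ _

end Groth.Agent.H19.IntMult.DiagChi
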