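import Groth.Agent.H26.RegImmKind
import Groth.Agent.H26.FibreRegStalk
import Groth.Agent.Lib.Regular.Adapted
import Groth.Agent.Lib.Synt92.KRImm
import Groth.Agent.Lib.Cyc.SmoothReg
import Groth.Agent.H75.VarDimX.Basic
import Groth.Agent.H69.RelDimLocus
import Groth.Prelude.Def_RegImm

/-!
# Immersions of regular schemes, diagonals of smooth schemes over a field, dimensions of products
-/

set_option autoImplicit false
set_option linter.style.haveILetI false

universe u

open CategoryTheory CategoryTheory.Limits AlgebraicGeometry IsLocalRing RingTheory.Sequence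

namespace Groth.Agent.H19.IntMult.Diagonal

open Groth.Agent.Lib Groth.Agent.Lib.Cyc Groth.Agent.Lib.VarDim.Basic Groth.Agent.H26

theorem exists_away_length {B : Type u} [CommRing B] [IsNoetherianRing B] (p : Ideal B) [p.IsPrime]
    (L : Type u) [CommRing L] [Algebra B L] [IsLocalization.AtPrime L p] (I : Ideal B) (rs : List L)
    (hw : IsWeaklyRegular L rs) (hI : Ideal.ofList rs = I.map (algebraMap B L)) :
    ∃ a ∉ p, ∃ fs : List B, fs.length = rs.length ∧ ∀ (Sa : Type u) [CommRing Sa] [Algebra B Sa] [IsLocalization.Away a Sa],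
      IsWeaklyRegular Sa (fs.map (algebraMap B Sa)) ∧
        I.map (algebraMap B Sa) = Ideal.ofList (fs.map (algebraMap B Sa)) := by
  classical
  have mem_iff : ∀ (J : Ideal B) (z : B), algebraMap B L z ∈ J.map (algebraMap B L) →
      ∃ t ∉ p, t * z ∈ J := by
    intro J z hz
    obtain ⟨⟨a, s⟩, e⟩ := (IsLocalization.mem_map_algebraMap_iff p.primeCompl L).mp hz
    rw [← map_mul] at e
    obtain ⟨c, hc⟩ := IsLocalization.exists_of_eq (M := p.primeCompl) e
    exact ⟨c * s, fun hm => (Ideal.IsPrime.mem_or_mem ‹_› hm).elim c.2 s.2, by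
      rw [mul_assoc, mul_comm (s : B) z, hc]; exact J.mul_mem_left _ a.2⟩
  have hnum : ∀ r ∈ rs, ∃ b : B, b ∈ I ∧ ∃ u : L, IsUnit u ∧ algebraMap B L b = u * r := fun r hr => by
    obtain ⟨⟨b, s⟩, e⟩ := (IsLocalization.mem_map_algebraMap_iff p.primeCompl L).mp
      (hI ▸ Ideal.subset_span hr : r ∈ I.map (algebraMap B L))
    exact ⟨b, b.2, _, IsLocalization.map_units L s, by rw [mul_comm, e]⟩
  choose! b hbI u hu hbu using hnum
  let fs := rs.map b
  let v : L → L := fun r => if r ∈ rs then u r else 1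
  have hv : ∀ r, IsUnit (v r) := fun r => by by_cases hr : r ∈ rs <;> simp [v, hr, hu]
  have hfs : fs.map (algebraMap B L) = rs.map fun r => v r * r := by
    rw [List.map_map]; exact List.map_congr_left fun r hr => by simp [v, hr, hbu r hr]
  have hw' : IsWeaklyRegular L (fs.map (algebraMap B L)) := by
    rw [hfs]; exact (Groth.Agent.H26.FibreRegStalk.weaklyRegular_of_unit_mul _ rs v hv).mpr hw
  have hspan : (Ideal.ofList fs).map (algebraMap B L) = I.map (algebraMap B L) := by
    rw [← hI, Ideal.map_ofList, hfs]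
    refine le_antisymm (Ideal.span_le.mpr fun z hz => ?_) (Ideal.span_le.mpr fun r hr => ?_)
    · obtain ⟨r, hr, rfl⟩ := List.mem_map.mp hz
      exact Ideal.mul_mem_left _ _ (Ideal.subset_span hr)
    · exact (Ideal.unit_mul_mem_iff_mem _ (hv r)).mp
        (Ideal.subset_span (List.mem_map.mpr ⟨r, hr, rfl⟩))
  have hfsI : Ideal.ofList fs ≤ I := Ideal.span_le.mpr fun z hz => by
    obtain ⟨r, hr, rfl⟩ := List.mem_map.mp hz
    exact hbI r hr
  -- a finitely generated ideal which maps into another one does so after inverting one element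
  have push : ∀ (J K : Ideal B), (∀ z ∈ J, algebraMap B L z ∈ K.map (algebraMap B L)) →
      ∃ g ∉ p, ∀ z ∈ J, g * z ∈ K := by
    intro J K h
    obtain ⟨s, hs⟩ := J.fg_of_isNoetherianRing
    choose! t ht htz using fun z (hz : z ∈ s) => mem_iff K z (h z (hs.le (Submodule.subset_span hz)))
    refine ⟨∏ z ∈ s, t z, fun hm => ?_, fun z hz => ?_⟩
    · obtain ⟨z, hz, hzp⟩ := Ideal.IsPrime.prod_mem_iff.mp hm
      exact ht z hz hzp
    · have : z ∈ K.colon {∏ z ∈ s, t z} := by
        refine (hs.ge.trans (Submodule.span_le.mpr fun y hy => ?_)) hz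
        rw [SetLike.mem_coe, Submodule.mem_colon_singleton, smul_eq_mul, mul_comm]
        exact Ideal.mem_of_dvd _ (mul_dvd_mul_right (Finset.dvd_prod_of_mem t hy) _) (htz y hy)
      rwa [Submodule.mem_colon_singleton, smul_eq_mul, mul_comm] at this
  obtain ⟨g₀, hg₀, hg₀z⟩ := push I (Ideal.ofList fs) fun z hz =>
    hspan.ge (Ideal.mem_map_of_mem _ hz)
  have hstep : ∀ i : Fin fs.length, ∃ g ∉ p, ∀ z, fs[i.1] * z ∈ Ideal.ofList (fs.take i.1) →
      g * z ∈ Ideal.ofList (fs.take i.1) := by
    intro i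
    obtain ⟨g, hg, hgz⟩ := push ((Ideal.ofList (fs.take i.1)).colon {fs[i.1]})
      (Ideal.ofList (fs.take i.1)) fun z hz => by
        rw [Submodule.mem_colon_singleton, smul_eq_mul, mul_comm] at hz
        have h2 := (CISpread.isSMulRegular_quotient_iff _ _).mp
          (hw'.regular_mod_prev i.1 (by simp only [List.length_map]; exact i.2)) (algebraMap B L z)
        rw [← List.map_take, ← Ideal.map_ofList, List.getElem_map, ← map_mul] at h2
        exact h2 (Ideal.mem_map_of_mem _ hz)
    exact ⟨g, hg, fun z hz => hgz z (by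
      rw [Submodule.mem_colon_singleton, smul_eq_mul, mul_comm]; exact hz)⟩
  choose g hg hgz using hstep
  refine ⟨g₀ * ∏ i, g i, fun hm => ?_, fs, List.length_map .., fun Sa _ _ _ => ?_⟩
  · rcases Ideal.IsPrime.mem_or_mem ‹_› hm with h | h
    · exact hg₀ h
    · obtain ⟨i, -, hi⟩ := Ideal.IsPrime.prod_mem_iff.mp h
      exact hg i hi
  set a := g₀ * ∏ i, g i with ha
  have hua : IsUnit (algebraMap B Sa a) := IsLocalization.Away.algebraMap_isUnit a
  have hu_dvd : ∀ d : B, d ∣ a → IsUnit (algebraMap B Sa d) := fun d hd =>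
    isUnit_of_dvd_unit (map_dvd _ hd) hua
  refine ⟨⟨fun i hi => ?_⟩, ?_⟩
  · rw [CISpread.isSMulRegular_quotient_iff, ← List.map_take, ← Ideal.map_ofList, List.getElem_map]
    intro z hz
    have hi' : i < fs.length := by simpa using hi
    obtain ⟨z₀, s, rfl⟩ := IsLocalization.exists_mk'_eq (Submonoid.powers a) z
    rw [← IsLocalization.mk'_one (M := Submonoid.powers a) Sa (fs[i]'hi'),
      ← IsLocalization.mk'_mul, one_mul, IsLocalization.mk'_mem_iff] at hz
    rw [IsLocalization.mk'_mem_iff]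
    obtain ⟨⟨c, t⟩, e⟩ := (IsLocalization.mem_map_algebraMap_iff (Submonoid.powers a) Sa).mp hz
    rw [← map_mul] at e
    obtain ⟨w, hw⟩ := IsLocalization.exists_of_eq (M := Submonoid.powers a) e
    have h1 : fs[i] * ((w : B) * t * z₀) ∈ Ideal.ofList (fs.take i) := by
      rw [show fs[i] * ((w : B) * t * z₀) = w * (fs[i] * z₀ * t) by ring, hw]
      exact Ideal.mul_mem_left _ _ c.2
    have h2 := Ideal.mem_map_of_mem (algebraMap B Sa) (hgz ⟨i, hi'⟩ _ h1)
    rw [map_mul, map_mul] at h2
    exact (Ideal.unit_mul_mem_iff_mem _ (((IsLocalization.map_units Sa w).mul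
      (IsLocalization.map_units Sa t)).map (RingHom.id Sa))).mp
      (by simpa [mul_assoc] using (Ideal.unit_mul_mem_iff_mem _ (hu_dvd (g ⟨i, hi'⟩)
        (dvd_mul_of_dvd_right (Finset.dvd_prod_of_mem g (Finset.mem_univ _)) _))).mp h2)
  · rw [← Ideal.map_ofList]
    refine le_antisymm (Ideal.map_le_iff_le_comap.mpr fun z hz => ?_) (Ideal.map_mono hfsI)
    rw [Ideal.mem_comap, ← Ideal.unit_mul_mem_iff_mem _ (hu_dvd g₀ (Dvd.intro _ rfl)), ← map_mul]
    exact Ideal.mem_map_of_mem _ (hg₀z z hz)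

/-- A regular quotient of a regular local ring is cut out by a regular sequence of the right length. -/
theorem exists_regular_gens {R S : Type u} [CommRing R] [CommRing S] [IsRegularLocalRing R]
    [IsRegularLocalRing S] (φ : R →+* S) (hφ : Function.Surjective φ) {a b n : ℕ}
    (ha : ringKrullDim R = a) (hb : ringKrullDim S = b) (hab : a = b + n) :
    ∃ rs : List R, rs.length = n ∧ IsWeaklyRegular R rs ∧ Ideal.ofList rs = RingHom.ker φ := by
  let e : (R ⧸ RingHom.ker φ) ≃+* S := RingHom.quotientKerEquivOfSurjective hφ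
  haveI : IsRegularLocalRing (R ⧸ RingHom.ker φ) := IsRegularLocalRing.of_ringEquiv e.symm
  obtain ⟨s, t, hs, hst, hlen, htlen⟩ := Regular.Adapted.exists_adapted _ R rfl (RingHom.ker φ)
  have h1 : (maximalIdeal R).spanFinrank = a := by
    have := IsRegularLocalRing.spanFinrank_maximalIdeal (R := R)
    rw [ha] at this
    exact_mod_cast this
  have h2 : (maximalIdeal (R ⧸ RingHom.ker φ)).spanFinrank = b := by
    have := IsRegularLocalRing.spanFinrank_maximalIdeal (R := R ⧸ RingHom.ker φ)
    rw [ringKrullDim_eq_of_ringEquiv e, hb] at this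
    exact_mod_cast this
  have hreg := Regular.Quotient.isRegular_of_span_eq_maximalIdeal (s ++ t) hst
    (by rw [List.length_append, hlen])
  exact ⟨s, by omega, ((isWeaklyRegular_append_iff R s t).mp hreg.toIsWeaklyRegular).1, hs⟩

/-- An immersion cut out at stalks by regular sequences of length `n` is regular of codimension `n`. -/
theorem isRegularImmersionOfCodim_of_stalk {Z P : Scheme.{u}} (i : Z ⟶ P) [IsImmersion i] [IsLocallyNoetherian P]
    (n : ℕ) (h : ∀ z : Z, ∃ rs : List (P.presheaf.stalk (i z)), rs.length = n ∧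
      IsWeaklyRegular (P.presheaf.stalk (i z)) rs ∧ Ideal.ofList rs = RingHom.ker (i.stalkMap z).hom) :
    RegImm.IsRegularImmersionOfCodim RegImm.Kind.regular n i := by
  refine ⟨inferInstance, fun z => ?_⟩
  obtain ⟨⟨U, hU⟩, hzU, -, hcl⟩ := Synt92.KRImm.exists_closed_chart i z (O := ⊤) trivial
  haveI := hcl
  haveI : IsNoetherianRing Γ(P, U) := IsLocallyNoetherian.component_noetherian ⟨U, hU⟩
  obtain ⟨rs, hlen, hrs, hrk⟩ := h z
  letI := TopCat.Presheaf.algebra_section_stalk P.presheaf (⟨i z, hzU⟩ : U)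
  haveI := hU.isLocalization_stalk ⟨i z, hzU⟩
  obtain ⟨g, hg, fs, hfl, hfs⟩ := exists_away_length (hU.primeIdealOf ⟨i z, hzU⟩).asIdeal
    (P.presheaf.stalk (i z)) (RingHom.ker (i.app U).hom) rs hrs
    (hrk.trans (RegImmKind.ker_stalkMap i hU z hzU))
  have hzD : i z ∈ P.basicOpen g := by
    rw [P.mem_basicOpen g (i z) hzU]
    exact IsLocalization.map_units (P.presheaf.stalk (i z))
      (⟨g, hg⟩ : (hU.primeIdealOf ⟨i z, hzU⟩).asIdeal.primeCompl)
  haveI := hU.isLocalization_basicOpen g
  obtain ⟨hw, hI⟩ := hfs Γ(P, P.basicOpen g)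
  have hk : RingHom.ker (i.app (P.basicOpen g)).hom =
      Ideal.ofList (fs.map (algebraMap Γ(P, U) Γ(P, P.basicOpen g))) :=
    (Synt92.KRImm.ker_app_basicOpen i hU hcl g).trans hI
  refine ⟨⟨P.basicOpen g, hU.basicOpen g⟩, hzD, Synt92.KRImm.closed_of_le i (P.basicOpen_le g) hcl,
    fs.map (algebraMap Γ(P, U) Γ(P, P.basicOpen g)), by simp [hfl, hlen], ?_, hk⟩
  refine ⟨hw, ?_⟩
  rw [smul_eq_mul, Ideal.mul_top, ← hk]
  intro htop
  haveI : Nonempty ↥(i ⁻¹ᵁ P.basicOpen g) := ⟨⟨z, hzD⟩⟩
  have h1 : (1 : Γ(P, P.basicOpen g)) ∈ RingHom.ker (i.app (P.basicOpen g)).hom := by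
    rw [← htop]; trivial
  rw [RingHom.mem_ker, map_one] at h1
  exact one_ne_zero h1

/-- An immersion between schemes with regular local rings of constant codimension is regular. -/
theorem isRegularImmersionOfCodim {Z P : Scheme.{u}} (i : Z ⟶ P) [IsImmersion i] [IsLocallyNoetherian P]
    (n : ℕ) (h : ∀ z : Z, IsRegularLocalRing (P.presheaf.stalk (i z)) ∧
      IsRegularLocalRing (Z.presheaf.stalk z) ∧ ∃ a b : ℕ, ringKrullDim (P.presheaf.stalk (i z)) = a ∧
        ringKrullDim (Z.presheaf.stalk z) = b ∧ a = b + n) :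
    RegImm.IsRegularImmersionOfCodim RegImm.Kind.regular n i := by
  refine isRegularImmersionOfCodim_of_stalk i n fun z => ?_
  obtain ⟨_, _, a, b, ha, hb, hab⟩ := h z
  exact exists_regular_gens (i.stalkMap z).hom (i.stalkMap_surjective z) ha hb hab

variable {K : Type u} [Field K]

theorem pdim_maxPt {C : Scheme.{u}} (q : C ⟶ Spec (CommRingCat.of K)) [LocallyOfFiniteType q] {d : ℕ}
    (h : Cyc.HasRelDim q d) {c : C} (hc : DimFun.IsMaxPt c) : pdim q c = d := by
  rw [pdim, tdAt, FieldDim.trdegAt_eq_of_hasRelDim q h c (fun y _ hy => hc y hy), Cardinal.toNat_natCast]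

theorem hasRelDim_irreducible {X : Scheme.{u}} [IrreducibleSpace X] (f : X ⟶ Spec (CommRingCat.of K))
    [LocallyOfFiniteType f] {r : ℕ} (hr : topologicalKrullDim X = r) : Cyc.HasRelDim f r := by
  refine FieldDim.hasRelDim_of_forall f fun x hx => ?_
  have hgen : genericPoint X = x := hx _ (Subsingleton.elim _ _) (genericPoint_specializes x)
  have hp : pdim f (genericPoint X) = r := by
    have := (topologicalKrullDim_irreducibleSpace f).symm.trans hr
    exact_mod_cast this
  rw [← hgen, FieldDim.trdegAt_eq_fdelta, fdelta_eq, Int.toNat_natCast, hp]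

theorem hasRelDim_prod {V W : Scheme.{u}} (f : V ⟶ Spec (CommRingCat.of K)) (g : W ⟶ Spec (CommRingCat.of K))
    [LocallyOfFiniteType f] [LocallyOfFiniteType g] {r s : ℕ} (hf : Cyc.HasRelDim f r)
    (hg : Cyc.HasRelDim g s) : Cyc.HasRelDim (pullback.fst f g ≫ f) (r + s) := by
  have h1 : Cyc.HasRelDim (pullback.fst f g) s := Groth.Agent.H69.RelDimLocus.hasRelDim_of_forall _ fun x => by
    rw [Groth.Agent.H2.FibreDimPullback.fibreDimAt_of_isPullback (IsPullback.of_hasPullback f g).flip x]
    exact Groth.Agent.H69.RelDimLocus.localDim_eq_of_hasRelDim g hg _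
  rw [add_comm r s]
  exact FieldDim.hasRelDim_comp _ _ h1 hf

theorem ringKrullDim_stalk {P : Scheme.{u}} (q : P ⟶ Spec (CommRingCat.of K)) [LocallyOfFiniteType q]
    {d : ℕ} (h : Cyc.HasRelDim q d) (p : P) [IsRegularLocalRing (P.presheaf.stalk p)] :
    ringKrullDim (P.presheaf.stalk p) = ((d - pdim q p : ℕ) : WithBot ℕ∞) ∧ pdim q p ≤ d := by
  haveI := Regular.Quotient.isDomain (P.presheaf.stalk p)
  let P₀ : PrimeSpectrum (P.presheaf.stalk p) := ⟨⊥, Ideal.isPrime_bot⟩
  let ξ := P.fromSpecStalk p P₀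
  have hξ : ξ ⤳ p := DimFun.fromSpecStalk_specializes_self p P₀
  have hall : ∀ y, y ⤳ p → ξ ⤳ y := fun y hy => by
    rw [← DimFun.fromSpecStalk_genPrime p y hy, DimFun.fromSpecStalk_specializes_iff]
    exact bot_le
  have hmax : DimFun.IsMaxPt ξ := fun y hy => (hy.antisymm (hall y (hy.trans hξ))).eq
  have hd := pdim_maxPt q h hmax
  have hle : pdim q p ≤ d := hd ▸ pdim_le q hξ
  refine ⟨?_, hle⟩
  rw [DimFun.ringKrullDim_stalk_of_forall (FieldDim.isDimFun_fdelta q) p ξ hξ hall, fdelta_eq, fdelta_eq,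
    hd, ← Nat.cast_sub hle, Int.toNat_natCast]

/-- The diagonal of a smooth irreducible variety of dimension `n` is regular of codimension `n`. -/
theorem diagonal_regular {X : Scheme.{u}} [IrreducibleSpace X] (f : X ⟶ Spec (CommRingCat.of K)) [Smooth f]
    {n : ℕ} (hn : topologicalKrullDim X = n) :
    RegImm.IsRegularImmersionOfCodim RegImm.Kind.regular n (pullback.diagonal f) := by
  let q : pullback f f ⟶ Spec (CommRingCat.of K) := pullback.fst f f ≫ f
  haveI : Smooth q := inferInstance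
  haveI : IsLocallyNoetherian (pullback f f) := LocallyOfFiniteType.isLocallyNoetherian q
  have hX := hasRelDim_irreducible f hn
  have hP := hasRelDim_prod f f hX hX
  refine isRegularImmersionOfCodim _ n fun z => ?_
  haveI h1 := Cyc.SmoothReg.isRegularLocalRing_stalk q (pullback.diagonal f z)
  haveI h2 := Cyc.SmoothReg.isRegularLocalRing_stalk f z
  obtain ⟨ha, hale⟩ := ringKrullDim_stalk q hP (pullback.diagonal f z)
  obtain ⟨hb, hble⟩ := ringKrullDim_stalk f hX z
  have hc : pullback.diagonal f ≫ q = f := by simp [q]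
  have he : pdim f z = pdim q (pullback.diagonal f z) := by
    have key : ∀ (g : X ⟶ Spec (CommRingCat.of K)) (_ : LocallyOfFiniteType g),
        pullback.diagonal f ≫ q = g → pdim g z = pdim q (pullback.diagonal f z) := by
      rintro g hg rfl
      exact Groth.Agent.H75.VarDimX.pdim_comp_preimmersion q (pullback.diagonal f) z
    exact key f inferInstance hc
  exact ⟨h1, h2, _, _, ha, hb, by omega⟩

end Groth.Agent.H19.IntMult.Diagonal
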