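import Groth.Agent.H19.IntMult.TorDiag
import Groth.Agent.H19.IntMult.RegSeq
import Groth.Agent.H19.IntMult.Diagonal
import Groth.Agent.Lib.JacCrit.SmoothLocal
import Mathlib

/-!
# Positivity of Serre intersection multiplicities for smooth local algebras over a field
-/

set_option autoImplicit false
set_option linter.style.haveILetI false

universe u

open CategoryTheory CategoryTheory.Limits MonoidalCategory IsLocalRing RingTheory.Sequence
open scoped TensorProduct

namespace Groth.Agent.H19.IntMult.Positive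

open Groth.Agent.Lib

theorem vanish_baseChange {R S : Type u} [CommRing R] [CommRing S] [Algebra R S] [Module.Flat R S]
    (M : Type u) [AddCommGroup M] [Module S M] [Module R M] [IsScalarTower R S M] [Module.Flat R M]
    (I : Ideal R) (m : ℕ) : Subsingleton (DRing.Tor S (m + 1) M (S ⧸ I.map (algebraMap R S))) := by
  obtain ⟨φ, hφ⟩ := Tor.BaseChange.tor_flat_baseChange (A := R) (A' := S) (P' := M) (R ⧸ I) (m + 1)
  haveI : Subsingleton (DRing.Tor R (m + 1) M (R ⧸ I)) :=
    ModuleCat.subsingleton_of_isZero (Tor.Balance.isZero_tor_succ_of_flat_left (ModuleCat.of R M) (ModuleCat.of R (R ⧸ I)) m)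
  haveI : Subsingleton (DRing.Tor S (m + 1) M (S ⊗[R] (R ⧸ I))) := hφ.surjective.subsingleton
  exact (((CategoryTheory.Tor (ModuleCat.{u} S) (m + 1)).obj _).mapIso
    (Algebra.TensorProduct.quotIdealMapEquivTensorQuot S I).toLinearEquiv.toModuleIso).toLinearEquiv.injective.subsingleton

theorem vanish_diag {A S : Type u} [CommRing A] [CommRing S] [Algebra S A] (ι : A →+* S) (hflat : ι.Flat)
    (hid : (algebraMap S A).comp ι = RingHom.id A) (Q : Ideal A) (m : ℕ) :
    Subsingleton (DRing.Tor S (m + 1) A (S ⧸ Q.map ι)) := by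
  letI : Algebra A S := ι.toAlgebra
  haveI : Module.Flat A S := hflat
  haveI : IsScalarTower A S A := IsScalarTower.of_algebraMap_eq fun x => (RingHom.congr_fun hid x).symm
  exact vanish_baseChange (R := A) (S := S) A Q m

theorem length_eq_of_semilinear {R R' : Type u} [CommRing R] [CommRing R'] {f : R →+* R'}
    {M M' : Type u} [AddCommGroup M] [AddCommGroup M'] [Module R M] [Module R' M']
    (φ : M →ₛₗ[f] M') (hφ : Function.Bijective φ) (h : ∀ (r' : R') (z : M'), ∃ r : R, f r • z = r' • z) :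
    Module.length R M = Module.length R' M' := by
  let e : Submodule R M ≃o Submodule R' M' :=
    { toFun := fun N =>
        { carrier := φ '' N
          zero_mem' := ⟨0, N.zero_mem, map_zero φ⟩
          add_mem' := by rintro _ _ ⟨x, hx, rfl⟩ ⟨y, hy, rfl⟩; exact ⟨x + y, N.add_mem hx hy, map_add φ x y⟩
          smul_mem' := by
            rintro r' _ ⟨x, hx, rfl⟩
            obtain ⟨r, hr⟩ := h r' (φ x)
            exact ⟨r • x, N.smul_mem r hx, by rw [LinearMap.map_smulₛₗ, hr]⟩ }
      invFun := fun N =>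
        { carrier := φ ⁻¹' N
          zero_mem' := show φ 0 ∈ N from (map_zero φ).symm ▸ N.zero_mem
          add_mem' := fun {x y} hx hy => show φ (x + y) ∈ N from (map_add φ x y).symm ▸ N.add_mem hx hy
          smul_mem' := fun r x hx => show φ (r • x) ∈ N from (LinearMap.map_smulₛₗ φ r x).symm ▸ N.smul_mem _ hx }
      left_inv := fun N => SetLike.coe_injective (hφ.injective.preimage_image (N : Set M))
      right_inv := fun N => SetLike.coe_injective (Set.image_preimage_eq (N : Set M') hφ.surjective)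
      map_rel_iff' := by
        intro N N'
        exact Set.image_subset_image_iff hφ.injective }
  have he : (Module.length R M : WithBot ℕ∞) = Module.length R' M' := by
    rw [Module.coe_length, Module.coe_length]
    exact Order.krullDim_eq_of_orderIso e
  exact_mod_cast he

theorem exists_smul_eq_of_retraction {A B : Type u} [CommRing A] [CommRing B] [Algebra B A] (ι : A →+* B)
    (hid : ∀ a, algebraMap B A (ι a) = a) (N : ModuleCat.{u} B) (n : ℕ) (b : B)
    (z : DRing.Tor B n A N) : ∃ a : A, ι a • z = b • z := by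
  refine ⟨algebraMap B A b, sub_eq_zero.mp ?_⟩
  rw [← sub_smul]
  refine TorVanish.smul_tor_eq_zero _ _ (Ideal.mem_sup_right (Module.mem_annihilator.mpr fun x => ?_)) n z
  rw [sub_smul, Algebra.smul_def b x, Algebra.smul_def (ι _) x, hid]
  exact sub_self _

/-- Flat local algebras: the dimension of the part over `A ⧸ P`. -/
theorem dim_add {A D : Type u} [CommRing A] [IsLocalRing A] [IsNoetherianRing A] [CommRing D] [IsLocalRing D]
    [IsNoetherianRing D] (φ : A →+* D) [IsLocalHom φ] (J : Ideal D) (hJ : J ≠ ⊤)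
    (hflat : ((Ideal.Quotient.mk J).comp φ).Flat) (P : Ideal A) (hP : P ≠ ⊤) :
    ringKrullDim (D ⧸ (J ⊔ P.map φ)) =
      ringKrullDim (A ⧸ P) + ringKrullDim (D ⧸ (J ⊔ (maximalIdeal A).map φ)) := by
  let K := J ⊔ P.map φ
  have hK : K ≠ ⊤ := ne_top_of_le_ne_top (maximalIdeal.isMaximal D).ne_top (sup_le (le_maximalIdeal hJ)
    ((Ideal.map_mono (le_maximalIdeal hP)).trans (((local_hom_TFAE φ).out 0 2 rfl rfl).mp ‹_›)))
  haveI : Nontrivial (A ⧸ P) := Ideal.Quotient.nontrivial_iff.mpr hP
  haveI : Nontrivial (D ⧸ K) := Ideal.Quotient.nontrivial_iff.mpr hK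
  haveI : IsLocalRing (A ⧸ P) := IsLocalRing.of_surjective' _ Ideal.Quotient.mk_surjective
  haveI : IsLocalRing (D ⧸ K) := IsLocalRing.of_surjective' _ Ideal.Quotient.mk_surjective
  let ψ : (A ⧸ P) →+* (D ⧸ K) := Ideal.quotientMap K φ
    (Ideal.map_le_iff_le_comap.mp (le_sup_right : P.map φ ≤ K))
  haveI : IsLocalHom ψ := by
    constructor
    intro x hx
    obtain ⟨x, rfl⟩ := Ideal.Quotient.mk_surjective x
    by_contra hnu
    have hxm : x ∈ maximalIdeal A := fun hu => hnu (hu.map _)
    have : φ x ∈ maximalIdeal D := map_nonunit φ x hxm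
    have hloc : IsLocalHom (Ideal.Quotient.mk K) := IsLocalHom.of_surjective _ Ideal.Quotient.mk_surjective
    exact this (isUnit_of_map_unit (Ideal.Quotient.mk K) _ hx)
  have hfl : ψ.Flat := by
    letI : Algebra A (D ⧸ J) := ((Ideal.Quotient.mk J).comp φ).toAlgebra
    haveI : Module.Flat A (D ⧸ J) := hflat
    letI : Algebra (A ⧸ P) (D ⧸ K) := ψ.toAlgebra
    letI : Algebra A (D ⧸ K) := ((Ideal.Quotient.mk K).comp φ).toAlgebra
    haveI : IsScalarTower A (A ⧸ P) (D ⧸ K) := IsScalarTower.of_algebraMap_eq fun x => rfl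
    let e₁ : ((D ⧸ J) ⧸ P.map (algebraMap A (D ⧸ J))) ≃+* D ⧸ K :=
      (Ideal.quotEquivOfEq (Ideal.map_map φ (Ideal.Quotient.mk J)).symm).trans
        (DoubleQuot.quotQuotEquivQuotSup J (P.map φ))
    let e₂ := (Algebra.TensorProduct.quotIdealMapEquivTensorQuot (D ⧸ J) P).toRingEquiv
    let e : (A ⧸ P) ⊗[A] (D ⧸ J) ≃+* D ⧸ K :=
      (Algebra.TensorProduct.comm A (A ⧸ P) (D ⧸ J)).toRingEquiv.trans (e₂.symm.trans e₁)
    have he : ∀ (c : A ⧸ P) z, e (c • z) = c • e z := fun c z => by
      have h1 : ∀ w : (A ⧸ P) ⊗[A] (D ⧸ J), c • w = (c ⊗ₜ[A] (1 : D ⧸ J)) * w := fun w => by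
        induction w using TensorProduct.induction_on with
        | zero => rw [smul_zero, mul_zero]
        | add x y hx hy => rw [smul_add, hx, hy, mul_add]
        | tmul x y => rw [TensorProduct.smul_tmul', Algebra.TensorProduct.tmul_mul_tmul, one_mul, smul_eq_mul]
      rw [h1, map_mul, Algebra.smul_def]
      congr 1
      obtain ⟨c, rfl⟩ := Ideal.Quotient.mk_surjective c
      show e₁ (e₂.symm ((1 : D ⧸ J) ⊗ₜ[A] Ideal.Quotient.mk P c)) = Ideal.Quotient.mk K (φ c)
      have h2 : e₂ (Ideal.Quotient.mk _ (algebraMap A (D ⧸ J) c)) = (1 : D ⧸ J) ⊗ₜ[A] Ideal.Quotient.mk P c := by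
        refine (Algebra.TensorProduct.quotIdealMapEquivTensorQuot_mk _ _ _).trans ?_
        rw [Algebra.algebraMap_eq_smul_one, TensorProduct.smul_tmul]
        congr 1
        rw [Algebra.smul_def, mul_one]
        rfl
      rw [← h2, RingEquiv.symm_apply_apply]
      rfl
    exact Module.Flat.of_linearEquiv ({ e.toAddEquiv with map_smul' := he } :
      (A ⧸ P) ⊗[A] (D ⧸ J) ≃ₗ[A ⧸ P] D ⧸ K).symm
  rw [JacCrit.SmoothLocal.ringKrullDim_eq_of_flat ψ hfl]
  congr 1
  rw [Regular.Quotient.maximalIdeal_quotient, Ideal.map_map, Ideal.quotientMap_comp_mk, ← Ideal.map_map]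
  refine ringKrullDim_eq_of_ringEquiv ((DoubleQuot.quotQuotEquivQuotSup K _).trans (Ideal.quotEquivOfEq ?_))
  refine le_antisymm (sup_le (sup_le le_sup_left (le_sup_of_le_right (Ideal.map_mono (le_maximalIdeal hP))))
    le_sup_right) (sup_le (le_sup_of_le_left le_sup_left) le_sup_right)

theorem exists_nat_dim {R : Type u} [CommRing R] [IsNoetherianRing R] [IsLocalRing R] :
    ∃ n : ℕ, ringKrullDim R = n := by
  obtain ⟨m, hm⟩ := WithBot.ne_bot_iff_exists.mp (ringKrullDim_ne_bot (R := R))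
  obtain ⟨k, hk⟩ := ENat.ne_top_iff_exists.mp fun h : m = ⊤ => (ringKrullDim_ne_top (R := R)) (by rw [← hm, h]; rfl)
  exact ⟨k, by rw [← hm, ← hk]; rfl⟩

theorem flat_localized {A S D : Type u} [CommRing A] [CommRing S] [CommRing D] [Algebra S D]
    (M : Submonoid S) [IsLocalization M D] (ι : A →+* S) (I : Ideal S)
    (h : ((Ideal.Quotient.mk I).comp ι).Flat) :
    ((Ideal.Quotient.mk (I.map (algebraMap S D))).comp ((algebraMap S D).comp ι)).Flat := by
  let ψ : (S ⧸ I) →+* D ⧸ I.map (algebraMap S D) := Ideal.quotientMap _ (algebraMap S D) Ideal.le_comap_map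
  have h1 : ψ.Flat := by
    letI := ψ.toAlgebra
    haveI : IsLocalization (M.map (Ideal.Quotient.mk I)) (D ⧸ I.map (algebraMap S D)) :=
      IsLocalization.of_surjective M D _ Ideal.Quotient.mk_surjective _ Ideal.Quotient.mk_surjective
        (RingHom.ext fun x => rfl) (by rw [Ideal.mk_ker, Ideal.mk_ker])
    exact IsLocalization.flat _ (M.map (Ideal.Quotient.mk I))
  exact h.comp h1

theorem flat_mk {A S : Type u} [CommRing A] [CommRing S] [Algebra A S] (I : Ideal S) [Module.Flat A (S ⧸ I)] :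
    ((Ideal.Quotient.mk I).comp (algebraMap A S)).Flat := by
  have h : (algebraMap A (S ⧸ I)).Flat := RingHom.flat_algebraMap_iff.mpr inferInstance
  exact h

theorem flat_mk_equiv {A S : Type u} [CommRing A] [CommRing S] (σ : S ≃+* S) (ι ι' : A →+* S)
    (hι : σ.toRingHom.comp ι = ι') (I : Ideal S) (h : ((Ideal.Quotient.mk I).comp ι).Flat) :
    ((Ideal.Quotient.mk (I.map σ.toRingHom)).comp ι').Flat := by
  let e : (S ⧸ I) ≃+* S ⧸ I.map σ.toRingHom := Ideal.quotientEquiv I _ σ rfl
  have : (Ideal.Quotient.mk (I.map σ.toRingHom)).comp ι' = e.toRingHom.comp ((Ideal.Quotient.mk I).comp ι) := by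
    subst hι
    exact RingHom.ext fun x => (Ideal.quotientEquiv_mk _ _ σ rfl (ι x)).symm
  rw [this]
  exact h.comp (RingHom.Flat.of_bijective e.bijective)

theorem chi_dichotomy {K : Type u} [Field K] {A : Type u} [CommRing A] [IsRegularLocalRing A] [Algebra K A]
    [Algebra.EssFiniteType K A] [Algebra.FormallySmooth K A] (P Q : Ideal A) (hP : P ≠ ⊤) (hQ : Q ≠ ⊤)
    (hfin : ∀ q : Ideal A, q.IsPrime → P ≤ q → Q ≤ q → q = maximalIdeal A) {d a b : ℕ}
    (hd : ringKrullDim A = d) (ha : ringKrullDim (A ⧸ P) = a) (hb : ringKrullDim (A ⧸ Q) = b)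
    : (d ≤ a + b → 0 < IntMult.chi A (A ⧸ Q) (A ⧸ P)) ∧
      (a + b < d → IntMult.chi A (A ⧸ Q) (A ⧸ P) = 0) := by
  let S := A ⊗[K] A
  let μ : S →ₐ[K] A := Algebra.TensorProduct.lmul' K
  let iL : A →+* S := Algebra.TensorProduct.includeLeftRingHom
  let iR : A →+* S := (Algebra.TensorProduct.includeRight : A →ₐ[K] S).toRingHom
  have μL : μ.toRingHom.comp iL = RingHom.id A := RingHom.ext fun x => by
    exact (Algebra.TensorProduct.lmul'_apply_tmul x 1).trans (mul_one x)
  have μR : μ.toRingHom.comp iR = RingHom.id A := RingHom.ext fun x => by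
    exact (Algebra.TensorProduct.lmul'_apply_tmul 1 x).trans (one_mul x)
  letI : Algebra S A := μ.toRingHom.toAlgebra
  haveI : IsScalarTower A S A :=
    IsScalarTower.of_algebraMap_eq (R := A) (S := S) (A := A) fun x => (RingHom.congr_fun μL x).symm
  let J : Ideal S := Q.map iR
  haveI : Module.Flat A (S ⧸ J) := Module.Flat.of_linearEquiv
    (Algebra.TensorProduct.tensorQuotientEquiv (R := K) A A A Q).symm.toLinearEquiv
  have hiLflat : iL.Flat := by
    have h : (algebraMap A S).Flat := RingHom.flat_algebraMap_iff.mpr inferInstance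
    exact h
  have hiRflat : iR.Flat := by
    have : iR = (Algebra.TensorProduct.comm K A A).toRingEquiv.toRingHom.comp iL :=
      RingHom.ext fun x => rfl
    rw [this]
    exact hiLflat.comp (RingHom.Flat.of_bijective (Algebra.TensorProduct.comm K A A).toRingEquiv.bijective)
  have hvan : ∀ m, Subsingleton (DRing.Tor S (m + 1) A (S ⧸ J)) := fun m =>
    vanish_diag iR hiRflat μR Q m
  have hJQ : J.map (algebraMap S A) = Q := by
    show (Q.map iR).map μ.toRingHom = Q
    rw [Ideal.map_map, μR, Ideal.map_id]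
  haveI : Algebra.EssFiniteType K S := Algebra.EssFiniteType.comp K A S
  haveI : Algebra.FormallySmooth K S := Algebra.FormallySmooth.comp K A S
  haveI : IsNoetherianRing S := Algebra.EssFiniteType.isNoetherianRing K S
  let M : Ideal S := (maximalIdeal A).comap μ.toRingHom
  let D := Localization.AtPrime M
  haveI : Algebra.EssFiniteType K D := Algebra.EssFiniteType.comp K S D
  haveI : Algebra.FormallyEtale S D := Algebra.FormallyEtale.of_isLocalization M.primeCompl
  haveI : Algebra.FormallySmooth K D := Algebra.FormallySmooth.comp K S D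
  haveI : IsRegularLocalRing D := JacCrit.SmoothLocal.isRegularLocalRing_of_formallySmooth K D
  let ν : D →+* A := IsLocalization.lift (M := M.primeCompl) (g := μ.toRingHom) fun y => by
    by_contra hnu
    exact y.2 (Ideal.mem_comap.mpr hnu)
  have hν : ∀ s, ν (algebraMap S D s) = μ s := fun s => IsLocalization.lift_eq _ s
  letI : Algebra D A := ν.toAlgebra
  haveI : IsScalarTower S D A := IsScalarTower.of_algebraMap_eq fun s => (hν s).symm
  let φ : A →+* D := (algebraMap S D).comp iL
  haveI : IsLocalHom φ := ⟨fun x hx => by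
    have := hx.map ν
    rwa [show ν (φ x) = x from (hν _).trans (RingHom.congr_fun μL x)] at this⟩
  have hνs : Function.Surjective ν := fun x => ⟨φ x, (hν _).trans (RingHom.congr_fun μL x)⟩
  obtain ⟨dD, hdD⟩ := exists_nat_dim (R := D)
  have hdle : d ≤ dD := by
    have := ringKrullDim_le_of_surjective ν hνs
    rw [hd, hdD] at this
    exact_mod_cast this
  obtain ⟨rs, hlen, hrs, hker⟩ := Diagonal.exists_regular_gens (n := dD - d) ν hνs hdD hd (by omega)
  let g : Fin rs.length → D := rs.get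
  have hg : List.ofFn g = rs := List.ofFn_get rs
  have hspan : Ideal.span (Set.range g) = RingHom.ker ν := by rw [← RegSeq.ofList_ofFn, hg, hker]
  have hreg : IsRegular D (List.ofFn g) := by
    rw [hg]
    refine ⟨hrs, ?_⟩
    rw [smul_eq_mul, Ideal.mul_top, hker]
    exact (RingHom.ker_ne_top ν).symm
  let J₂ : Ideal S := J ⊔ P.map iL
  let J' : Ideal D := J₂.map (algebraMap S D)
  -- the dimensions
  have hJD : J.map (algebraMap S D) ≠ ⊤ := fun h => by
    have h' : Q = ⊤ := by
      rw [← hJQ, IsScalarTower.algebraMap_eq S D A, ← Ideal.map_map, h, Ideal.map_top]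
    exact hQ h'
  have hflat2 : RingHom.Flat (S := D ⧸ J.map (algebraMap S D)) ((Ideal.Quotient.mk (J.map (algebraMap S D))).comp φ) := by
    exact flat_localized M.primeCompl iL J (flat_mk (A := A) (S := S) J)
  have hdims := dim_add φ (J.map (algebraMap S D)) hJD hflat2
  obtain ⟨f₀, hf₀⟩ : ∃ f₀ : ℕ, ringKrullDim (D ⧸ (J.map (algebraMap S D) ⊔ (maximalIdeal A).map φ)) = f₀ := by
    haveI : Nontrivial (D ⧸ (J.map (algebraMap S D) ⊔ (maximalIdeal A).map φ)) :=
      Ideal.Quotient.nontrivial_iff.mpr (ne_top_of_le_ne_top (maximalIdeal.isMaximal D).ne_top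
        (sup_le (le_maximalIdeal hJD) (((local_hom_TFAE φ).out 0 2 rfl rfl).mp ‹_›)))
    haveI : IsLocalRing (D ⧸ (J.map (algebraMap S D) ⊔ (maximalIdeal A).map φ)) :=
      IsLocalRing.of_surjective' _ Ideal.Quotient.mk_surjective
    exact exists_nat_dim (R := D ⧸ (J.map (algebraMap S D) ⊔ (maximalIdeal A).map φ))
  have hbJ : ringKrullDim (D ⧸ J') = (a + f₀ : ℕ) := by
    have := hdims P hP
    rw [ha, hf₀] at this
    rw [show J' = J.map (algebraMap S D) ⊔ P.map φ by rw [← Ideal.map_map, ← Ideal.map_sup], this]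
    norm_cast
  -- the same on the other factor gives `dim D = d + dim D/m` and `f₀ = b + δ`
  let φ₂ : A →+* D := (algebraMap S D).comp iR
  haveI : IsLocalHom φ₂ := ⟨fun x hx => by
    have := hx.map ν
    rwa [show ν (φ₂ x) = x from (hν _).trans (RingHom.congr_fun μR x)] at this⟩
  have hflat3 : RingHom.Flat (S := D ⧸ (maximalIdeal A).map φ) ((Ideal.Quotient.mk ((maximalIdeal A).map φ)).comp φ₂) := by
    let σ : S ≃+* S := (Algebra.TensorProduct.comm K A A).toRingEquiv
    let L' : Ideal S := (maximalIdeal A).map iR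
    haveI : Module.Flat A (S ⧸ L') := Module.Flat.of_linearEquiv
      (Algebra.TensorProduct.tensorQuotientEquiv (R := K) A A A (maximalIdeal A)).symm.toLinearEquiv
    have h := flat_localized (D := D) M.primeCompl iR (L'.map σ.toRingHom)
      (flat_mk_equiv σ iL iR (RingHom.ext fun x => rfl) L' (flat_mk (A := A) (S := S) L'))
    have hL : L'.map σ.toRingHom = (maximalIdeal A).map iL := by
      show ((maximalIdeal A).map iR).map σ.toRingHom = _
      rw [Ideal.map_map]
      congr 1
    rw [hL, Ideal.map_map] at h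
    exact h
  have hmD : (maximalIdeal A).map φ ≠ ⊤ :=
    ne_top_of_le_ne_top (maximalIdeal.isMaximal D).ne_top (((local_hom_TFAE φ).out 0 2 rfl rfl).mp ‹_›)
  have hd2 := dim_add φ₂ ((maximalIdeal A).map φ) hmD hflat3
  have hDd : (dD : WithBot ℕ∞) = d + ringKrullDim (D ⧸ (maximalIdeal A).map φ) := by
    rw [← hdD, ← hd]
    refine JacCrit.SmoothLocal.ringKrullDim_eq_of_flat φ ?_
    exact hiLflat.comp
      (RingHom.flat_algebraMap_iff.mpr (IsLocalization.flat D M.primeCompl))
  obtain ⟨e₀, he₀⟩ : ∃ e₀ : ℕ, ringKrullDim (D ⧸ ((maximalIdeal A).map φ ⊔ (maximalIdeal A).map φ₂)) = e₀ := by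
    haveI : Nontrivial (D ⧸ ((maximalIdeal A).map φ ⊔ (maximalIdeal A).map φ₂)) :=
      Ideal.Quotient.nontrivial_iff.mpr (ne_top_of_le_ne_top (maximalIdeal.isMaximal D).ne_top
        (sup_le (le_maximalIdeal hmD) (((local_hom_TFAE φ₂).out 0 2 rfl rfl).mp ‹_›)))
    haveI : IsLocalRing (D ⧸ ((maximalIdeal A).map φ ⊔ (maximalIdeal A).map φ₂)) :=
      IsLocalRing.of_surjective' _ Ideal.Quotient.mk_surjective
    exact exists_nat_dim (R := D ⧸ ((maximalIdeal A).map φ ⊔ (maximalIdeal A).map φ₂))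
  have hf₀b : f₀ = b + e₀ := by
    have := hd2 Q hQ
    rw [hb, he₀, show (maximalIdeal A).map φ ⊔ Q.map φ₂ = J.map (algebraMap S D) ⊔ (maximalIdeal A).map φ by
      rw [sup_comm, Ideal.map_map], hf₀] at this
    exact_mod_cast this
  have hDd' : dD = d + (d + e₀) := by
    have := hd2 ⊥ bot_ne_top
    rw [ringKrullDim_eq_of_ringEquiv (RingEquiv.quotientBot A), hd, he₀, Ideal.map_bot, sup_bot_eq] at this
    rw [this] at hDd
    exact_mod_cast hDd
  have haD : ringKrullDim (D ⧸ Ideal.span (Set.range g)) = d := by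
    rw [hspan, ringKrullDim_eq_of_ringEquiv (RingHom.quotientKerEquivOfSurjective hνs), hd]
  have hfinD : ∀ q : Ideal D, q.IsPrime → Ideal.span (Set.range g) ≤ q → J' ≤ q → q = maximalIdeal D := by
    intro q hq hgq hJq
    rw [hspan] at hgq
    haveI := Ideal.map_isPrime_of_surjective (f := ν) hνs hgq
    have hqm : (q.map ν).comap ν = q := by
      rw [Ideal.comap_map_of_surjective ν hνs, ← RingHom.ker_eq_comap_bot]
      exact sup_eq_left.mpr hgq
    have hPQ : P ⊔ Q ≤ q.map ν := by
      refine le_trans ?_ (Ideal.map_mono hJq)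
      show _ ≤ (J₂.map (algebraMap S D)).map ν
      rw [Ideal.map_map, show ν.comp (algebraMap S D) = μ.toRingHom from RingHom.ext hν, Ideal.map_sup,
        show J.map μ.toRingHom = Q from hJQ, Ideal.map_map, μL, Ideal.map_id, sup_comm]
    have := hfin _ inferInstance (le_sup_left.trans hPQ) (le_sup_right.trans hPQ)
    rw [← hqm, this]
    exact (IsLocalRing.eq_maximalIdeal (Ideal.comap_isMaximal_of_surjective ν hνs))
  -- transport the Tor modules to the diagonal
  suffices heq : IntMult.chi D (D ⧸ Ideal.span (Set.range g)) (D ⧸ J') = IntMult.chi A (A ⧸ Q) (A ⧸ P) by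
    rw [← heq, RegSeq.chi_comm]
    exact ⟨fun hle => RegSeq.chi_pos g hreg J' hfinD hdD haD hbJ (by omega),
      fun hlt => RegSeq.chi_zero g hreg J' hbJ (by omega) hfinD⟩
  refine finsum_congr fun i => ?_
  congr 2
  obtain ⟨φ₁, hφ₁⟩ := TorDiag.tor_diag A S J P hvan i
  have l1 := length_eq_of_semilinear φ₁ hφ₁ fun s z => by
    exact exists_smul_eq_of_retraction (B := S) iL (RingHom.congr_fun μL) (ModuleCat.of S (S ⧸ J₂)) i s z
  obtain ⟨φ₃, hφ₃⟩ := Tor.BaseChange.tor_flat_baseChange (A := S) (A' := D) (P' := A) (S ⧸ J₂) i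
  have l2 := length_eq_of_semilinear φ₃ hφ₃ fun x z => by
    obtain ⟨c, hc⟩ := exists_smul_eq_of_retraction (B := D) φ
      (fun y => (hν _).trans (RingHom.congr_fun μL y)) (ModuleCat.of D (D ⊗[S] (S ⧸ J₂))) i x z
    exact ⟨iL c, hc⟩
  have e3 : DRing.Tor D i (D ⧸ Ideal.span (Set.range g)) (D ⧸ J') ≃ₗ[D] DRing.Tor D i A (D ⊗[S] (S ⧸ J₂)) :=
    (((CategoryTheory.Tor (ModuleCat.{u} D) i).mapIso
      (((Submodule.quotEquivOfEq _ _ hspan).trans
        ({ RingHom.quotientKerEquivOfSurjective hνs with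
          map_smul' := fun r x => by
            obtain ⟨x, rfl⟩ := Ideal.Quotient.mk_surjective x
            exact map_mul ν r x } : (D ⧸ RingHom.ker ν) ≃ₗ[D] A)).toModuleIso)).app _ ≪≫
      ((CategoryTheory.Tor (ModuleCat.{u} D) i).obj _).mapIso
        (Algebra.TensorProduct.quotIdealMapEquivTensorQuot D J₂).toLinearEquiv.toModuleIso).toLinearEquiv
  rw [e3.length_eq, ← l2]
  conv_rhs => rw [← hJQ]
  exact congrArg ENat.toNat l1.symm

theorem chi_pos {K : Type u} [Field K] {A : Type u} [CommRing A] [IsRegularLocalRing A] [Algebra K A]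
    [Algebra.EssFiniteType K A] [Algebra.FormallySmooth K A] (P Q : Ideal A) (hP : P ≠ ⊤) (hQ : Q ≠ ⊤)
    (hfin : ∀ q : Ideal A, q.IsPrime → P ≤ q → Q ≤ q → q = maximalIdeal A) {d a b : ℕ}
    (hd : ringKrullDim A = d) (ha : ringKrullDim (A ⧸ P) = a) (hb : ringKrullDim (A ⧸ Q) = b)
    (hle : d ≤ a + b) : 0 < IntMult.chi A (A ⧸ Q) (A ⧸ P) :=
  (chi_dichotomy (K := K) P Q hP hQ hfin hd ha hb).1 hle

/-- Serre's vanishing theorem. -/
theorem chi_zero {K : Type u} [Field K] {A : Type u} [CommRing A] [IsRegularLocalRing A] [Algebra K A]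
    [Algebra.EssFiniteType K A] [Algebra.FormallySmooth K A] (P Q : Ideal A) (hP : P ≠ ⊤) (hQ : Q ≠ ⊤)
    (hfin : ∀ q : Ideal A, q.IsPrime → P ≤ q → Q ≤ q → q = maximalIdeal A) {d a b : ℕ}
    (hd : ringKrullDim A = d) (ha : ringKrullDim (A ⧸ P) = a) (hb : ringKrullDim (A ⧸ Q) = b)
    (hlt : a + b < d) : IntMult.chi A (A ⧸ Q) (A ⧸ P) = 0 :=
  (chi_dichotomy (K := K) P Q hP hQ hfin hd ha hb).2 hlt

end Groth.Agent.H19.IntMult.Positive
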