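import Groth.Agent.H19.IntMult.TorVanish
import Groth.Agent.H19.IntMult.Positive
import Groth.Agent.H19.IntMult.MultOne
import Groth.Agent.Lib.ClProd85.Main
import Groth.Agent.Lib.Cyc.DegK.Dim
import Groth.Agent.Lib.Cyc.FP.Main
import Groth.Agent.Lib.Cyc.K0.Sum
import Groth.Agent.H18.CMPoly
import Groth.Agent.H25.CMUnmixed
import Groth.Agent.Lib.Excellent.Localization
import Groth.Agent.Lib.Cyc.InducedDimFun
import Groth.Agent.H46.GoodJac
import Groth.Agent.H75.RedSub
import Mathlib

/-!
# Exterior products and proper intersection on products of varieties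
-/

set_option autoImplicit false
set_option linter.style.haveILetI false

universe u

open CategoryTheory CategoryTheory.Limits AlgebraicGeometry IsLocalRing MonoidalCategory
  CartesianMonoidalCategory
open scoped TensorProduct

namespace Groth.Agent.H19.IntMult.ExtProd

open Groth.Agent.Lib Groth.Agent.Lib.Cyc

/-- A point is the generic point of a closed subvariety. -/
theorem exists_subvariety {X : Scheme.{u}} (x : X) :
    ∃ (V : Scheme.{u}) (_ : IsIntegral V) (ι : V ⟶ X), IsClosedImmersion ι ∧ ι (genericPoint V) = x := by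
  let I := IntMult.ptIdeal x
  have hr : Set.range I.subschemeι = closure ({x} : Set X) := by
    rw [Scheme.IdealSheafData.range_subschemeι]; exact rfl
  haveI : IsReduced I.subscheme := H75.RedSub.isReduced_vanishingIdeal _
  obtain ⟨g, hg⟩ : x ∈ Set.range I.subschemeι := hr.symm ▸ subset_closure rfl
  have hgen : ∀ v, g ⤳ v := fun v => I.subschemeι.isEmbedding.isInducing.specializes_iff.1
    (by rw [hg]; exact specializes_iff_mem_closure.2 (hr.le ⟨v, rfl⟩))
  haveI : IrreducibleSpace ↥I.subscheme :=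
    { toPreirreducibleSpace := ⟨fun U V hU hV ⟨a, _, ha⟩ ⟨b, _, hb⟩ =>
        ⟨g, trivial, (hgen a).mem_open hU ha, (hgen b).mem_open hV hb⟩⟩
      toNonempty := ⟨g⟩ }
  have hgp : genericPoint ↥I.subscheme = g :=
    ((genericPoint_specializes g).antisymm (hgen _)).eq
  exact ⟨I.subscheme, isIntegral_of_irreducibleSpace_of_isReduced _, I.subschemeι, inferInstance,
    by rw [hgp, hg]⟩

variable {K : Type u} [Field K]

theorem fdelta_preimmersion {X Y : Scheme.{u}} (i : X ⟶ Y) [IsPreimmersion i]
    (f : Y ⟶ Spec (CommRingCat.of K)) [LocallyOfFiniteType f] [LocallyOfFiniteType (i ≫ f)] (x : X) :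
    FieldDim.fdelta (i ≫ f) x = FieldDim.fdelta f (i x) := by
  have h := (Residue.trdegAt_comp i f x).symm
  rw [FieldDim.trdegAt_eq_zero_of_surjective i x (FieldDim.residueFieldMap_surjective (f := i) x)] at h
  unfold FieldDim.fdelta
  rw [← h, add_zero]

theorem isSetup_of_deltaCompat {X : Scheme.{u}} (f : X ⟶ Spec (CommRingCat.of K)) [LocallyOfFiniteType f]
    {δ : X → ℤ} (h : Cyc.DeltaCompat f δ (fun _ => 0)) : Cyc.IsSetup X δ := by
  have huc : ∀ p : Spec (CommRingCat.of K),
      CAlg.IsUniversallyCatenary ((Spec (CommRingCat.of K)).presheaf.stalk p) := fun p => by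
    haveI : IsRegularLocalRing K := inferInstance
    haveI : LocCoh.IsCohenMacaulayRing K := H25.CMUnmixed.isCohenMacaulayRing_of_regular _
    exact Excellent.Localization.isUniversallyCatenary_of_isLocalization (A := K)
      (A' := (Spec.structureSheaf K).presheaf.stalk p) p.asIdeal.primeCompl
      (H18.CMPoly.isUniversallyCatenary K)
  exact ⟨LocallyOfFiniteType.isLocallyNoetherian f,
    fun y => Groth.Agent.H46.GoodJac.isUniversallyCatenary_stalk f huc y,
    InducedDimFun.isDimFun f (fun a b _ hne => absurd (Subsingleton.elim (α := PrimeSpectrum K) a b) hne) huc h⟩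

/-- The dimension of a point of a product is at most the sum of those of its projections. -/
theorem fdelta_le_add [IsAlgClosed K] {X Y : Scheme.{u}} (f : X ⟶ Spec (CommRingCat.of K))
    (g : Y ⟶ Spec (CommRingCat.of K)) [LocallyOfFiniteType f] [LocallyOfFiniteType g] [QuasiCompact g]
    (z : ↥(pullback f g)) :
    FieldDim.fdelta (pullback.fst f g ≫ f) z ≤
      FieldDim.fdelta f (pullback.fst f g z) + FieldDim.fdelta g (pullback.snd f g z) := by
  obtain ⟨V, hV, i, hi, hiv⟩ := exists_subvariety (pullback.fst f g z)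
  obtain ⟨W, hW, j, hj, hjw⟩ := exists_subvariety (pullback.snd f g z)
  haveI := hV; haveI := hW; haveI := hi; haveI := hj
  let Zv : ClProd85.Var K := Over.mk (i ≫ f)
  let Wv : ClProd85.Var K := Over.mk (j ≫ g)
  haveI : IsIntegral Zv.left := hV
  haveI : IsIntegral Wv.left := hW
  haveI : LocallyOfFiniteType Zv.hom := inferInstanceAs (LocallyOfFiniteType (i ≫ f))
  haveI : LocallyOfFiniteType Wv.hom := inferInstanceAs (LocallyOfFiniteType (j ≫ g))
  haveI : QuasiCompact Wv.hom := inferInstanceAs (QuasiCompact (j ≫ g))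
  let s := ClProd85.mkSq Zv Wv
  let M : pullback (i ≫ f) (j ≫ g) ⟶ pullback f g :=
    pullback.map (i ≫ f) (j ≫ g) f g i j (𝟙 _) (Category.comp_id _) (Category.comp_id _)
  obtain ⟨z', hz'⟩ : z ∈ Set.range M := by
    rw [Scheme.Pullback.range_map]
    exact ⟨⟨_, hiv⟩, ⟨_, hjw⟩⟩
  have h : FieldDim.fdelta (pullback.fst (i ≫ f) (j ≫ g) ≫ i ≫ f) z' ≤
      FieldDim.fdelta (i ≫ f) (pullback.fst (i ≫ f) (j ≫ g) z') + FieldDim.fdelta (j ≫ g) (genericPoint W) :=
    s.dk_le z'
  haveI : IsClosedImmersion M :=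
    MorphismProperty.pullbackMap (P := @IsClosedImmersion) (e₁ := rfl) (e₂ := rfl) hi hj
  haveI : LocallyOfFiniteType (M ≫ pullback.fst f g ≫ f) := inferInstance
  have e1 : i (pullback.fst (i ≫ f) (j ≫ g) z') = pullback.fst f g z := by
    rw [← hz', ← Scheme.Hom.comp_apply, ← Scheme.Hom.comp_apply, pullback.lift_fst]
  have e2 : (M ≫ pullback.fst f g ≫ f) = pullback.fst (i ≫ f) (j ≫ g) ≫ i ≫ f := by
    rw [pullback.lift_fst_assoc, Category.assoc]
  have h3 := fdelta_preimmersion M (pullback.fst f g ≫ f) z'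
  rw [hz'] at h3
  simp only [e2] at h3
  rw [fdelta_preimmersion i f, fdelta_preimmersion j g, e1, hjw, h3] at h
  exact h

/-- Vanishing of higher Tor makes the intersection number a length. -/
theorem chi_eq_length_of_vanish {A : Type u} [CommRing A] (P Q : Ideal A)
    (h : ∀ j, Subsingleton (DRing.Tor A (j + 1) (A ⧸ Q) (A ⧸ P))) :
    IntMult.chi A (A ⧸ Q) (A ⧸ P) = ((Module.length A (A ⧸ (P ⊔ Q))).toNat : ℤ) := by
  rw [IntMult.chi, finsum_eq_single _ 0 fun i hi => by
    obtain ⟨j, rfl⟩ := Nat.exists_eq_succ_of_ne_zero hi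
    haveI := h j
    rw [Module.length_eq_zero, ENat.toNat_zero, Nat.cast_zero, mul_zero]]
  rw [pow_zero, one_mul]
  congr 2
  refine LinearEquiv.length_eq ?_
  exact (((Groth.Agent.H25.TorLES.zeroIso (ModuleCat.of A (A ⧸ Q))).app (ModuleCat.of A (A ⧸ P))).toLinearEquiv).trans
    ((TensorProduct.quotTensorEquivQuotSMul (A ⧸ P) Q).trans
      (TorVanish.quotSmulTopEquiv P Q))

/-- The stalk of a pulled back point module over that point. -/
theorem stalk_pullback_closure {X P : Scheme.{u}} [IsLocallyNoetherian X] (f : P ⟶ X) (z : P) :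
    Nonempty (((Scheme.Modules.pullback f).obj (Cyc.closureStructureSheaf (f z))).presheaf.stalk z ≃ₗ[P.presheaf.stalk z]
      (P.presheaf.stalk z ⧸ Ideal.map (f.stalkMap z).hom (maximalIdeal (X.presheaf.stalk (f z))))) := by
  letI := (f.stalkMap z).hom.toAlgebra
  haveI : IsSimpleModule (X.presheaf.stalk (f z)) ((Cyc.closureStructureSheaf (f z)).presheaf.stalk (f z)) :=
    Module.length_eq_one_iff.mp (Devissage.Closure.length_closureStructureSheaf (f z))
  obtain ⟨I, hI, ⟨ψ⟩⟩ := isSimpleModule_iff_quot_maximal.mp this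
  rw [IsLocalRing.eq_maximalIdeal hI] at ψ
  exact ⟨((asIso ((DerivedOX.PullbackStalk.comparison f z).app (Cyc.closureStructureSheaf (f z)))).toLinearEquiv.symm).trans
    ((LinearEquiv.baseChange (X.presheaf.stalk (f z)) (P.presheaf.stalk z) _ _ ψ).trans
      (Algebra.TensorProduct.quotIdealMapEquivTensorQuot (P.presheaf.stalk z)
        (maximalIdeal (X.presheaf.stalk (f z)))).symm.toLinearEquiv)⟩

end Groth.Agent.H19.IntMult.ExtProd
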