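import Groth.Agent.S1913
import Groth.Agent.S6470
import Groth.Agent.H19.IntMult.ExtProd
import Mathlib

/-!
# Intersecting a product of cycles with the diagonal
-/

set_option autoImplicit false
set_option linter.style.haveILetI false

universe u

open CategoryTheory CategoryTheory.Limits AlgebraicGeometry IsLocalRing
open scoped TensorProduct
attribute [local instance] HasDerivedCategory.standard

namespace Groth.Agent.H19.IntMult.DiagReduce

open Groth.Agent.Lib Groth.Agent.Lib.Cyc Groth.Agent.S12212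

theorem genPrime_primeOf {P : Scheme.{u}} [IsLocallyNoetherian P] {z w : P} (h : z ⤳ w) :
    CDivInt.Factorial.primeOf h = (DimFun.genPrime w z h).asIdeal := by
  rw [DimFun.genPrime_eq]; rfl

/-- The localization of the local ring of a closed subscheme at a prime. -/
theorem locLen_quot {P : Scheme.{u}} [IsLocallyNoetherian P] (J : P.IdealSheafData) (w : P)
    (q : PrimeSpectrum (P.presheaf.stalk w)) {z : P} (hz : P.fromSpecStalk w q = z) :
    locLen (↑(P.presheaf.stalk w) ⧸ IntMult.stalkIdeal J w) q =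
      Module.length (P.presheaf.stalk z) (↑(P.presheaf.stalk z) ⧸ IntMult.stalkIdeal J z) := by
  subst hz
  have h : P.fromSpecStalk w q ⤳ w := DimFun.fromSpecStalk_specializes_self w q
  have hq : CDivInt.Factorial.primeOf h = q.asIdeal := by
    rw [genPrime_primeOf, ← congrArg PrimeSpectrum.asIdeal (DimFun.eq_genPrime w q)]
  letI : Algebra (P.presheaf.stalk w) (P.presheaf.stalk (P.fromSpecStalk w q)) :=
    (P.presheaf.stalkSpecializes h).hom.toAlgebra
  haveI : IsLocalization.AtPrime (P.presheaf.stalk (P.fromSpecStalk w q)) q.asIdeal := by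
    have := CartierDescent.isLocalization_stalkSpecializes h
    show IsLocalization q.asIdeal.primeCompl _
    rw [show q.asIdeal.primeCompl = (CDivInt.Factorial.primeOf h).primeCompl from
      SetLike.ext fun r => not_congr (by rw [hq])]
    exact this
  haveI : IsLocalizedModule q.asIdeal.primeCompl
      (TensorProduct.mk (P.presheaf.stalk w) (P.presheaf.stalk (P.fromSpecStalk w q))
        (↑(P.presheaf.stalk w) ⧸ IntMult.stalkIdeal J w) 1) :=
    (isLocalizedModule_iff_isBaseChange q.asIdeal.primeCompl (P.presheaf.stalk (P.fromSpecStalk w q)) _).mpr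
      (TensorProduct.isBaseChange _ _ _)
  refine (StalkLen.length_eq q.asIdeal (P.presheaf.stalk (P.fromSpecStalk w q)) _
    (TensorProduct.mk (P.presheaf.stalk w) (P.presheaf.stalk (P.fromSpecStalk w q))
        (↑(P.presheaf.stalk w) ⧸ IntMult.stalkIdeal J w) 1)).symm.trans ?_
  refine ((Algebra.TensorProduct.quotIdealMapEquivTensorQuot (P.presheaf.stalk (P.fromSpecStalk w q))
    (IntMult.stalkIdeal J w)).toLinearEquiv.symm.trans (Submodule.quotEquivOfEq _ _ ?_)).length_eq
  exact ModelFibre.StalkIdeal.map_stalkSpecializes J h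

variable {K : Type u} [Field K] [IsAlgClosed K] {X : Scheme.{u}} (f : X ⟶ Spec (CommRingCat.of K)) [Smooth f]
  [IsSeparated f] [QuasiCompact f] [IsIntegral X]

theorem residueDegree_fst (w : X) :
    (pullback.fst f f).residueDegree (pullback.diagonal f w) = 1 := by
  have h := Residue.residueDegree_comp (pullback.diagonal f) (pullback.fst f f) w
  rw [pullback.diagonal_fst, Scheme.Hom.residueDegree_id] at h
  first
  | exact Nat.eq_one_of_mul_eq_one_left h.symm
  | exact Nat.eq_one_of_mul_eq_one_right h.symm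

/-- The coefficient of a product of prime cycles at a point of the product. -/
noncomputable def len (z : ↥(pullback f f)) : ℤ :=
  ((Module.length ((pullback f f).presheaf.stalk z)
    (↑((pullback f f).presheaf.stalk z) ⧸
      ((maximalIdeal (X.presheaf.stalk (pullback.fst f f z))).map ((pullback.fst f f).stalkMap z).hom ⊔
        (maximalIdeal (X.presheaf.stalk (pullback.snd f f z))).map ((pullback.snd f f).stalkMap z).hom))).toNat : ℤ)

/-- The diagonal meets the product of two prime cycles with the multiplicities of their intersection. -/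
theorem pair_eq {δ : X → ℤ} {δ₂ : ↥(pullback f f) → ℤ} (hδ : Cyc.DeltaCompat f δ (fun _ => 0))
    (h₂ : Cyc.DeltaCompat (pullback.fst f f ≫ f) δ₂ (fun _ => 0)) {n : ℤ} (hn : δ (genericPoint X) = n)
    {r s : ℤ} {x y w : X} (hx : x ⤳ w) (hy : y ⤳ w) (hxr : δ x = r) (hys : δ y = s)
    (hw : δ w = r + s - n) (hprop : ∀ v, x ⤳ v → y ⤳ v → δ v ≤ r + s - n) :
    ∃ Z : Finset ↥(pullback f f),
      (∀ z, z ∈ Z ↔ z ⤳ pullback.diagonal f w ∧ pullback.fst f f z = x ∧ pullback.snd f f z = y ∧ δ₂ z = r + s) ∧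
      ∑ z ∈ Z, len f z * IntMult.mult (IntMult.ptIdeal (pullback.diagonal f (genericPoint X))) (IntMult.ptIdeal z)
        (pullback.diagonal f w) = IntMult.mult (IntMult.ptIdeal x) (IntMult.ptIdeal y) w := by
  have hsX : Cyc.IsSetup X δ := ExtProd.isSetup_of_deltaCompat f hδ
  have hsP : Cyc.IsSetup (pullback f f) δ₂ := ExtProd.isSetup_of_deltaCompat _ h₂
  haveI := hsX.1; haveI := hsP.1
  have eX : δ = FieldDim.fdelta f := funext (DegK.Dim.delta_eq hδ)
  have eP : δ₂ = FieldDim.fdelta (pullback.fst f f ≫ f) := funext (DegK.Dim.delta_eq h₂)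
  let Xv : ClProd85.Var K := Over.mk f
  haveI : IsIntegral Xv.left := ‹IsIntegral X›
  haveI : LocallyOfFiniteType Xv.hom := inferInstanceAs (LocallyOfFiniteType f)
  haveI : QuasiCompact Xv.hom := inferInstanceAs (QuasiCompact f)
  let sq := ClProd85.mkSq Xv Xv
  haveI hint : IsIntegral (pullback f f) := sq.intP
  have hadd : ∀ z : ↥(pullback f f), δ₂ z ≤ δ (pullback.fst f f z) + δ (pullback.snd f f z) := fun z => by
    rw [eX, eP]
    exact ExtProd.fdelta_le_add f f z
  have hgenP : δ₂ (genericPoint ↥(pullback f f)) = n + n := by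
    rw [eP, ← hn, eX]
    exact sq.dk_generic
  have hdiag : ∀ v : X, δ₂ (pullback.diagonal f v) = δ v := fun v => by
    have e : pullback.diagonal f ≫ pullback.fst f f ≫ f = f := by simp
    haveI : LocallyOfFiniteType (pullback.diagonal f ≫ pullback.fst f f ≫ f) := by rw [e]; infer_instance
    have h := ExtProd.fdelta_preimmersion (pullback.diagonal f) (pullback.fst f f ≫ f) v
    simp only [e] at h
    rw [eX, eP, h]
  set z₀ := pullback.diagonal f w with hz₀
  have h₁ : pullback.fst f f z₀ = w := by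
    show (pullback.diagonal f ≫ pullback.fst f f) w = w
    rw [pullback.diagonal_fst]; rfl
  have h₂' : pullback.snd f f z₀ = w := by
    show (pullback.diagonal f ≫ pullback.snd f f) w = w
    rw [pullback.diagonal_snd]; rfl
  haveI : Smooth (pullback.fst f f ≫ f) := inferInstance
  haveI : IsRegularLocalRing ((pullback f f).presheaf.stalk z₀) :=
    Cyc.SmoothReg.isRegularLocalRing_stalk (pullback.fst f f ≫ f) z₀
  -- the reduction to the diagonal
  let IV := IntMult.ptIdeal x
  let IW := IntMult.ptIdeal y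
  let J := IV.comap (pullback.fst f f) ⊔ IW.comap (pullback.snd f f)
  let e₁ := (X.presheaf.stalkCongr (.of_eq h₁.symm)).hom
  let e₂ := (X.presheaf.stalkCongr (.of_eq h₂'.symm)).hom
  let φ : X.presheaf.stalk w →+* (pullback f f).presheaf.stalk z₀ := ((pullback.fst f f).stalkMap z₀).hom.comp e₁.hom
  let φ₂ : X.presheaf.stalk w →+* (pullback f f).presheaf.stalk z₀ := ((pullback.snd f f).stalkMap z₀).hom.comp e₂.hom
  let ν : (pullback f f).presheaf.stalk z₀ →+* X.presheaf.stalk w := ((pullback.diagonal f).stalkMap w).hom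
  have hν₁ : ν.comp φ = RingHom.id _ :=
    S1913.retraction (pullback.diagonal f) (pullback.fst f f) (pullback.diagonal_fst f) w h₁
  have hν₂ : ν.comp φ₂ = RingHom.id _ :=
    S1913.retraction (pullback.diagonal f) (pullback.snd f f) (pullback.diagonal_snd f) w h₂'
  have hQ : IntMult.stalkIdeal (IW.comap (pullback.snd f f)) z₀ = (IntMult.stalkIdeal IW w).map φ₂ :=
    S1913.stalkIdeal_comap_eq (pullback.snd f f) IW z₀ h₂'
  have hflat₂ : φ₂.Flat := (RingHom.Flat.of_bijective (ConcreteCategory.bijective_of_isIso e₂)).comp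
    (Flat.stalkMap (pullback.snd f f) z₀)
  haveI : Flat ((IW.comap (pullback.snd f f)).subschemeι ≫ pullback.fst f f) := by
    rw [← Scheme.IdealSheafData.comapIso_hom_fst, Category.assoc, ← pullbackLeftPullbackSndIso_hom_fst]
    infer_instance
  have hzr : z₀ ∈ Set.range (IW.comap (pullback.snd f f)).subschemeι := by
    rw [Scheme.IdealSheafData.range_subschemeι, Scheme.IdealSheafData.support_comap]
    show pullback.snd f f z₀ ∈ closure {y}
    rw [h₂']
    exact specializes_iff_mem_closure.1 hy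
  have hflat : ((Ideal.Quotient.mk ((IntMult.stalkIdeal IW w).map φ₂)).comp φ).Flat := by
    rw [← hQ]
    have h := S1913.flat_quot (IW.comap (pullback.snd f f)).subschemeι (pullback.fst f f) z₀ hzr
    rw [Scheme.IdealSheafData.ker_subschemeι] at h
    exact (RingHom.Flat.of_bijective (ConcreteCategory.bijective_of_isIso e₁)).comp h
  have hred : IntMult.chi ((pullback f f).presheaf.stalk z₀) (↑((pullback f f).presheaf.stalk z₀) ⧸ RingHom.ker ν)
      (↑((pullback f f).presheaf.stalk z₀) ⧸ IntMult.stalkIdeal J z₀) = IntMult.mult IV IW w := by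
    have hI : IntMult.stalkIdeal J z₀ =
        (IntMult.stalkIdeal IV w).map φ ⊔ (IntMult.stalkIdeal IW w).map φ₂ := by
      rw [← hQ, ← S1913.stalkIdeal_comap_eq (pullback.fst f f) IV z₀ h₁]
      exact SurfInt.Stalk.stalkIdeal_sup _ _ z₀
    rw [S1913.chi_ideal_congr hI rfl]
    exact DiagChi.chi_diag φ φ₂ ν hν₁ hν₂ hflat₂ _ _ hflat
  -- the kernel of the diagonal
  have hker : RingHom.ker ν = IntMult.stalkIdeal (IntMult.ptIdeal (pullback.diagonal f (genericPoint X))) z₀ := by
    have hsp : pullback.diagonal f (genericPoint X) ⤳ z₀ := (genericPoint_specializes w).map (pullback.diagonal f).continuous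
    rw [MultOne.stalkIdeal_ptIdeal _ _ hsp]
    refine ((DiagChi.stalkIdeal_ker_closed (pullback.diagonal f) w).symm.trans
      ((ModelFibre.StalkIdeal.stalkIdeal_ker (pullback.diagonal f) z₀ hsp).2 (DimFun.genPrime z₀ _ hsp)
        (DimFun.fromSpecStalk_genPrime z₀ _ hsp)).symm)
  -- points of the product below the two cycles
  let pt := fun q : PrimeSpectrum ((pullback f f).presheaf.stalk z₀) => (pullback f f).fromSpecStalk z₀ q
  have hspec : ∀ q, pt q ⤳ z₀ := fun q => DimFun.fromSpecStalk_specializes_self z₀ q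
  have hgen : ∀ q, q = DimFun.genPrime z₀ (pt q) (hspec q) := fun q => DimFun.eq_genPrime z₀ q
  have hdim : ∀ q, ringKrullDim (↑((pullback f f).presheaf.stalk z₀) ⧸ q.asIdeal) =
      ((δ₂ (pt q) - δ₂ z₀).toNat : WithBot ℕ∞) :=
    fun q => (ringKrullDim_eq_of_ringEquiv (Ideal.quotEquivOfEq (congrArg PrimeSpectrum.asIdeal
      (hgen q)))).trans (DimFun.ringKrullDim_locQuot hsP.2.2 z₀ _ (hspec q))
  have hsupp : ∀ q : PrimeSpectrum ((pullback f f).presheaf.stalk z₀),
      q ∈ Module.support _ (↑((pullback f f).presheaf.stalk z₀) ⧸ IntMult.stalkIdeal J z₀) ↔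
        x ⤳ pullback.fst f f (pt q) ∧ y ⤳ pullback.snd f f (pt q) := by
    intro q
    have hm := ModelFibre.StalkIdeal.map_stalkSpecializes J (hspec q)
    rw [Module.support_eq_zeroLocus, Ideal.annihilator_quotient, PrimeSpectrum.mem_zeroLocus, SetLike.coe_subset_coe]
    have key : IntMult.stalkIdeal J z₀ ≤ q.asIdeal ↔ IntMult.stalkIdeal J (pt q) ≠ ⊤ := by
      change IntMult.stalkIdeal J z₀ ≤ q.asIdeal ↔ Ideal.Prime.stalkIdeal J (pt q) ≠ ⊤
      rw [congrArg PrimeSpectrum.asIdeal (hgen q), ← genPrime_primeOf, CDivInt.Factorial.primeOf,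
        ← Ideal.map_le_iff_le_comap]
      change (IntMult.stalkIdeal J z₀).map ((pullback f f).presheaf.stalkSpecializes (hspec q)).hom ≤ _ ↔ _
      erw [hm]
      refine ⟨fun h e => ?_, fun h => le_maximalIdeal h⟩
      exact (maximalIdeal.isMaximal _).ne_top (top_le_iff.mp (e.symm.le.trans h))
    rw [key, ne_eq]
    change ¬ Ideal.Prime.stalkIdeal J (pt q) = ⊤ ↔ _
    erw [ModelFibre.StalkIdeal.stalkIdeal_eq_top_iff J (pt q)]
    rw [not_not, specializes_iff_mem_closure, specializes_iff_mem_closure]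
    simp only [J, Scheme.IdealSheafData.support_sup, Scheme.IdealSheafData.support_comap]
    exact Iff.rfl
  have ha : ∀ q ∈ Module.support _ (↑((pullback f f).presheaf.stalk z₀) ⧸ IntMult.stalkIdeal J z₀),
      ringKrullDim (↑((pullback f f).presheaf.stalk z₀) ⧸ q.asIdeal) ≤ ((r + s - δ w).toNat : WithBot ℕ∞) := by
    intro q hq
    obtain ⟨h1, h2⟩ := (hsupp q).1 hq
    have := hadd (pt q)
    have := DimFun.le_of_specializes hsX.2.2 h1
    have := DimFun.le_of_specializes hsX.2.2 h2
    rw [hdim q]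
    exact_mod_cast (show (δ₂ (pt q) - δ₂ z₀).toNat ≤ (r + s - δ w).toNat by rw [hz₀, hdiag]; omega)
  obtain ⟨S, hS⟩ := S6470.exists_top_finset (A := (pullback f f).presheaf.stalk z₀)
    (↑((pullback f f).presheaf.stalk z₀) ⧸ IntMult.stalkIdeal J z₀) ha
  have hδw := DegK.Dim.delta_nonneg hδ w
  have hwn := DimFun.le_of_specializes hsX.2.2 (genericPoint_specializes w)
  have hle : ∀ q, δ₂ z₀ ≤ δ₂ (pt q) := fun q => DimFun.le_of_specializes hsP.2.2 (hspec q)
  have hS' : ∀ q, q ∈ S ↔ pullback.fst f f (pt q) = x ∧ pullback.snd f f (pt q) = y ∧ δ₂ (pt q) = r + s := by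
    intro q
    rw [hS q, hsupp q, hdim q]
    have := hle q
    rw [hz₀, hdiag] at this
    constructor
    · rintro ⟨⟨h1, h2⟩, h3⟩
      have h3' : (δ₂ (pt q) - δ₂ z₀).toNat = (r + s - δ w).toNat := by exact_mod_cast h3
      rw [hz₀, hdiag] at h3'
      have := hadd (pt q)
      have := DimFun.le_of_specializes hsX.2.2 h1
      have := DimFun.le_of_specializes hsX.2.2 h2
      refine ⟨(DimFun.eq_of_specializes_of_le hsX.2.2 h1 (by omega)).symm,
        (DimFun.eq_of_specializes_of_le hsX.2.2 h2 (by omega)).symm, by omega⟩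
    · rintro ⟨h1, h2, h3⟩
      exact ⟨⟨specializes_of_eq h1.symm, specializes_of_eq h2.symm⟩, by rw [h3, hz₀, hdiag]⟩
  classical
  refine ⟨S.image pt, fun z => ?_, ?_⟩
  · simp only [Finset.mem_image, hS']
    constructor
    · rintro ⟨q, ⟨h1, h2, h3⟩, rfl⟩
      exact ⟨hspec q, h1, h2, h3⟩
    · rintro ⟨h, h1, h2, h3⟩
      refine ⟨DimFun.genPrime z₀ z h, ?_, DimFun.fromSpecStalk_genPrime _ _ _⟩
      simp only [pt, DimFun.fromSpecStalk_genPrime]
      exact ⟨h1, h2, h3⟩
  obtain ⟨U, hU, V, hV, hxV, e, hstd⟩ := Smooth.exists_isStandardSmooth (pullback.fst f f ≫ f) z₀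
  have hUtop : U = ⊤ := by
    ext p
    simp only [TopologicalSpace.Opens.coe_top, Set.mem_univ, iff_true]
    exact Subsingleton.elim ((pullback.fst f f ≫ f) z₀) p ▸ e hxV
  subst hUtop
  let ι := (Scheme.ΓSpecIso (CommRingCat.of K)).inv.hom
  have hψ : (((pullback.fst f f ≫ f).appLE ⊤ V e).hom.comp ι).IsStandardSmooth :=
    RingHom.isStandardSmooth_respectsIso.2 _ (RingEquiv.ofBijective ι
      (ConcreteCategory.bijective_of_isIso (Scheme.ΓSpecIso (CommRingCat.of K)).inv)) hstd
  letI : Algebra K Γ(pullback f f, V) := (((pullback.fst f f ≫ f).appLE ⊤ V e).hom.comp ι).toAlgebra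
  haveI : Algebra.IsStandardSmooth K Γ(pullback f f, V) := hψ
  letI : Algebra Γ(pullback f f, V) ((pullback f f).presheaf.stalk z₀) :=
    (pullback f f).presheaf.algebra_section_stalk ⟨z₀, hxV⟩
  letI : Algebra K ((pullback f f).presheaf.stalk z₀) :=
    ((algebraMap Γ(pullback f f, V) ((pullback f f).presheaf.stalk z₀)).comp (algebraMap K Γ(pullback f f, V))).toAlgebra
  haveI : IsScalarTower K Γ(pullback f f, V) ((pullback f f).presheaf.stalk z₀) :=
    IsScalarTower.of_algebraMap_eq fun x => rfl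
  haveI := hV.isLocalization_stalk ⟨z₀, hxV⟩
  haveI : Algebra.EssFiniteType Γ(pullback f f, V) ((pullback f f).presheaf.stalk z₀) :=
    Algebra.EssFiniteType.of_isLocalization _ (hV.primeIdealOf ⟨z₀, hxV⟩).asIdeal.primeCompl
  haveI : Algebra.EssFiniteType K ((pullback f f).presheaf.stalk z₀) :=
    Algebra.EssFiniteType.comp K Γ(pullback f f, V) _
  haveI : Algebra.FormallyEtale Γ(pullback f f, V) ((pullback f f).presheaf.stalk z₀) :=
    Algebra.FormallyEtale.of_isLocalization (hV.primeIdealOf ⟨z₀, hxV⟩).asIdeal.primeCompl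
  haveI : Algebra.FormallySmooth K ((pullback f f).presheaf.stalk z₀) :=
    Algebra.FormallySmooth.comp K Γ(pullback f f, V) _
  have hνs : Function.Surjective ν := fun a => ⟨φ a, RingHom.congr_fun hν₁ a⟩
  have hkdim : ringKrullDim (↑((pullback f f).presheaf.stalk z₀) ⧸ RingHom.ker ν) = ((n - δ w).toNat : WithBot ℕ∞) := by
    rw [ringKrullDim_eq_of_ringEquiv (RingHom.quotientKerEquivOfSurjective hνs), DimFun.ringKrullDim_stalk hsX.2.2 w, hn]
  have hPdim : ringKrullDim ((pullback f f).presheaf.stalk z₀) = ((n + n - δ w).toNat : WithBot ℕ∞) := by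
    rw [DimFun.ringKrullDim_stalk hsP.2.2 z₀, hgenP, hz₀, hdiag]
  have hfin : ∀ q ∈ Module.support ((pullback f f).presheaf.stalk z₀)
        (↑((pullback f f).presheaf.stalk z₀) ⧸ IntMult.stalkIdeal J z₀),
      q ∈ Module.support ((pullback f f).presheaf.stalk z₀) (↑((pullback f f).presheaf.stalk z₀) ⧸ RingHom.ker ν) →
      q.asIdeal = maximalIdeal _ := by
    intro q hq hqk
    rw [Module.support_eq_zeroLocus, Ideal.annihilator_quotient, PrimeSpectrum.mem_zeroLocus, SetLike.coe_subset_coe,
      hker, MultOne.stalkIdeal_ptIdeal _ _ ((genericPoint_specializes w).map (pullback.diagonal f).continuous),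
      congrArg PrimeSpectrum.asIdeal (hgen q)] at hqk
    have h := (DimFun.fromSpecStalk_specializes_iff z₀ _ _).2 hqk
    rw [DimFun.fromSpecStalk_genPrime, DimFun.fromSpecStalk_genPrime] at h
    obtain ⟨v, hv⟩ : pt q ∈ Set.range (pullback.diagonal f) :=
      h.mem_closed (pullback.diagonal f).isClosedEmbedding.isClosed_range ⟨_, rfl⟩
    obtain ⟨h1, h2⟩ := (hsupp q).1 hq
    rw [← hv, ← Scheme.Hom.comp_apply, pullback.diagonal_fst] at h1
    rw [← hv, ← Scheme.Hom.comp_apply, pullback.diagonal_snd] at h2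
    have hvw : v ⤳ w := (pullback.diagonal f).isEmbedding.isInducing.specializes_iff.1 (hv.symm ▸ hspec q)
    have := DimFun.eq_of_specializes_of_le hsX.2.2 hvw (by rw [hw]; exact hprop v h1 h2)
    subst this
    exact congrArg PrimeSpectrum.asIdeal (DimFun.fromSpecStalk_injective z₀
      (hv.symm.trans Scheme.fromSpecStalk_closedPoint.symm : _ = (pullback f f).fromSpecStalk z₀ (closedPoint _)))
  obtain ⟨-, hexp⟩ := Additive.chi_expand
    (ModuleCat.of ((pullback f f).presheaf.stalk z₀) (↑((pullback f f).presheaf.stalk z₀) ⧸ RingHom.ker ν))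
    (r + s - δ w).toNat S _ hfin ha hS (fun q hq hlt => by
      rw [hdim q] at hlt
      have hlt' : (δ₂ (pt q) - δ₂ z₀).toNat < (r + s - δ w).toNat := by exact_mod_cast hlt
      rw [RegSeq.chi_comm]
      exact Positive.chi_zero (K := K) (RingHom.ker ν) q.asIdeal (RingHom.ker_ne_top ν) q.isPrime.ne_top
        (fun p hp h1 h2 => hfin ⟨p, hp⟩ (Module.mem_support_mono (show q ≤ ⟨p, hp⟩ from h2) hq)
          (by rw [Module.support_eq_zeroLocus, Ideal.annihilator_quotient, PrimeSpectrum.mem_zeroLocus]; exact h1))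
        hPdim hkdim (hdim q) (by omega))
    (↑((pullback f f).presheaf.stalk z₀) ⧸ IntMult.stalkIdeal J z₀) subset_rfl
  refine (Finset.sum_image fun a _ b _ h => DimFun.fromSpecStalk_injective z₀ h).trans ?_
  rw [← hred]
  refine Eq.trans ?_ hexp.symm
  refine Finset.sum_congr rfl fun q hq => ?_
  obtain ⟨hqx, hqy, -⟩ := (hS' q).1 hq
  have hl : len f (pt q) =
      ((locLen (↑((pullback f f).presheaf.stalk z₀) ⧸ IntMult.stalkIdeal J z₀) q).toNat : ℤ) := by
    have hm : ∀ (p : pullback f f ⟶ X) (v : X), p (pt q) = v → IntMult.stalkIdeal ((IntMult.ptIdeal v).comap p) (pt q) =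
        (maximalIdeal (X.presheaf.stalk (p (pt q)))).map (p.stalkMap (pt q)).hom := by
      rintro p _ rfl
      refine (CartierDescent.stalkIdeal_comap p _ (pt q)).trans ?_
      exact congrArg _ ((MultOne.stalkIdeal_ptIdeal _ _ specializes_rfl).trans
        (congrArg PrimeSpectrum.asIdeal (DimFun.genPrime_self _)))
    rw [locLen_quot J z₀ q (z := pt q) rfl, len, ← hm _ _ hqx, ← hm _ _ hqy]
    rw [show IntMult.stalkIdeal J (pt q) = IntMult.stalkIdeal ((IntMult.ptIdeal x).comap (pullback.fst f f)) (pt q) ⊔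
      IntMult.stalkIdeal ((IntMult.ptIdeal y).comap (pullback.snd f f)) (pt q) from SurfInt.Stalk.stalkIdeal_sup _ _ _]
  rw [hl]
  congr 1
  rw [IntMult.mult, RegSeq.chi_comm]
  exact S1913.chi_ideal_congr ((MultOne.stalkIdeal_ptIdeal _ _ (hspec q)).trans
    (congrArg PrimeSpectrum.asIdeal (hgen q)).symm) hker.symm

end Groth.Agent.H19.IntMult.DiagReduce
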