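import Groth.Agent.Lib.Tor.BaseChange
import Groth.Agent.H19.IntMult.Additive
import Groth.Prelude.Def_IntMult
import Mathlib

/-!
# Intersection numbers under flat base change
-/

set_option autoImplicit false
set_option linter.style.haveILetI false

universe u

open CategoryTheory CategoryTheory.Limits MonoidalCategory IsLocalRing
open scoped TensorProduct

namespace Groth.Agent.H19.IntMult.FlatBC

open Groth.Agent.Lib.Tor.BaseChange

variable (A A' : Type u) [CommRing A] [CommRing A'] [Algebra A A']

/-- Base change commutes with tensor products. -/
noncomputable def distribIso (M : ModuleCat.{u} A) :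
    bc A A' ⋙ (tensoringLeft (ModuleCat.{u} A')).obj ((bc A A').obj M) ≅
      (tensoringLeft (ModuleCat.{u} A)).obj M ⋙ bc A A' :=
  NatIso.ofComponents
    (fun X => (TensorProduct.AlgebraTensorModule.distribBaseChange A A' M X).symm.toModuleIso)
    (fun {X Y} f => by
      ext x
      induction x using TensorProduct.induction_on with
      | zero => exact (map_zero _).trans (map_zero _).symm
      | add a b ha hb => exact (map_add _ a b).trans ((congrArg₂ (· + ·) ha hb).trans (map_add _ a b).symm)
      | tmul p y =>
        induction p using TensorProduct.induction_on with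
        | zero =>
          exact ((congrArg _ (TensorProduct.zero_tmul _ y)).trans (map_zero _)).trans
            ((congrArg _ (TensorProduct.zero_tmul _ y)).trans (map_zero _)).symm
        | add a b ha hb =>
          exact ((congrArg _ (TensorProduct.add_tmul a b y)).trans (map_add _ _ _)).trans
            ((congrArg₂ (· + ·) ha hb).trans
              ((congrArg _ (TensorProduct.add_tmul a b y)).trans (map_add _ _ _)).symm)
        | tmul c m =>
          induction y using TensorProduct.induction_on with
          | zero =>
            exact ((congrArg _ (TensorProduct.tmul_zero _ _)).trans (map_zero _)).trans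
              ((congrArg _ (TensorProduct.tmul_zero _ _)).trans (map_zero _)).symm
          | add a b ha hb =>
            exact ((congrArg _ (TensorProduct.tmul_add _ a b)).trans (map_add _ _ _)).trans
              ((congrArg₂ (· + ·) ha hb).trans
                ((congrArg _ (TensorProduct.tmul_add _ a b)).trans (map_add _ _ _)).symm)
          | tmul d n =>
            rfl)

theorem length_tor [Module.Flat A A'] [IsLocalRing A] [IsLocalRing A'] [IsLocalHom (algebraMap A A')]
    (M N : ModuleCat.{u} A) (i : ℕ) :
    Module.length A' (((CategoryTheory.Tor (ModuleCat.{u} A') i).obj ((bc A A').obj M)).obj ((bc A A').obj N)) =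
      Module.length A (((CategoryTheory.Tor (ModuleCat.{u} A) i).obj M).obj N) *
        Module.length A' (A' ⧸ (maximalIdeal A).map (algebraMap A A')) := by
  let R := projectiveResolution N
  let R' : ProjectiveResolution ((bc A A').obj N) := (bc A A').mapProjectiveResolution R
  let K := (((tensoringLeft (ModuleCat.{u} A)).obj M).mapHomologicalComplex (ComplexShape.down ℕ)).obj R.complex
  let e : ((CategoryTheory.Tor (ModuleCat.{u} A') i).obj ((bc A A').obj M)).obj ((bc A A').obj N) ≅
      (bc A A').obj (((CategoryTheory.Tor (ModuleCat.{u} A) i).obj M).obj N) :=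
    R'.isoLeftDerivedObj ((tensoringLeft (ModuleCat.{u} A')).obj ((bc A A').obj M)) i ≪≫
      (HomologicalComplex.homologyFunctor _ _ i).mapIso
        ((NatIso.mapHomologicalComplex (distribIso A A' M) (ComplexShape.down ℕ)).app R.complex) ≪≫
      (K.sc i).mapHomologyIso (bc A A') ≪≫
      (bc A A').mapIso (R.isoLeftDerivedObj ((tensoringLeft (ModuleCat.{u} A)).obj M) i).symm
  rw [e.toLinearEquiv.length_eq]
  exact IsLocalRing.length_baseChange _ _ _

theorem chi_baseChange [Module.Flat A A'] [IsLocalRing A] [IsLocalRing A'] [IsLocalHom (algebraMap A A')]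
    (M N : Type u) [AddCommGroup M] [Module A M] [AddCommGroup N] [Module A N] :
    IntMult.chi A' (A' ⊗[A] M) (A' ⊗[A] N) = IntMult.chi A M N *
      ((Module.length A' (A' ⧸ (maximalIdeal A).map (algebraMap A A'))).toNat : ℤ) := by
  unfold IntMult.chi
  rw [finsum_mul]
  refine finsum_congr fun i => ?_
  erw [length_tor A A' (ModuleCat.of A M) (ModuleCat.of A N) i]
  rw [ENat.toNat_mul, Nat.cast_mul, mul_assoc]

theorem chi_congr {A : Type u} [CommRing A] {M M' N N' : Type u} [AddCommGroup M] [Module A M]
    [AddCommGroup M'] [Module A M'] [AddCommGroup N] [Module A N] [AddCommGroup N'] [Module A N']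
    (e : M ≃ₗ[A] M') (e' : N ≃ₗ[A] N') : IntMult.chi A M N = IntMult.chi A M' N' := by
  rw [Additive.chi_congr_right e', RegSeq.chi_comm, Additive.chi_congr_right e, RegSeq.chi_comm]

end Groth.Agent.H19.IntMult.FlatBC
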