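import Groth.Agent.H19.IntMult.PushLocal
import Groth.Agent.H52.FBase.BCReducedStalk
import Groth.Agent.Lib.Cyc.LimCyc
import Groth.Agent.Lib.ProjSpace.BaseChange
import Groth.Agent.Lib.Cyc.InducedDimFun
import Groth.Agent.Lib.Cyc.FieldDim
import Groth.Agent.Lib.GrpSch.SmoothReduced
import Groth.Agent.Lib.ProjSpace.Dim
import Groth.Prelude.Def_P1
import Mathlib

/-!
# The projective line over a scheme
-/

set_option autoImplicit false
set_option linter.style.haveILetI false

universe u

open CategoryTheory CategoryTheory.Limits AlgebraicGeometry IsLocalRing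

namespace Groth.Agent.H19.IntMult.P1Bundle

open Groth.Agent.Lib Groth.Agent.Lib.Cyc Groth.Agent.Lib.ProjSpace.BaseChange
open Groth.Agent.Lib.GrpSch (isReduced_of_smooth_field)

variable {P : Scheme.{u}}

/-- The fibre of the projective line. -/
theorem fibre_square (y : P) :
    IsPullback (overMap 1 (P.fromSpecResidueField y)) (CohB1.ProjSpaceOver.toBase 1 (Spec (P.residueField y)))
      (CohB1.ProjSpaceOver.toBase 1 P) (P.fromSpecResidueField y) :=
  isPullback_overMap 1 (P.fromSpecResidueField y)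

/-- The fibre as a projective line over the residue field. -/
noncomputable def fibreIso (y : P) :
    (CohB1.ProjSpaceOver.toBase 1 P).fiber y ≅ CohB1.ProjSpace 1 (P.residueField y) :=
  (fibre_square y).isoPullback.symm ≪≫ overSpecIso 1 (P.residueField y)

theorem isIntegral_fiber (y : P) : IsIntegral ((CohB1.ProjSpaceOver.toBase 1 P).fiber y) := by
  haveI : Nonempty ↥((CohB1.ProjSpaceOver.toBase 1 P).fiber y) :=
    ⟨(fibreIso y).inv (genericPoint ↥(CohB1.ProjSpace 1 (P.residueField y)))⟩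
  exact isIntegral_of_isOpenImmersion (fibreIso y).hom

theorem hasRelDim : Cyc.HasRelDim (CohB1.ProjSpaceOver.toBase 1 P) 1 := by
  intro y T hT
  haveI := isIntegral_fiber y
  rw [irreducibleComponents_eq_singleton] at hT
  subst hT
  rw [(Homeomorph.Set.univ _).isHomeomorph.topologicalKrullDim_eq,
    (Scheme.homeoOfIso (fibreIso y)).isHomeomorph.topologicalKrullDim_eq]
  exact ProjSpace.Dim.topologicalKrullDim_projSpace_of_field 1 (P.residueField y)

/-- The generic point of a fibre. -/
theorem exists_gen [IsLocallyNoetherian P] (y : P) :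
    ∃ ζ, CohB1.ProjSpaceOver.toBase 1 P ζ = y ∧
      (∀ z, CohB1.ProjSpaceOver.toBase 1 P z = y → ζ ⤳ z) ∧
      FibLen.IsMaxFib (CohB1.ProjSpaceOver.toBase 1 P) ζ ∧
      FibLen.fibLen (CohB1.ProjSpaceOver.toBase 1 P) ζ = 1 := by
  let pr := CohB1.ProjSpaceOver.toBase 1 P
  haveI : IsIntegral (pr.fiber y) := isIntegral_fiber y
  let F : Scheme.{u} := pr.fiber y
  let e : F ⟶ CohB1.ProjSpaceOver 1 P := pr.fiberι y
  let a := genericPoint F
  have hspec : ∀ z, pr z = y → e a ⤳ z := fun z hz => by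
    obtain ⟨w, rfl⟩ := FieldDim.exists_fiberι_eq pr z y hz
    exact (genericPoint_specializes w).map e.continuous
  have hy : pr (e a) = y := FieldDim.apply_fiberι pr y a
  refine ⟨e a, hy, hspec, fun z hz h => (h.antisymm (hspec z (hz.trans hy))).eq, ?_⟩
  have H : IsPullback e (pr.fiberToSpecResidueField y) pr (P.fromSpecResidueField y) :=
    IsPullback.of_hasPullback _ _
  refine LimCyc.fibLen_eq_one pr _ ?_
  have hsub : ∀ t : Spec (P.residueField y), t = genericPoint (Spec (P.residueField y) : Scheme.{u}) :=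
    fun t => Subsingleton.elim _ _
  have hz : IsField ((Spec (P.residueField y)).presheaf.stalk (pr.fiberToSpecResidueField y a)) := by
    rw [hsub (pr.fiberToSpecResidueField y a)]
    exact Field.toIsField (Spec (P.residueField y)).functionField
  rw [← H52.FBase.BCReducedStalk.ker_stalkMap H a hz]
  haveI : (RingHom.ker (e.stalkMap a).hom).IsMaximal :=
    RingHom.ker_isMaximal_of_surjective (K := F.functionField) (e.stalkMap a).hom
      (e.stalkMap_surjective _)
  exact IsLocalRing.eq_maximalIdeal inferInstance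

theorem isIntegral {K : Type u} [Field K] (fP : P ⟶ Spec (CommRingCat.of K)) [Smooth fP] [IsIntegral P]
    [IsLocallyNoetherian P] : IsIntegral (CohB1.ProjSpaceOver 1 P) := by
  haveI : IsReduced (CohB1.ProjSpaceOver 1 P) :=
    isReduced_of_smooth_field (CohB1.ProjSpaceOver.toBase 1 P ≫ fP)
  let pr := CohB1.ProjSpaceOver.toBase 1 P
  obtain ⟨ζ, hζ, hζ', -, -⟩ := exists_gen (genericPoint P)
  haveI : IrreducibleSpace ↥(CohB1.ProjSpaceOver 1 P) := by
    refine (irreducibleSpace_def _).mpr ?_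
    have h : closure ({ζ} : Set ↥(CohB1.ProjSpaceOver 1 P)) = Set.univ := Set.eq_univ_of_forall fun z => by
      obtain ⟨z', hz', hz''⟩ := Flat.generalizingMap pr (genericPoint_specializes (pr z))
      exact specializes_iff_mem_closure.1 ((hζ' z' hz'').trans hz')
    rw [Set.top_eq_univ, ← h]
    exact isIrreducible_singleton.closure
  exact isIntegral_of_irreducibleSpace_of_isReduced _

theorem sect_toBase (X : Scheme.{u}) (i : Fin (1 + 1)) :
    P1.sect X i ≫ CohB1.ProjSpaceOver.toBase 1 X = 𝟙 X := pullback.lift_snd _ _ _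

variable {δ : P → ℤ} {δQ : ↥(CohB1.ProjSpaceOver 1 P) → ℤ}

theorem delta_sect (hQ : Cyc.DeltaCompat (CohB1.ProjSpaceOver.toBase 1 P) δQ δ) (i : Fin (1 + 1))
    (x : P) : δQ (P1.sect P i x) = δ x := by
  have hx : CohB1.ProjSpaceOver.toBase 1 P (P1.sect P i x) = x := by
    rw [← Scheme.Hom.comp_apply, sect_toBase]; rfl
  have h0 : Residue.trdegAt (P1.sect P i ≫ CohB1.ProjSpaceOver.toBase 1 P) x = 0 := by
    rw [FieldDim.trdegAt_congr (sect_toBase P i) x]
    exact FieldDim.trdegAt_eq_zero_of_surjective (𝟙 P) x (FieldDim.residueFieldMap_surjective (𝟙 P) x)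
  rw [Residue.trdegAt_comp, add_eq_zero] at h0
  rw [(Residue.trdegAt_eq_zero_iff_eq hQ (P1.sect P i x)).1 h0.1, hx]

theorem deltaCompat_struct {W : Scheme.{u}} (ι : W ⟶ CohB1.ProjSpaceOver 1 P) [IsClosedImmersion ι]
    (hQ : Cyc.DeltaCompat (CohB1.ProjSpaceOver.toBase 1 P) δQ δ) :
    Cyc.DeltaCompat (ι ≫ CohB1.ProjSpaceOver.toBase 1 P) (fun w => δQ (ι w)) δ :=
  Residue.deltaCompat_comp (fun w => ⟨0, by
    rw [Nat.cast_zero]
    exact FieldDim.trdegAt_eq_zero_of_surjective ι w (FieldDim.residueFieldMap_surjective ι w),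
    by simp⟩) hQ

theorem shift (hQ : Cyc.DeltaCompat (CohB1.ProjSpaceOver.toBase 1 P) δQ δ) :
    FP.Main.Shift (CohB1.ProjSpaceOver.toBase 1 P) δQ δ ((1 : ℕ) : ℤ) :=
  FP.Main.shift_of_hasRelDim _ hasRelDim hQ

/-- The dimension of the projective line over an integral scheme. -/
theorem delta_genericPoint [IsIntegral P] [IsLocallyNoetherian P] [IsIntegral (CohB1.ProjSpaceOver 1 P)]
    (hQ : Cyc.DeltaCompat (CohB1.ProjSpaceOver.toBase 1 P) δQ δ) :
    δQ (genericPoint ↥(CohB1.ProjSpaceOver 1 P)) = δ (genericPoint P) + 1 := by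
  let pr := CohB1.ProjSpaceOver.toBase 1 P
  obtain ⟨ζ, hζ, hζ', hmax, -⟩ := exists_gen (genericPoint P)
  have h1 : FibLen.IsMaxFib pr (genericPoint ↥(CohB1.ProjSpaceOver 1 P)) :=
    fun z _ h => (h.antisymm (genericPoint_specializes z)).eq
  have h2 : pr (genericPoint ↥(CohB1.ProjSpaceOver 1 P)) = genericPoint P := by
    have := (genericPoint_specializes ζ).map pr.continuous
    rw [show pr ζ = genericPoint P from hζ] at this
    exact (this.antisymm (genericPoint_specializes _)).eq
  rw [shift hQ _ h1, h2]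
  rfl

/-- The pullback of a prime cycle to the projective line. -/
theorem pullFun_indicator [IsLocallyNoetherian P] [IsLocallyNoetherian (CohB1.ProjSpaceOver 1 P)]
    (hQd : Cyc.IsDimFun (CohB1.ProjSpaceOver 1 P) δQ)
    (hQ : Cyc.DeltaCompat (CohB1.ProjSpaceOver.toBase 1 P) δQ δ)
    (x : P) (z : ↥(CohB1.ProjSpaceOver 1 P)) (hz : CohB1.ProjSpaceOver.toBase 1 P z = x) (hδz : δQ z = δ x + 1) :
    Cyc.pullFun (CohB1.ProjSpaceOver.toBase 1 P) δQ δ ((1 : ℕ) : ℤ) (Set.indicator {x} 1) =
      Set.indicator {z} 1 := by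
  classical
  let pr := CohB1.ProjSpaceOver.toBase 1 P
  obtain ⟨ζ, hζ, hζ', hmax, hlen⟩ := exists_gen x
  have huniq : ∀ w, pr w = x → δQ w = δ x + 1 → w = ζ := fun w hw hd => by
    have h1 := shift hQ ζ hmax
    rw [hζ] at h1
    exact (DimFun.eq_of_specializes_of_le hQd (hζ' w hw) (by rw [h1, hd]; rfl)).symm
  obtain rfl := huniq z hz hδz
  funext w
  rw [FibLen.pullFun_apply]
  by_cases hw : w = z
  · subst hw
    rw [if_pos (by rw [hz, hδz]; rfl), hz, hlen]
    simp
  · rw [Set.indicator_of_notMem (show w ∉ ({z} : Set _) from hw)]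
    split_ifs with h
    · rw [Set.indicator_of_notMem, zero_mul]
      intro hx
      have hx' : pr w = x := hx
      exact hw (huniq w hx' (by rw [h, show (CohB1.ProjSpaceOver.toBase 1 P) w = x from hx]; rfl))
    · rfl

end Groth.Agent.H19.IntMult.P1Bundle
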