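import Groth.Agent.H19.IntMult.PushLocal
import Groth.Agent.H19.IntMult.ExtProd
import Groth.Agent.Lib.Cyc.PP.PreImm
import Groth.Agent.Lib.GenFinite.Regular
import Mathlib

/-!
# The projection formula for a pair of prime cycles
-/

set_option autoImplicit false
set_option linter.style.haveILetI false

universe u

open CategoryTheory CategoryTheory.Limits AlgebraicGeometry IsLocalRing
open scoped TensorProduct

namespace Groth.Agent.H19.IntMult.PushCore

open Groth.Agent.Lib Groth.Agent.Lib.Cyc Groth.Agent.S12212 Groth.Agent.H25.TorLES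

variable {X Y : Scheme.{u}}

/-- The intersection number of a prime cycle with a pulled back prime cycle. -/
noncomputable def chiX (f : X ⟶ Y) (ξ : X) (ω : Y) (x : X) : ℤ :=
  IntMult.chi (X.presheaf.stalk x) (X.presheaf.stalk x ⧸ IntMult.stalkIdeal (IntMult.ptIdeal ξ) x)
    (X.presheaf.stalk x ⧸ (IntMult.stalkIdeal (IntMult.ptIdeal ω) (f x)).map (f.stalkMap x).hom)

variable {K : Type u} [Field K] [IsAlgClosed K] (f : X ⟶ Y) [Flat f] {δX : X → ℤ} {δY : Y → ℤ}

/-- The coefficient of a product with a pulled back prime cycle. -/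
theorem local_eq (gX : X ⟶ Spec (CommRingCat.of K)) [Smooth gX] [IsIntegral X] [IsLocallyNoetherian X]
    [IsLocallyNoetherian Y] (hX : Cyc.IsDimFun X δX) (hY : Cyc.IsDimFun Y δY) {e : ℕ}
    (hsh : FP.Main.Shift f δX δY (e : ℤ)) {n r s k : ℤ} (hn : δX (genericPoint X) = n)
    (hnum : k + n = r + s + e) {ξ : X} {ω : Y} (hξ : δX ξ = r) (hω : δY ω = s) (x : X) (hξx : ξ ⤳ x)
    (hωx : ω ⤳ f x) (hx : δX x = k) (hmeet : ∀ z : X, ξ ⤳ z → ω ⤳ f z → δX z ≤ k) :
    ∃ W : Finset X, (∀ w, w ∈ W ↔ w ⤳ x ∧ f w = ω ∧ δX w = s + e) ∧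
      ∑ w ∈ W, ((FibLen.fibLen f w).toNat : ℤ) *
        IntMult.mult (IntMult.ptIdeal ξ) (IntMult.ptIdeal w) x = chiX f ξ ω x := by
  classical
  obtain ⟨alg, h1, h2⟩ := PushLocal.exists_algebra gX x
  haveI : IsRegularLocalRing (X.presheaf.stalk x) := Cyc.SmoothReg.isRegularLocalRing_stalk gX x
  let pt := fun p : PrimeSpectrum (X.presheaf.stalk x) => X.fromSpecStalk x p
  have hspec : ∀ p, pt p ⤳ x := fun p => DimFun.fromSpecStalk_specializes_self x p
  have hle : ∀ p, δX x ≤ δX (pt p) := fun p => DimFun.le_of_specializes hX (hspec p)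
  have hgp : ∀ p, p = DimFun.genPrime x (pt p) (hspec p) := fun p => DimFun.eq_genPrime x p
  have hdim : ∀ p, ringKrullDim (X.presheaf.stalk x ⧸ p.asIdeal) = ((δX (pt p) - δX x).toNat : WithBot ℕ∞) :=
    fun p => (ringKrullDim_eq_of_ringEquiv (Ideal.quotEquivOfEq (congrArg PrimeSpectrum.asIdeal
      (hgp p)))).trans (DimFun.ringKrullDim_locQuot hX x _ (hspec p))
  have hd : ringKrullDim (X.presheaf.stalk x) = ((n - δX x).toNat : WithBot ℕ∞) := by
    rw [DimFun.ringKrullDim_stalk hX x, hn]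
  let N : ModuleCat.{u} (X.presheaf.stalk x) :=
    ModuleCat.of (X.presheaf.stalk x) (X.presheaf.stalk x ⧸ (DimFun.genPrime x ξ hξx).asIdeal)
  let I := (DimFun.genPrime (f x) ω hωx).asIdeal.map (f.stalkMap x).hom
  have hfp : ∀ p, f (pt p) = Y.fromSpecStalk (f x) (PrimeSpectrum.comap (f.stalkMap x).hom p) := fun p => by
    show f (X.fromSpecStalk x p) = _
    rw [← Scheme.Hom.comp_apply, ← Scheme.SpecMap_stalkMap_fromSpecStalk, Scheme.Hom.comp_apply]
    rfl
  have hV : ∀ p, p ∈ Module.support (X.presheaf.stalk x) (X.presheaf.stalk x ⧸ I) ↔ ω ⤳ f (pt p) := fun p => by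
    rw [Module.support_eq_zeroLocus, Ideal.annihilator_quotient, PrimeSpectrum.mem_zeroLocus,
      SetLike.coe_subset_coe, Ideal.map_le_iff_le_comap]
    conv_rhs => rw [hfp p, ← DimFun.fromSpecStalk_genPrime (f x) ω hωx, DimFun.fromSpecStalk_specializes_iff]
    rfl
  have hN : ∀ p, p ∈ Module.support (X.presheaf.stalk x) N ↔ ξ ⤳ pt p := fun p => by
    show p ∈ Module.support (X.presheaf.stalk x) (X.presheaf.stalk x ⧸ (DimFun.genPrime x ξ hξx).asIdeal) ↔ _
    rw [Module.support_eq_zeroLocus, Ideal.annihilator_quotient, PrimeSpectrum.mem_zeroLocus, SetLike.coe_subset_coe]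
    refine (DimFun.fromSpecStalk_specializes_iff x (DimFun.genPrime x ξ hξx) p).symm.trans ?_
    rw [DimFun.fromSpecStalk_genPrime]
  have hrn : r ≤ n := hξ ▸ hn ▸ DimFun.le_of_specializes hX (genericPoint_specializes ξ)
  have hkr : k ≤ r := hξ ▸ hx ▸ DimFun.le_of_specializes hX hξx
  have hb : ∀ z, ω ⤳ f z → δX z ≤ s + e := fun z hz => by
    have h3 := FP.Main.delta_le f hX hsh z
    have h4 := DimFun.le_of_specializes hY hz
    omega
  have hVdim : ∀ p ∈ Module.support (X.presheaf.stalk x) (X.presheaf.stalk x ⧸ I),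
      ringKrullDim (X.presheaf.stalk x ⧸ p.asIdeal) ≤ ((s + e - k).toNat : WithBot ℕ∞) := fun p hp => by
    have := hb _ ((hV p).1 hp)
    rw [hdim p]
    exact_mod_cast (show (δX (pt p) - δX x).toNat ≤ (s + e - k).toNat by omega)
  obtain ⟨S, hS⟩ := S6470.exists_top_finset (A := X.presheaf.stalk x) (X.presheaf.stalk x ⧸ I) hVdim
  have hS' : ∀ p, p ∈ S ↔ f (pt p) = ω ∧ δX (pt p) = s + e := fun p => by
    rw [hS p, hV p, hdim p]
    constructor
    · rintro ⟨h3, h4⟩
      have h4' : (δX (pt p) - δX x).toNat = (s + e - k).toNat := by exact_mod_cast h4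
      have := hle p
      have hδ' : δX (pt p) = s + e := by omega
      refine ⟨(DimFun.eq_of_specializes_of_le hY h3 ?_).symm, hδ'⟩
      have := FP.Main.delta_le f hX hsh (pt p)
      omega
    · rintro ⟨h3, h4⟩
      refine ⟨specializes_of_eq h3.symm, ?_⟩
      rw [h4, hx]
  refine ⟨S.image pt, fun w => ?_, ?_⟩
  · simp only [Finset.mem_image]
    constructor
    · rintro ⟨p, hp, rfl⟩
      exact ⟨hspec p, (hS' p).1 hp⟩
    · rintro ⟨h3, h4, h5⟩
      have he : pt (DimFun.genPrime x w h3) = w := DimFun.fromSpecStalk_genPrime x w h3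
      exact ⟨_, (hS' _).2 (he.symm ▸ ⟨h4, h5⟩), he⟩
  refine (Finset.sum_image (g := pt) fun p _ q _ h => DimFun.fromSpecStalk_injective x h).trans ?_
  have hfin : ∀ p ∈ Module.support (X.presheaf.stalk x) (X.presheaf.stalk x ⧸ I),
      p ∈ Module.support (X.presheaf.stalk x) N → p.asIdeal = maximalIdeal _ := fun p hp hp' => by
    have h3 := hmeet _ ((hN p).1 hp') ((hV p).1 hp)
    have he := DimFun.eq_of_specializes_of_le hX (hspec p) (by omega)
    exact congrArg PrimeSpectrum.asIdeal (DimFun.fromSpecStalk_injective x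
      (he.trans Scheme.fromSpecStalk_closedPoint.symm : _ = X.fromSpecStalk x (IsLocalRing.closedPoint _)))
  have hexp := (Additive.chi_expand N (s + e - k).toNat S _ hfin hVdim hS (fun q hq hlt => by
    rw [hdim q] at hlt
    have hlt' : (δX (pt q) - δX x).toNat < (s + e - k).toNat := by exact_mod_cast hlt
    have := hle q
    refine (RegSeq.chi_comm _ _).trans ?_
    exact Positive.chi_zero (K := K) (DimFun.genPrime x ξ hξx).asIdeal q.asIdeal
      (DimFun.genPrime x ξ hξx).isPrime.ne_top q.isPrime.ne_top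
      (fun t ht h3 h4 => hfin ⟨t, ht⟩ (Module.mem_support_mono (p := q) h4 hq) (by
        show (⟨t, ht⟩ : PrimeSpectrum _) ∈ Module.support _ (↑(X.presheaf.stalk x) ⧸ (DimFun.genPrime x ξ hξx).asIdeal)
        rw [Module.support_eq_zeroLocus, Ideal.annihilator_quotient]
        exact h3))
      hd (DimFun.ringKrullDim_locQuot hX x ξ hξx) (hdim q) (by omega))
    (X.presheaf.stalk x ⧸ I) subset_rfl).2
  refine Eq.trans ?_ (hexp.symm.trans ?_)
  · refine Finset.sum_congr rfl fun p hp => ?_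
    rw [PushLocal.locLen_pull f x p rfl hωx ((hS' p).1 hp).1]
    refine congrArg _ ?_
    refine (S6470.chi_ideal_congr (MultOne.stalkIdeal_ptIdeal _ x hξx)
      ((MultOne.stalkIdeal_ptIdeal _ x (hspec p)).trans (congrArg PrimeSpectrum.asIdeal (hgp p)).symm)).trans ?_
    exact RegSeq.chi_comm _ _
  · unfold chiX
    rw [MultOne.stalkIdeal_ptIdeal ξ x hξx, MultOne.stalkIdeal_ptIdeal ω (f x) hωx]

/-- The projection formula for a pair of prime cycles at a point. -/
theorem core [IsProper f] [IsLocallyNoetherian X] [IsLocallyNoetherian Y] (gY : Y ⟶ Spec (CommRingCat.of K))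
    [Smooth gY] [IsIntegral Y] (hX : Cyc.IsDimFun X δX) (hY : Cyc.IsDimFun Y δY)
    (hδ : Cyc.DeltaCompat f δX δY) {m r s k : ℤ} (hm : δY (genericPoint Y) = m) (hnum : k + m = r + s)
    {ξ : X} {ω y : Y} (hξ : δX ξ = r) (hω : δY ω = s) (hy : δY y = k) (hξy : f ξ ⤳ y) (hωy : ω ⤳ y)
    (hmeet : ∀ z : X, ξ ⤳ z → ω ⤳ f z → δX z ≤ k) :
    δY (f ξ) = r ∧ ∃ F : Finset X, (∀ x, x ∈ F ↔ ξ ⤳ x ∧ f x = y) ∧ (∀ x ∈ F, δX x = k) ∧
      ∑ x ∈ F, (f.residueDegree x : ℤ) * chiX f ξ ω x =
        (f.residueDegree ξ : ℤ) * IntMult.mult (IntMult.ptIdeal (f ξ)) (IntMult.ptIdeal ω) y := by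
  classical
  have hlift : ∀ z : Y, f ξ ⤳ z → ∃ x, ξ ⤳ x ∧ f x = z := fun z hz => by
    have h1 : closure {f ξ} ⊆ f '' closure {ξ} :=
      ((f.isClosedMap _ isClosed_closure).closure_subset_iff).2
        (Set.singleton_subset_iff.2 ⟨ξ, subset_closure rfl, rfl⟩)
    obtain ⟨x, hx, rfl⟩ := h1 hz.mem_closure
    exact ⟨x, specializes_iff_mem_closure.2 hx, rfl⟩
  have hk : ∀ x, ξ ⤳ x → f x = y → δX x = k := fun x h1 h2 => by
    have h3 := hmeet x h1 (h2 ▸ hωy)
    have h4 := Residue.deltaY_le hδ x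
    rw [h2, hy] at h4
    omega
  -- the fibre
  have hfinF : {x | ξ ⤳ x ∧ f x = y}.Finite := by
    let T : Set X := closure {ξ} ∩ f ⁻¹' closure {y}
    have hT : IsClosed T := isClosed_closure.inter (isClosed_closure.preimage f.continuous)
    have hTk : ∀ z ∈ T, δX z ≤ k := fun z hz =>
      hmeet z (specializes_iff_mem_closure.2 hz.1) (hωy.trans (specializes_iff_mem_closure.2 hz.2))
    choose U hUo hxU hUfin using fun x : X => DimFun.exists_open_finite_maxPts hT x
    obtain ⟨t, ht⟩ := (Scheme.Hom.isCompact_preimage_singleton f y).elim_finite_subcover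
      U hUo (fun x _ => Set.mem_iUnion.2 ⟨x, hxU x⟩)
    refine (t.finite_toSet.biUnion fun x _ => hUfin x).subset fun x hx => ?_
    obtain ⟨i, hi, hxi⟩ := Set.mem_iUnion₂.1 (ht hx.2)
    refine Set.mem_biUnion hi ⟨hxi, ⟨specializes_iff_mem_closure.1 hx.1, ?_⟩, fun z hz hzx => ?_⟩
    · show f x ∈ closure {y}
      rw [hx.2]
      exact subset_closure rfl
    · exact DimFun.eq_of_specializes_of_le hX hzx ((hTk z hz).trans (hk x hx.1 hx.2).ge)
  -- the subvariety
  obtain ⟨V, hVint, ι, hι, hgen⟩ := ExtProd.exists_subvariety ξ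
  let g := ι ≫ f
  have hcl : ∀ v, ξ ⤳ ι v := fun v => hgen ▸ (genericPoint_specializes v).map ι.continuous
  have hrng : ∀ x, ξ ⤳ x → ∃ v, ι v = x := fun x hx =>
    (ι.isClosedEmbedding.isClosed_range.closure_subset_iff.2
      (Set.singleton_subset_iff.2 ⟨genericPoint V, hgen⟩) : closure {ξ} ⊆ Set.range ι) hx.mem_closure
  have hgfin : (⇑g ⁻¹' {y}).Finite :=
    (hfinF.preimage ι.isClosedEmbedding.injective.injOn).subset fun v hv => ⟨hcl v, hv⟩
  obtain ⟨U₀, hyU₀, hU₀⟩ := exists_isFinite_morphismRestrict_of_finite_preimage_singleton g y hgfin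
  obtain ⟨U, hU, hyU, hUle⟩ := exists_isAffineOpen_mem_and_subset (X := Y) (x := y) (U := U₀) hyU₀
  have hfinU : IsFinite (g ∣_ U) := by
    have e := morphismRestrictRestrict g U₀ (U₀.ι ⁻¹ᵁ U)
    have e2 : U₀.ι ''ᵁ (U₀.ι ⁻¹ᵁ U) = U := by
      rw [Scheme.Hom.image_preimage_eq_opensRange_inf, Scheme.Opens.opensRange_ι]
      exact inf_eq_right.2 hUle
    rw [e2] at e
    exact (MorphismProperty.arrow_mk_iso_iff @IsFinite e).1 (IsZariskiLocalAtTarget.restrict hU₀ _)
  haveI := hfinU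
  have hW : IsAffineOpen (g ⁻¹ᵁ U) := by
    haveI : IsAffine U := hU
    exact isAffine_of_isAffineHom (g ∣_ U)
  -- the residue field extension at the generic point
  have hgm : g (genericPoint V) ∈ U := by
    show f (ι (genericPoint V)) ∈ U
    rw [hgen]
    exact hξy.mem_open U.2 hyU
  haveI : Nonempty ↥(g ⁻¹ᵁ U) := ⟨⟨genericPoint V, hgm⟩⟩
  have hres : ∀ v, g v ∈ U → (g.residueFieldMap v).hom.Finite := fun v hv => by
    refine GenFinite.Regular.residueFieldMap_finite g v ?_
    show g.QuasiFiniteAt ((g ⁻¹ᵁ U).ι ⟨v, hv⟩)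
    rw [← Scheme.Hom.quasiFiniteAt_comp_iff_of_isOpenImmersion, ← morphismRestrict_ι,
      Scheme.Hom.quasiFiniteAt_comp_iff]
    exact (g ∣_ U).quasiFiniteAt ⟨v, hv⟩
  have hdegι : ∀ v, g.residueDegree v = f.residueDegree (ι v) := fun v => by
    rw [show g = ι ≫ f from rfl, Residue.residueDegree_comp, Residue.residueDegree_eq_one_of_surjective v
      (PP.PreImm.residueFieldMap_surjective ι v)]
    simp
  have hηr : δY (f ξ) = r := by
    have h1 : Residue.trdegAt g (genericPoint V) = 0 :=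
      Residue.trdegAt_eq_zero_of_finite _ (hres _ hgm)
    rw [show g = ι ≫ f from rfl, Residue.trdegAt_comp, hgen, add_eq_zero] at h1
    first
    | exact ((Residue.trdegAt_eq_zero_iff_eq hδ ξ).1 h1.1).symm.trans hξ
    | exact ((Residue.trdegAt_eq_zero_iff_eq hδ ξ).1 h1.2).symm.trans hξ
  refine ⟨hηr, hfinF.toFinset, fun x => hfinF.mem_toFinset, fun x hx => ?_, ?_⟩
  · obtain ⟨h1, h2⟩ := hfinF.mem_toFinset.1 hx
    exact hk x h1 h2
  -- the finite algebra over the local ring
  haveI : IsRegularLocalRing (Y.presheaf.stalk y) := Cyc.SmoothReg.isRegularLocalRing_stalk gY y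
  obtain ⟨algY, e1, e2⟩ := PushLocal.exists_algebra gY y
  letI : Algebra Γ(Y, U) (Y.presheaf.stalk y) := Y.presheaf.algebra_section_stalk ⟨y, hyU⟩
  let M := (hU.primeIdealOf ⟨y, hyU⟩).asIdeal.primeCompl
  haveI : IsLocalization M (Y.presheaf.stalk y) := hU.isLocalization_stalk ⟨y, hyU⟩
  letI : Algebra Γ(Y, U) Γ(V, g ⁻¹ᵁ U) := (g.app U).hom.toAlgebra
  haveI : Module.Finite Γ(Y, U) Γ(V, g ⁻¹ᵁ U) := by
    haveI : IsFinite (g ∣_ U) := hfinU
    haveI : IsAffine U := hU
    have h := (g ∣_ U).finite_appTop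
    rw [morphismRestrict_appTop] at h
    have h2 : (g.app (U.ι ''ᵁ ⊤)).hom.Finite := (RingHom.finite_respectsIso.cancel_right_isIso _ _).1 h
    rw [Scheme.Opens.ι_image_top] at h2
    exact h2
  let M' := Algebra.algebraMapSubmonoid Γ(V, g ⁻¹ᵁ U) M
  let B := Localization M'
  letI : Algebra (Y.presheaf.stalk y) B := localizationAlgebra M Γ(V, g ⁻¹ᵁ U)
  haveI : IsScalarTower Γ(Y, U) (Y.presheaf.stalk y) B :=
    IsScalarTower.of_algebraMap_eq' (IsLocalization.map_comp _).symm
  haveI : Module.Finite (Y.presheaf.stalk y) B := Module.Finite.of_isLocalization Γ(Y, U) Γ(V, g ⁻¹ᵁ U) M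
  let Pt := {v : V // g v ⤳ y}
  have hmem : ∀ v : Pt, g v.1 ∈ U := fun v => v.2.mem_open U.2 hyU
  letI algC : ∀ v : Pt, Algebra Γ(V, g ⁻¹ᵁ U) (V.presheaf.stalk v.1) := fun v =>
    V.presheaf.algebra_section_stalk ⟨v.1, hmem v⟩
  letI algA : ∀ v : Pt, Algebra (Y.presheaf.stalk y) (V.presheaf.stalk v.1) := fun v =>
    (PushLocal.toV g v.1 v.2).toAlgebra
  have hcompat : ∀ (v : Pt) (a : Γ(Y, U)), algebraMap (Y.presheaf.stalk y) (V.presheaf.stalk v.1)
      (algebraMap Γ(Y, U) (Y.presheaf.stalk y) a) =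
      algebraMap Γ(V, g ⁻¹ᵁ U) (V.presheaf.stalk v.1) (algebraMap Γ(Y, U) Γ(V, g ⁻¹ᵁ U) a) :=
    fun v a => PushLocal.toV_germ g v.1 v.2 hyU a
  have hunit : ∀ (v : Pt) (c : M'), IsUnit (algebraMap Γ(V, g ⁻¹ᵁ U) (V.presheaf.stalk v.1) c.1) := fun v c => by
    obtain ⟨_, a, ha, rfl⟩ := c
    rw [← hcompat v a]
    exact (IsLocalization.map_units (Y.presheaf.stalk y) ⟨a, ha⟩).map _
  letI algB : ∀ v : Pt, Algebra B (V.presheaf.stalk v.1) := fun v => (IsLocalization.lift (hunit v)).toAlgebra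
  haveI towC : ∀ v : Pt, IsScalarTower Γ(V, g ⁻¹ᵁ U) B (V.presheaf.stalk v.1) := fun v =>
    IsScalarTower.of_algebraMap_eq' (IsLocalization.lift_comp (hunit v)).symm
  haveI towA : ∀ v : Pt, IsScalarTower (Y.presheaf.stalk y) B (V.presheaf.stalk v.1) := fun v =>
    IsScalarTower.of_algebraMap_eq' (IsLocalization.ringHom_ext M (RingHom.ext fun a => by
      simp only [RingHom.comp_apply]
      rw [hcompat v a, ← IsScalarTower.algebraMap_apply Γ(Y, U) (Y.presheaf.stalk y) B,
        IsScalarTower.algebraMap_apply Γ(Y, U) Γ(V, g ⁻¹ᵁ U) B]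
      exact IsScalarTower.algebraMap_apply Γ(V, g ⁻¹ᵁ U) B (V.presheaf.stalk v.1) _))
  let P : Pt → PrimeSpectrum B := fun v =>
    PrimeSpectrum.comap (algebraMap B (V.presheaf.stalk v.1)) (closedPoint _)
  haveI hlocC : ∀ v : Pt, IsLocalization.AtPrime (V.presheaf.stalk v.1) (hW.primeIdealOf ⟨v.1, hmem v⟩).asIdeal :=
    fun v => hW.isLocalization_stalk ⟨v.1, hmem v⟩
  have hPC : ∀ v : Pt, (P v).asIdeal.comap (algebraMap Γ(V, g ⁻¹ᵁ U) B) =
      (hW.primeIdealOf ⟨v.1, hmem v⟩).asIdeal := fun v => by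
    show ((maximalIdeal _).comap (algebraMap B (V.presheaf.stalk v.1))).comap _ = _
    rw [Ideal.comap_comap, ← IsScalarTower.algebraMap_eq]
    exact IsLocalization.AtPrime.under_maximalIdeal (V.presheaf.stalk v.1) (hW.primeIdealOf ⟨v.1, hmem v⟩).asIdeal
  haveI hlocB : ∀ v : Pt, IsLocalization.AtPrime (V.presheaf.stalk v.1) (P v).asIdeal := fun v => by
    have hle : M' ≤ (hW.primeIdealOf ⟨v.1, hmem v⟩).asIdeal.primeCompl := fun c hc hcP => by
      rw [← hPC v] at hcP
      exact (P v).isPrime.ne_top (Ideal.eq_top_of_isUnit_mem _ hcP (IsLocalization.map_units B ⟨c, hc⟩))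
    haveI := IsLocalization.isLocalization_of_submonoid_le B (V.presheaf.stalk v.1) M'
      (hW.primeIdealOf ⟨v.1, hmem v⟩).asIdeal.primeCompl hle
    refine IsLocalization.of_le ((hW.primeIdealOf ⟨v.1, hmem v⟩).asIdeal.primeCompl.map
      (algebraMap Γ(V, g ⁻¹ᵁ U) B)) _ ?_ fun b hb => ?_
    · rintro _ ⟨c, hc, rfl⟩ hcP
      exact hc (hPC v ▸ hcP)
    · by_contra h
      exact hb h
  have hPinj : Function.Injective P := fun v w h => by
    have h1 : hW.primeIdealOf ⟨v.1, hmem v⟩ = hW.primeIdealOf ⟨w.1, hmem w⟩ :=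
      PrimeSpectrum.ext (by rw [← hPC v, ← hPC w, h])
    have h2 := congrArg hW.fromSpec h1
    rw [hW.fromSpec_primeIdealOf, hW.fromSpec_primeIdealOf] at h2
    exact Subtype.ext h2
  -- the points over y
  haveI : Fintype {v : V // g v = y} := hgfin.fintype
  let j : {v : V // g v = y} → Pt := fun v => ⟨v.1, specializes_of_eq v.2⟩
  have hP : ∀ Q : PrimeSpectrum B, Q.asIdeal.comap (algebraMap (Y.presheaf.stalk y) B) = maximalIdeal _ ↔
      ∃ v, P (j v) = Q := fun Q => by
    constructor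
    · intro hQ
      let Q' := PrimeSpectrum.comap (algebraMap Γ(V, g ⁻¹ᵁ U) B) Q
      have hgv : g (hW.fromSpec Q') = y := by
        have h1 : g (hW.fromSpec Q') = hU.fromSpec (PrimeSpectrum.comap (g.app U).hom Q') := by
          rw [← Scheme.Hom.comp_apply, ← IsAffineOpen.SpecMap_appLE_fromSpec g hU hW le_rfl, Scheme.Hom.comp_apply,
            ← Scheme.Hom.app_eq_appLE]
          rfl
        rw [h1]
        refine (congrArg hU.fromSpec (PrimeSpectrum.ext ?_)).trans (hU.fromSpec_primeIdealOf ⟨y, hyU⟩)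
        show (Q.asIdeal.comap (algebraMap Γ(V, g ⁻¹ᵁ U) B)).comap (algebraMap Γ(Y, U) Γ(V, g ⁻¹ᵁ U)) = _
        rw [Ideal.comap_comap, ← IsScalarTower.algebraMap_eq,
          IsScalarTower.algebraMap_eq Γ(Y, U) (Y.presheaf.stalk y) B, ← Ideal.comap_comap, hQ]
        exact IsLocalization.AtPrime.under_maximalIdeal (Y.presheaf.stalk y) (hU.primeIdealOf ⟨y, hyU⟩).asIdeal
      refine ⟨⟨hW.fromSpec Q', hgv⟩, ?_⟩
      have h2 : hW.primeIdealOf ⟨hW.fromSpec Q', hmem (j ⟨_, hgv⟩)⟩ = Q' :=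
        hW.fromSpec.isOpenEmbedding.injective (hW.fromSpec_primeIdealOf _)
      refine PrimeSpectrum.ext ?_
      have he : (P (j ⟨_, hgv⟩)).asIdeal.comap (algebraMap Γ(V, g ⁻¹ᵁ U) B) =
          Q.asIdeal.comap (algebraMap Γ(V, g ⁻¹ᵁ U) B) := (hPC _).trans (congrArg PrimeSpectrum.asIdeal h2)
      exact (IsLocalization.map_under M' B _).symm.trans ((congrArg (Ideal.map _) he).trans (IsLocalization.map_under M' B _))
    · rintro ⟨v, rfl⟩
      letI := algB (j v)
      letI := algA (j v)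
      show ((maximalIdeal _).comap (algebraMap B (V.presheaf.stalk v.1))).comap _ = _
      rw [Ideal.comap_comap]
      rw [← @IsScalarTower.algebraMap_eq (Y.presheaf.stalk y) B (V.presheaf.stalk v.1) _ _ _ _ (algB (j v))
        (algA (j v)) (towA (j v))]
      haveI := PushLocal.isLocalHom_toV g v.1 v.2
      exact (((local_hom_TFAE (PushLocal.toV g v.1 (specializes_of_eq v.2))).out 0 4 rfl rfl).mp inferInstance)
  -- the two evaluations
  let N : ModuleCat.{u} (Y.presheaf.stalk y) :=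
    ModuleCat.of (Y.presheaf.stalk y) (Y.presheaf.stalk y ⧸ (DimFun.genPrime y ω hωy).asIdeal)
  let η := f ξ
  let pη := DimFun.genPrime y η hξy
  let v₀ : Pt := ⟨genericPoint V, by show f (ι (genericPoint V)) ⤳ y; rw [hgen]; exact hξy⟩
  haveI : Nonempty (Scheme.Opens.toScheme (g ⁻¹ᵁ U)) := ⟨⟨genericPoint V, hgm⟩⟩
  haveI : IsDomain Γ(V, g ⁻¹ᵁ U) := inferInstance
  haveI : IsDomain B := IsLocalization.isDomain_localization (fun c hc =>
    mem_nonZeroDivisors_of_ne_zero fun h0 => by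
      have := hunit v₀ ⟨c, hc⟩
      rw [show ((⟨c, hc⟩ : M') : Γ(V, g ⁻¹ᵁ U)) = 0 from h0, map_zero] at this
      exact not_isUnit_zero this)
  letI : Field (V.presheaf.stalk v₀.1) := inferInstanceAs (Field V.functionField)
  haveI : IsFractionRing B (V.presheaf.stalk v₀.1) := by
    haveI : IsFractionRing Γ(V, g ⁻¹ᵁ U) (V.presheaf.stalk v₀.1) :=
      functionField_isFractionRing_of_isAffineOpen V (g ⁻¹ᵁ U) hW
    exact IsFractionRing.isFractionRing_of_isDomain_of_isLocalization M' B _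
  have hgv₀ : g v₀.1 = η := congrArg f hgen
  letI : Algebra (Y.presheaf.stalk y) (Y.presheaf.stalk η) := (Y.presheaf.stalkSpecializes hξy).hom.toAlgebra
  haveI : IsLocalization.AtPrime (Y.presheaf.stalk η) pη.asIdeal := by
    have := CartierDescent.isLocalization_stalkSpecializes hξy
    show IsLocalization pη.asIdeal.primeCompl _
    rw [show pη.asIdeal.primeCompl = (CDivInt.Factorial.primeOf hξy).primeCompl from
      SetLike.ext fun t => not_congr (by rw [DiagReduce.genPrime_primeOf])]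
    exact this
  letI : Algebra (Y.presheaf.stalk η) (V.presheaf.stalk v₀.1) :=
    (PushLocal.toV g v₀.1 (specializes_of_eq hgv₀)).toAlgebra
  haveI : IsScalarTower (Y.presheaf.stalk y) (Y.presheaf.stalk η) (V.presheaf.stalk v₀.1) :=
    IsScalarTower.of_algebraMap_eq fun a => by
      show PushLocal.toV g v₀.1 v₀.2 a =
        PushLocal.toV g v₀.1 (specializes_of_eq hgv₀) (Y.presheaf.stalkSpecializes hξy a)
      simp only [PushLocal.toV, CommRingCat.hom_comp, RingHom.comp_apply]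
      rw [← TopCat.Presheaf.stalkSpecializes_comp_apply]
  have hker : RingHom.ker (algebraMap (Y.presheaf.stalk y) B) = pη.asIdeal := by
    haveI := PushLocal.isLocalHom_toV g v₀.1 hgv₀
    have h1 : RingHom.ker (algebraMap (Y.presheaf.stalk η) (V.presheaf.stalk v₀.1)) = maximalIdeal _ := by
      refine le_antisymm (le_maximalIdeal (RingHom.ker_ne_top _)) fun a ha => ?_
      by_contra h
      exact ha (isUnit_of_map_unit (algebraMap (Y.presheaf.stalk η) (V.presheaf.stalk v₀.1)) a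
        (isUnit_iff_ne_zero.2 h))
    rw [← IsLocalization.AtPrime.under_maximalIdeal (Y.presheaf.stalk η) pη.asIdeal, ← h1]
    ext a
    show algebraMap (Y.presheaf.stalk y) B a = 0 ↔
      algebraMap (Y.presheaf.stalk η) (V.presheaf.stalk v₀.1) (algebraMap _ _ a) = 0
    rw [← IsScalarTower.algebraMap_apply]
    show algebraMap (Y.presheaf.stalk y) B a = 0 ↔ _
    rw [IsScalarTower.algebraMap_apply (Y.presheaf.stalk y) B (V.presheaf.stalk v₀.1)]
    exact (map_eq_zero_iff _ (IsFractionRing.injective B (V.presheaf.stalk v₀.1))).symm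
  let pt := fun p : PrimeSpectrum (Y.presheaf.stalk y) => Y.fromSpecStalk y p
  have hspec : ∀ p, pt p ⤳ y := fun p => DimFun.fromSpecStalk_specializes_self y p
  have hle : ∀ p, δY y ≤ δY (pt p) := fun p => DimFun.le_of_specializes hY (hspec p)
  have hdim : ∀ p, ringKrullDim (Y.presheaf.stalk y ⧸ p.asIdeal) = ((δY (pt p) - δY y).toNat : WithBot ℕ∞) :=
    fun p => (ringKrullDim_eq_of_ringEquiv (Ideal.quotEquivOfEq (congrArg PrimeSpectrum.asIdeal
      (DimFun.eq_genPrime y p)))).trans (DimFun.ringKrullDim_locQuot hY y _ (hspec p))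
  have hd : ringKrullDim (Y.presheaf.stalk y) = ((m - δY y).toNat : WithBot ℕ∞) := by
    rw [DimFun.ringKrullDim_stalk hY y, hm]
  have hquot : ∀ (z : Y) (hz : z ⤳ y) (p : PrimeSpectrum (Y.presheaf.stalk y)),
      p ∈ Module.support (Y.presheaf.stalk y) (Y.presheaf.stalk y ⧸ (DimFun.genPrime y z hz).asIdeal) ↔
        z ⤳ pt p := fun z hz p => by
    rw [Module.support_eq_zeroLocus, Ideal.annihilator_quotient, PrimeSpectrum.mem_zeroLocus,
      SetLike.coe_subset_coe]
    refine (DimFun.fromSpecStalk_specializes_iff y (DimFun.genPrime y z hz) p).symm.trans ?_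
    rw [DimFun.fromSpecStalk_genPrime]
  have hBsupp : ∀ p, p ∈ Module.support (Y.presheaf.stalk y) B → η ⤳ pt p := fun p hp => by
    refine (hquot η hξy p).1 ?_
    rw [Module.support_eq_zeroLocus, PrimeSpectrum.mem_zeroLocus, SetLike.coe_subset_coe] at hp
    rw [Module.support_eq_zeroLocus, Ideal.annihilator_quotient, PrimeSpectrum.mem_zeroLocus,
      SetLike.coe_subset_coe, ← hker]
    exact fun a ha => hp (Module.mem_annihilator.2 fun b => by rw [Algebra.smul_def, ha, zero_mul])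
  have hfin : ∀ p, η ⤳ pt p → ω ⤳ pt p → p.asIdeal = maximalIdeal (Y.presheaf.stalk y) := fun p h1 h2 => by
    obtain ⟨x, hx1, hx2⟩ := hlift _ h1
    have h3 := hmeet x hx1 (hx2 ▸ h2)
    have h4 := Residue.deltaY_le hδ x
    rw [hx2] at h4
    have he := DimFun.eq_of_specializes_of_le hY (hspec p) (by omega)
    exact congrArg PrimeSpectrum.asIdeal (DimFun.fromSpecStalk_injective y
      (he.trans Scheme.fromSpecStalk_closedPoint.symm : _ = Y.fromSpecStalk y (IsLocalRing.closedPoint _)))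
  have hkr : k ≤ r := hy ▸ hηr ▸ DimFun.le_of_specializes hY hξy
  have hks : k ≤ s := hy ▸ hω ▸ DimFun.le_of_specializes hY hωy
  have hexp := (Additive.chi_expand N (r - k).toNat {pη} {p | η ⤳ pt p}
    (fun p hp hp' => hfin p hp ((hquot ω hωy p).1 hp'))
    (fun p hp => by
      have h1 : δY (pt p) ≤ r := hηr ▸ DimFun.le_of_specializes hY hp
      rw [hdim p]
      exact_mod_cast (show (δY (pt p) - δY y).toNat ≤ (r - k).toNat by omega))
    (fun p => by
      rw [Finset.mem_singleton, Set.mem_setOf, hdim p]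
      constructor
      · intro hp
        have he : pt p = η := by rw [hp]; exact DimFun.fromSpecStalk_genPrime y η hξy
        rw [he, hηr, hy]
        exact ⟨specializes_rfl, rfl⟩
      · rintro ⟨h1, h2⟩
        have hη' : δY η = r := hηr
        have h2' : (δY (pt p) - δY y).toNat = (r - k).toNat := by exact_mod_cast h2
        have := hle p
        have he := DimFun.eq_of_specializes_of_le hY h1 (by omega)
        exact DimFun.fromSpecStalk_injective y (he.symm.trans (DimFun.fromSpecStalk_genPrime y η hξy).symm))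
    (fun p hp hlt => by
      rw [hdim p] at hlt
      have hlt' : (δY (pt p) - δY y).toNat < (r - k).toNat := by exact_mod_cast hlt
      have := hle p
      refine (RegSeq.chi_comm _ _).trans ?_
      exact Positive.chi_zero (K := K) (DimFun.genPrime y ω hωy).asIdeal p.asIdeal
        (DimFun.genPrime y ω hωy).isPrime.ne_top p.isPrime.ne_top
        (fun t ht h1 h2 => hfin ⟨t, ht⟩
          ((show η ⤳ pt p from hp).trans ((DimFun.fromSpecStalk_specializes_iff y p ⟨t, ht⟩).2 h2))
          ((hquot ω hωy ⟨t, ht⟩).1 (by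
            rw [Module.support_eq_zeroLocus, Ideal.annihilator_quotient]
            exact h1)))
        hd (DimFun.ringKrullDim_locQuot hY y ω hωy) (hdim p) (by omega))
    B hBsupp).2
  letI : ∀ v : {v : V // g v = y}, Algebra (Y.presheaf.stalk y) (V.presheaf.stalk v.1) := fun v => algA (j v)
  letI : ∀ v : {v : V // g v = y}, Algebra B (V.presheaf.stalk v.1) := fun v => algB (j v)
  haveI : ∀ v : {v : V // g v = y}, IsScalarTower (Y.presheaf.stalk y) B (V.presheaf.stalk v.1) := fun v => towA (j v)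
  haveI : ∀ v : {v : V // g v = y}, IsLocalization.AtPrime (V.presheaf.stalk v.1) (P (j v)).asIdeal := fun v => hlocB (j v)
  have hpush := PushFormula.chi_push (B := B) N
    (fun p h1 h2 => hfin p (hBsupp p h1) ((hquot ω hωy p).1 h2))
    (fun v : {v : V // g v = y} => (V.presheaf.stalk v.1 : Type u))
    (fun v => P (j v)) (fun v w h => Subtype.ext (congrArg (fun t : Pt => t.1) (hPinj h))) hP
  rw [RegSeq.chi_comm, hexp, Finset.sum_singleton,
    PushLocal.locLen_fraction pη hker (Y.presheaf.stalk η) (V.presheaf.stalk v₀.1)] at hpush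
  -- the degree at the generic point
  have hdeg : Module.length (Y.presheaf.stalk η) (V.presheaf.stalk v₀.1) = (f.residueDegree ξ : ℕ∞) := by
    haveI : Module.Flat (Y.presheaf.stalk η) (Y.presheaf.stalk η) := inferInstance
    have h1 := PushLocal.finite_residue g v₀.1 hgv₀ (hres _ hgm)
    rw [hdegι] at h1
    refine Eq.trans ?_ (h1.trans (congrArg (fun z => ((f.residueDegree z : ℕ) : ℕ∞)) hgen))
    refine (LinearEquiv.ofBijective (((Algebra.linearMap (V.presheaf.stalk v₀.1)
      (ResidueField (V.presheaf.stalk v₀.1))).restrictScalars (Y.presheaf.stalk η))) ⟨?_, ?_⟩).length_eq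
    · exact (residue (V.presheaf.stalk v₀.1)).injective
    · exact residue_surjective
  rw [hdeg, ENat.toNat_natCast] at hpush
  have hmult : IntMult.mult (IntMult.ptIdeal η) (IntMult.ptIdeal ω) y =
      IntMult.chi (Y.presheaf.stalk y) N (Y.presheaf.stalk y ⧸ pη.asIdeal) :=
    S6470.chi_ideal_congr (MultOne.stalkIdeal_ptIdeal η y hξy) (MultOne.stalkIdeal_ptIdeal ω y hωy)
  rw [← hmult] at hpush
  rw [hpush]
  refine (Finset.sum_nbij (fun v : {v : V // g v = y} => ι v.1) (fun v _ => hfinF.mem_toFinset.2 ⟨hcl v.1, v.2⟩)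
    (fun v _ w _ h => Subtype.ext (ι.isClosedEmbedding.injective h)) (fun x hx => ?_) (fun v _ => ?_)).symm
  · obtain ⟨h1, h2⟩ := hfinF.mem_toFinset.1 hx
    obtain ⟨v, hv⟩ := hrng x h1
    exact ⟨⟨v, show f (ι v) = y from hv.symm ▸ h2⟩, Finset.mem_univ _, hv⟩
  · have hfv : f (ι v.1) = y := v.2
    have hl := PushLocal.finite_residue g v.1 v.2 (hres _ (hmem (j v)))
    rw [hdegι] at hl
    refine congrArg₂ (· * ·) ?_ ?_
    · exact ((congrArg (fun t : ℕ∞ => (t.toNat : ℤ)) hl).trans (by simp))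
    · letI : Algebra (Y.presheaf.stalk y) (X.presheaf.stalk (ι v.1)) :=
        (PushLocal.toV f (ι v.1) (specializes_of_eq hfv)).toAlgebra
      letI : Algebra (X.presheaf.stalk (ι v.1)) (V.presheaf.stalk v.1) := (ι.stalkMap v.1).hom.toAlgebra
      letI : Algebra (Y.presheaf.stalk y) (V.presheaf.stalk v.1) := algA (j v)
      haveI : IsScalarTower (Y.presheaf.stalk y) (X.presheaf.stalk (ι v.1)) (V.presheaf.stalk v.1) :=
        IsScalarTower.of_algebraMap_eq' (PushLocal.toV_comp ι f v.1 (specializes_of_eq hfv))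
      haveI : Module.Flat (Y.presheaf.stalk y) (X.presheaf.stalk (ι v.1)) := PushLocal.toV_flat f (ι v.1) hfv
      have hkerι : RingHom.ker (algebraMap (X.presheaf.stalk (ι v.1)) (V.presheaf.stalk v.1)) =
          IntMult.stalkIdeal (IntMult.ptIdeal ξ) (ι v.1) := by
        refine (PushLocal.ker_stalkMap_closed ι v.1 ((genericPoint_specializes v.1).map ι.continuous)).trans ?_
        rw [MultOne.stalkIdeal_ptIdeal ξ (ι v.1) (hcl v.1)]
        simp only [hgen]
      have hωx : ω ⤳ f (ι v.1) := hωy.trans (specializes_of_eq hfv.symm)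
      refine (PushLocal.chi_quot (A := Y.presheaf.stalk y) (X.presheaf.stalk (ι v.1)) (V.presheaf.stalk v.1)
        (ι.stalkMap_surjective v.1) (DimFun.genPrime y ω hωy).asIdeal _ hkerι).symm.trans ?_
      unfold chiX
      rw [MultOne.stalkIdeal_ptIdeal ω (f (ι v.1)) hωx, PushLocal.map_genPrime f hfv ω hωy hωx]
      rfl

end Groth.Agent.H19.IntMult.PushCore
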