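import Groth.Agent.H19.IntMult.FlatBC
import Groth.Agent.H19.IntMult.StalkLen
import Mathlib

/-!
# Intersection numbers after localization
-/

set_option autoImplicit false
set_option linter.style.haveILetI false

universe u

open CategoryTheory CategoryTheory.Limits MonoidalCategory IsLocalRing
open scoped TensorProduct

namespace Groth.Agent.H19.IntMult.TorLoc

open Groth.Agent.Lib Groth.Agent.Lib.Tor.BaseChange Groth.Agent.S12212

variable {A : Type u} [CommRing A] (A' : Type u) [CommRing A'] [Algebra A A'] (q : PrimeSpectrum A)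
  [IsLocalization.AtPrime A' q.asIdeal]

theorem length_tor_loc (N L : ModuleCat.{u} A) (i : ℕ) :
    Module.length A' (((CategoryTheory.Tor (ModuleCat.{u} A') i).obj ((bc A A').obj N)).obj ((bc A A').obj L)) =
      locLen (((CategoryTheory.Tor (ModuleCat.{u} A) i).obj N).obj L) q := by
  haveI : Module.Flat A A' := IsLocalization.flat A' q.asIdeal.primeCompl
  let R := projectiveResolution L
  let R' : ProjectiveResolution ((bc A A').obj L) := (bc A A').mapProjectiveResolution R
  let K := (((tensoringLeft (ModuleCat.{u} A)).obj N).mapHomologicalComplex (ComplexShape.down ℕ)).obj R.complex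
  let e : ((CategoryTheory.Tor (ModuleCat.{u} A') i).obj ((bc A A').obj N)).obj ((bc A A').obj L) ≅
      (bc A A').obj (((CategoryTheory.Tor (ModuleCat.{u} A) i).obj N).obj L) :=
    R'.isoLeftDerivedObj ((tensoringLeft (ModuleCat.{u} A')).obj ((bc A A').obj N)) i ≪≫
      (HomologicalComplex.homologyFunctor _ _ i).mapIso
        ((NatIso.mapHomologicalComplex (FlatBC.distribIso A A' N) (ComplexShape.down ℕ)).app R.complex) ≪≫
      (K.sc i).mapHomologyIso (bc A A') ≪≫
      (bc A A').mapIso (R.isoLeftDerivedObj ((tensoringLeft (ModuleCat.{u} A)).obj N) i).symm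
  refine e.toLinearEquiv.length_eq.trans ?_
  show Module.length A' (A' ⊗[A] (((CategoryTheory.Tor (ModuleCat.{u} A) i).obj N).obj L)) = _
  haveI : IsLocalizedModule q.asIdeal.primeCompl
      (TensorProduct.mk A A' (((CategoryTheory.Tor (ModuleCat.{u} A) i).obj N).obj L) 1) :=
    (isLocalizedModule_iff_isBaseChange q.asIdeal.primeCompl A' _).mpr (TensorProduct.isBaseChange _ _ _)
  exact StalkLen.length_eq q.asIdeal A' _
    (TensorProduct.mk A A' (((CategoryTheory.Tor (ModuleCat.{u} A) i).obj N).obj L) 1)

theorem chi_loc (N L : ModuleCat.{u} A) {D : ℕ}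
    (hvan : ∀ i, D < i → IsZero (((CategoryTheory.Tor (ModuleCat.{u} A) i).obj N).obj L)) :
    IntMult.chi A' (A' ⊗[A] N) (A' ⊗[A] L) = ∑ i ∈ Finset.range (D + 1), (-1 : ℤ) ^ i *
      ((locLen (((CategoryTheory.Tor (ModuleCat.{u} A) i).obj N).obj L) q).toNat : ℤ) := by
  have key : ∀ i, Module.length A' (DRing.Tor A' i (A' ⊗[A] N) (A' ⊗[A] L)) =
      locLen (((CategoryTheory.Tor (ModuleCat.{u} A) i).obj N).obj L) q := fun i => length_tor_loc A' q N L i
  unfold IntMult.chi
  rw [finsum_congr fun i => by rw [key i]]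
  refine finsum_eq_sum_of_support_subset _ fun i hi => ?_
  rw [Finset.coe_range, Set.mem_Iio]
  by_contra h
  haveI := ModuleCat.subsingleton_of_isZero (hvan i (by omega))
  refine hi ?_
  dsimp only
  rw [locLen_eq_zero (p := q) (by simp [Module.support_eq_empty])]
  simp

end Groth.Agent.H19.IntMult.TorLoc
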