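import Groth.Agent.H19.IntMult.TripleTor
import Groth.Agent.H19.IntMult.TorLoc
import Groth.Agent.Lib.Cyc.PP.FinStalk
import Mathlib

/-!
# Intersection numbers and finite algebras
-/

set_option autoImplicit false
set_option linter.style.haveILetI false

universe u

open CategoryTheory CategoryTheory.Limits MonoidalCategory IsLocalRing
open scoped TensorProduct

namespace Groth.Agent.H19.IntMult.PushFormula

open Groth.Agent.Lib.Tor.BaseChange Groth.Agent.S12212 Groth.Agent.H25.TorLES Groth.Agent.H19.IntMult.Additive

variable {A : Type u} [CommRing A]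

/-- The derived base change of a module. -/
noncomputable def Hh (S : Type u) [CommRing S] [Algebra A S] (N : ModuleCat.{u} A) (i : ℕ) : ModuleCat.{u} S :=
  (((bc A S).mapHomologicalComplex (ComplexShape.down ℕ)).obj (projectiveResolution N).complex).homology i

/-- Cancellation of a base change in the middle. -/
noncomputable def cancelRestr (C S : Type u) [CommRing C] [CommRing S] [Algebra A C] [Algebra A S] [Algebra C S]
    [IsScalarTower A C S] :
    bc A C ⋙ tensorLeft (ModuleCat.of C S) ≅ bc A S ⋙ ModuleCat.restrictScalars (algebraMap C S) :=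
  NatIso.ofComponents
    (fun X => (restrictIso C S (ModuleCat.of S (S ⊗[A] X)) (ModuleCat.of C (S ⊗[C] (C ⊗[A] X)))
      (TensorProduct.AlgebraTensorModule.cancelBaseChange A C S S X).symm.toAddEquiv
      (fun r x => ((TensorProduct.AlgebraTensorModule.cancelBaseChange A C S S X).symm.map_smul
        (algebraMap C S r) x).trans (algebraMap_smul S r _))).symm)
    (fun {X Y} f => by
      ext x
      induction x using TensorProduct.induction_on with
      | zero => exact (map_zero _).trans (map_zero _).symm
      | add a b ha hb => exact (map_add _ a b).trans ((congrArg₂ (· + ·) ha hb).trans (map_add _ a b).symm)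
      | tmul p y =>
        induction y using TensorProduct.induction_on with
        | zero =>
          exact ((congrArg _ (TensorProduct.tmul_zero _ p)).trans (map_zero _)).trans
            ((congrArg _ (TensorProduct.tmul_zero _ p)).trans (map_zero _)).symm
        | add a b ha hb =>
          exact ((congrArg _ (TensorProduct.tmul_add p a b)).trans (map_add _ _ _)).trans
            ((congrArg₂ (· + ·) ha hb).trans
              ((congrArg _ (TensorProduct.tmul_add p a b)).trans (map_add _ _ _)).symm)
        | tmul a z => rfl)

/-- Torsion modules over a flat algebra through the derived base change. -/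
noncomputable def torIso (C S : Type u) [CommRing C] [CommRing S] [Algebra A C] [Algebra A S] [Algebra C S]
    [IsScalarTower A C S] [Module.Flat A C] (N : ModuleCat.{u} A) (i : ℕ) :
    (T (ModuleCat.of C S) i).obj ((bc A C).obj N) ≅
      (ModuleCat.restrictScalars (algebraMap C S)).obj (Hh S N i) :=
  let R := projectiveResolution N
  let R' : ProjectiveResolution ((bc A C).obj N) := (bc A C).mapProjectiveResolution R
  R'.isoLeftDerivedObj ((tensoringLeft (ModuleCat.{u} C)).obj (ModuleCat.of C S)) i ≪≫
    (HomologicalComplex.homologyFunctor _ _ i).mapIso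
      ((NatIso.mapHomologicalComplex (cancelRestr (A := A) C S) (ComplexShape.down ℕ)).app R.complex) ≪≫
    ((((bc A S).mapHomologicalComplex (ComplexShape.down ℕ)).obj R.complex).sc i).mapHomologyIso
      (ModuleCat.restrictScalars (algebraMap C S))

/-- The derived base change does not see a change of scalars along the identity. -/
noncomputable def torIsoBase (S : Type u) [CommRing S] [Algebra A S] (N : ModuleCat.{u} A) (i : ℕ) :
    (T (ModuleCat.of A S) i).obj N ≅ (ModuleCat.restrictScalars (algebraMap A S)).obj (Hh S N i) :=
  (T (ModuleCat.of A S) i).mapIso (TensorProduct.lid A N).symm.toModuleIso ≪≫ torIso A S N i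

theorem length_tor_quot (C S : Type u) [CommRing C] [CommRing S] [Algebra A C] [Algebra A S] [Algebra C S]
    [IsScalarTower A C S] [Module.Flat A C] (hs : Function.Surjective (algebraMap C S)) (N : ModuleCat.{u} A)
    (i : ℕ) :
    Module.length C ((T (ModuleCat.of C S) i).obj ((bc A C).obj N)) = Module.length S (Hh S N i) := by
  rw [(torIso C S N i).toLinearEquiv.length_eq]
  let φ : (ModuleCat.restrictScalars (algebraMap C S)).obj (Hh S N i) →ₛₗ[algebraMap C S] Hh S N i :=
    { toFun := fun x => x
      map_add' := fun x y => rfl
      map_smul' := fun r x => rfl }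
  exact Positive.length_eq_of_semilinear φ Function.bijective_id
    fun r' z => ⟨(hs r').choose, by rw [(hs r').choose_spec]⟩

/-- Cancellation of two base changes. -/
noncomputable def cancelBc (S S' : Type u) [CommRing S] [CommRing S'] [Algebra A S] [Algebra A S'] [Algebra S S']
    [IsScalarTower A S S'] : bc A S ⋙ bc S S' ≅ bc A S' :=
  NatIso.ofComponents
    (fun X => (TensorProduct.AlgebraTensorModule.cancelBaseChange A S S' S' X).toModuleIso)
    (fun {X Y} f => by
      ext x
      induction x using TensorProduct.induction_on with
      | zero => exact (map_zero _).trans (map_zero _).symm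
      | add a b ha hb => exact (map_add _ a b).trans ((congrArg₂ (· + ·) ha hb).trans (map_add _ a b).symm)
      | tmul p y =>
        induction y using TensorProduct.induction_on with
        | zero =>
          exact ((congrArg _ (TensorProduct.tmul_zero _ p)).trans (map_zero _)).trans
            ((congrArg _ (TensorProduct.tmul_zero _ p)).trans (map_zero _)).symm
        | add a b ha hb =>
          exact ((congrArg _ (TensorProduct.tmul_add p a b)).trans (map_add _ _ _)).trans
            ((congrArg₂ (· + ·) ha hb).trans
              ((congrArg _ (TensorProduct.tmul_add p a b)).trans (map_add _ _ _)).symm)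
        | tmul a z => rfl)

theorem length_localization (S S' : Type u) [CommRing S] [CommRing S'] [Algebra A S] [Algebra A S'] [Algebra S S']
    [IsScalarTower A S S'] (P : PrimeSpectrum S) [IsLocalization.AtPrime S' P.asIdeal] (N : ModuleCat.{u} A)
    (i : ℕ) : Module.length S' (Hh S' N i) = locLen (Hh S N i) P := by
  haveI : Module.Flat S S' := IsLocalization.flat S' P.asIdeal.primeCompl
  let K := ((bc A S).mapHomologicalComplex (ComplexShape.down ℕ)).obj (projectiveResolution N).complex
  let e : Hh S' N i ≅ (bc S S').obj (Hh S N i) :=
    (HomologicalComplex.homologyFunctor _ _ i).mapIso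
      ((NatIso.mapHomologicalComplex (cancelBc (A := A) S S').symm (ComplexShape.down ℕ)).app
        (projectiveResolution N).complex) ≪≫
      (K.sc i).mapHomologyIso (bc S S')
  refine e.toLinearEquiv.length_eq.trans ?_
  show Module.length S' (S' ⊗[S] (Hh S N i)) = _
  haveI : IsLocalizedModule P.asIdeal.primeCompl (TensorProduct.mk S S' (Hh S N i) 1) :=
    (isLocalizedModule_iff_isBaseChange P.asIdeal.primeCompl S' _).mpr (TensorProduct.isBaseChange _ _ _)
  exact StalkLen.length_eq P.asIdeal S' _ (TensorProduct.mk S S' (Hh S N i) 1)

/-- The length over the base of a module supported at finitely many maximal ideals. -/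
theorem length_decomp {B : Type u} [CommRing B] [IsNoetherianRing B] [Algebra A B]
    (S : Finset (PrimeSpectrum B)) (hmax : ∀ p ∈ S, p.asIdeal.IsMaximal) (M : Type u) [AddCommGroup M]
    [Module B M] [Module.Finite B M] (hM : Module.support B M ⊆ S) :
    ∀ [Module A M] [IsScalarTower A B M],
      Module.length A M = ∑ p ∈ S, Module.length A (B ⧸ p.asIdeal) * locLen M p := by
  classical
  induction ‹Module.Finite B M› using IsNoetherianRing.induction_on_isQuotientEquivQuotientPrime B with
  | subsingleton M =>
    intro _ _
    rw [Finset.sum_eq_zero fun (p : PrimeSpectrum B) _ => by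
      rw [locLen_eq_zero (N := M) (p := p) (by simp [Module.support_eq_empty]), mul_zero]]
    exact Module.length_eq_zero
  | quotient M q eq =>
    intro _ _
    have hsupp : ∀ p, p ∈ Module.support B M ↔ q.asIdeal ≤ p.asIdeal := fun p => by
      rw [eq.support_eq, Module.support_eq_zeroLocus, Ideal.annihilator_quotient, PrimeSpectrum.mem_zeroLocus,
        SetLike.coe_subset_coe]
    have hq : q ∈ S := hM ((hsupp q).2 le_rfl)
    rw [Finset.sum_eq_single q (fun p hp hpq => by
        rw [locLen_eq_zero (N := M) (p := p) (fun h => hpq (PrimeSpectrum.ext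
          ((hmax q hq).eq_of_le (hmax p hp).ne_top ((hsupp p).1 h)).symm)), mul_zero])
      (fun h => absurd hq h), (locLen_congr eq q).trans (locLen_quotient_self q), mul_one]
    exact (eq.restrictScalars A).length_eq
  | exact M₁ M₂ M₃ f g hf hg hfg ih1 ih3 =>
    intro _ _
    have s1 := Module.support_subset_of_injective f hf
    have s3 := Module.support_subset_of_surjective g hg
    letI : Module A M₁ := Module.compHom M₁ (algebraMap A B)
    haveI : IsScalarTower A B M₁ := IsScalarTower.of_algebraMap_smul fun _ _ => rfl
    letI : Module A M₃ := Module.compHom M₃ (algebraMap A B)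
    haveI : IsScalarTower A B M₃ := IsScalarTower.of_algebraMap_smul fun _ _ => rfl
    rw [Module.length_eq_add_of_exact (f.restrictScalars A) (g.restrictScalars A) hf hg hfg,
      ih1 (s1.trans hM), ih3 (s3.trans hM), ← Finset.sum_add_distrib]
    exact Finset.sum_congr rfl fun p _ => by rw [locLen_add f g hf hg hfg p, mul_add]

/-- Residue fields of a localization at a maximal ideal. -/
theorem length_quot_maximal {B S : Type u} [CommRing B] [CommRing S] [IsLocalRing S] [Algebra A B] [Algebra A S]
    [Algebra B S] [IsScalarTower A B S] (P : PrimeSpectrum B) [IsLocalization.AtPrime S P.asIdeal]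
    (hmax : P.asIdeal.IsMaximal) :
    Module.length A (B ⧸ P.asIdeal) = Module.length A (ResidueField S) := by
  haveI := hmax
  let f : (B ⧸ P.asIdeal) →ₗ[A] ResidueField S :=
    { toFun := IsLocalization.AtPrime.equivQuotMaximalIdeal P.asIdeal S
      map_add' := map_add _
      map_smul' := fun a x => by
        obtain ⟨b, rfl⟩ := Ideal.Quotient.mk_surjective x
        show IsLocalization.AtPrime.equivQuotMaximalIdeal P.asIdeal S (Ideal.Quotient.mk _ (a • b)) = _
        rw [IsLocalization.AtPrime.equivQuotMaximalIdeal_apply_mk,
          IsLocalization.AtPrime.equivQuotMaximalIdeal_apply_mk, Algebra.smul_def, map_mul,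
          ← IsScalarTower.algebraMap_apply, map_mul, RingHom.id_apply, Algebra.smul_def]
        rfl }
  exact (LinearEquiv.ofBijective f (IsLocalization.AtPrime.equivQuotMaximalIdeal P.asIdeal S).bijective).length_eq

variable [IsRegularLocalRing A]

/-- The intersection number with a finite algebra localizes at the points over the closed point. -/
theorem chi_push {B : Type u} [CommRing B] [Algebra A B] [Module.Finite A B] (N : ModuleCat.{u} A)
    [Module.Finite A N]
    (hmeet : ∀ q : PrimeSpectrum A, q ∈ Module.support A B → q ∈ Module.support A N → q.asIdeal = maximalIdeal A)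
    {ι : Type*} [Fintype ι] (L : ι → Type u) [∀ v, CommRing (L v)] [∀ v, IsLocalRing (L v)] [∀ v, Algebra A (L v)]
    [∀ v, Algebra B (L v)] [∀ v, IsScalarTower A B (L v)] (P : ι → PrimeSpectrum B)
    [∀ v, IsLocalization.AtPrime (L v) (P v).asIdeal] (hinj : Function.Injective P)
    (hP : ∀ Q : PrimeSpectrum B, Q.asIdeal.comap (algebraMap A B) = maximalIdeal A ↔ ∃ v, P v = Q) :
    IntMult.chi A B N = ∑ v, lz (A := A) (ResidueField (L v)) *
      ∑ᶠ i : ℕ, (-1 : ℤ) ^ i * ((Module.length (L v) (Hh (L v) N i)).toNat : ℤ) := by
  classical
  haveI : IsNoetherianRing B := Algebra.FiniteType.isNoetherianRing A B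
  set D := (maximalIdeal A).spanFinrank
  have hvan : ∀ i, D < i → IsZero ((T (ModuleCat.of A B) i).obj N) := isZero_of_pdle _ _ N (pdle_dim N)
  have hmax : ∀ v, (P v).asIdeal.IsMaximal := fun v => by
    refine Ideal.isMaximal_of_isIntegral_of_isMaximal_comap (R := A) _ ?_
    rw [(hP _).2 ⟨v, rfl⟩]
    exact maximalIdeal.isMaximal A
  -- the supports
  have hsupp : ∀ i, Module.support B (Hh B N i) ⊆ (Finset.univ.image P : Finset _) := fun i Q hQ => by
    rw [Finset.coe_image, Finset.coe_univ, Set.image_univ]
    obtain ⟨v, hv⟩ := (hP Q).1 (by
      haveI : Module.Finite A ((T (ModuleCat.of A B) i).obj N) := finite_tor _ i N inferInstance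
      let e := (torIsoBase B N i).toLinearEquiv
      have hann : ∀ a : A, a ∈ Module.annihilator A ((T (ModuleCat.of A B) i).obj N) →
          algebraMap A B a ∈ Q.asIdeal := fun a ha => by
        refine Module.mem_support_iff'.1 hQ |> fun ⟨m, hm⟩ => by_contra fun h => hm (algebraMap A B a) h ?_
        have h' := congrArg e (Module.mem_annihilator.1 ha (e.symm m))
        rw [map_smul, map_zero, e.apply_symm_apply] at h'
        exact h'
      have hmem : (⟨Q.asIdeal.comap (algebraMap A B), inferInstance⟩ : PrimeSpectrum A) ∈
          Module.support A ((T (ModuleCat.of A B) i).obj N) := by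
        rw [Module.support_eq_zeroLocus, PrimeSpectrum.mem_zeroLocus, SetLike.coe_subset_coe]
        exact hann
      obtain ⟨h1, h2⟩ := TripleTor.support_tor (ModuleCat.of A B) N i hmem
      exact hmeet _ h1 h2)
    exact ⟨v, hv⟩
  -- the decomposition
  have hdec : ∀ i, Module.length A ((T (ModuleCat.of A B) i).obj N) =
      ∑ v, Module.length A (ResidueField (L v)) * Module.length (L v) (Hh (L v) N i) := fun i => by
    rw [(torIsoBase B N i).toLinearEquiv.length_eq]
    letI : Module A (Hh B N i) := Module.compHom _ (algebraMap A B)
    haveI : IsScalarTower A B (Hh B N i) := IsScalarTower.of_algebraMap_smul fun _ _ => rfl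
    haveI : Module.Finite A (Hh B N i) := by
      haveI : Module.Finite A ((T (ModuleCat.of A B) i).obj N) := finite_tor _ i N inferInstance
      exact Module.Finite.equiv (torIsoBase B N i).toLinearEquiv
    haveI : Module.Finite B (Hh B N i) := Module.Finite.of_restrictScalars_finite A B _
    refine (length_decomp (A := A) (Finset.univ.image P) ?_ (Hh B N i) (hsupp i)).trans ?_
    · intro p hp
      obtain ⟨v, -, rfl⟩ := Finset.mem_image.1 hp
      exact hmax v
    rw [Finset.sum_image fun v _ w _ h => hinj h]
    refine Finset.sum_congr rfl fun v _ => ?_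
    rw [length_quot_maximal (S := L v) (P v) (hmax v), length_localization B (L v) (P v) N i]
  have hfin : ∀ i v, Module.length A (ResidueField (L v)) * Module.length (L v) (Hh (L v) N i) ≠ ⊤ := fun i v => by
    have h := length_tor_ne_top (ModuleCat.of A B) N hmeet i
    rw [hdec i] at h
    exact WithTop.sum_ne_top.1 h v (Finset.mem_univ v)
  have hpos : ∀ v, Module.length A (ResidueField (L v)) ≠ 0 := fun v h =>
    not_subsingleton _ (Module.length_eq_zero_iff.1 h)
  have hout : ∀ i v, D < i → Module.length (L v) (Hh (L v) N i) = 0 := fun i v hi => by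
    haveI := ModuleCat.subsingleton_of_isZero (hvan i hi)
    have h0 : Module.length A ((T (ModuleCat.of A B) i).obj N) = 0 := Module.length_eq_zero
    rw [hdec i, Finset.sum_eq_zero_iff] at h0
    exact (mul_eq_zero.1 (h0 v (Finset.mem_univ v))).resolve_left (hpos v)
  rw [chi_eq_sum (N := ModuleCat.of A B) (M := N) hvan]
  simp only [lz]
  rw [Finset.sum_congr rfl fun i _ => by
    rw [hdec i, Groth.Agent.Lib.Cyc.PP.FinStalk.toNat_sum _ _ fun v _ => hfin i v, Nat.cast_sum, Finset.mul_sum],
    Finset.sum_comm]
  refine Finset.sum_congr rfl fun v _ => ?_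
  rw [finsum_eq_sum_of_support_subset (s := Finset.range (D + 1)) _ (fun i hi => by
    rw [Finset.coe_range, Set.mem_Iio]
    by_contra h
    exact hi (by simp [hout i v (by omega)])), Finset.mul_sum]
  refine Finset.sum_congr rfl fun i _ => ?_
  rw [ENat.toNat_mul, Nat.cast_mul]
  ring

end Groth.Agent.H19.IntMult.PushFormula
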