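import Groth.Agent.S6470
import Groth.Agent.H19.IntMult.PushFormula
import Groth.Agent.H19.IntMult.DiagReduce
import Groth.Agent.Lib.Cyc.FP.Main
import Mathlib

/-!
# Flat pullbacks at a point
-/

set_option autoImplicit false
set_option linter.style.haveILetI false

universe u

open CategoryTheory CategoryTheory.Limits AlgebraicGeometry IsLocalRing
open scoped TensorProduct

namespace Groth.Agent.H19.IntMult.PushLocal

open Groth.Agent.Lib Groth.Agent.Lib.Cyc Groth.Agent.S12212 Groth.Agent.Lib.Tor.BaseChange
  Groth.Agent.H25.TorLES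

section Alg

variable {A : Type u} [CommRing A]

/-- The intersection number on a flat algebra against a quotient algebra. -/
theorem chi_quot (C L : Type u) [CommRing C] [CommRing L] [Algebra A C] [Algebra A L] [Algebra C L]
    [IsScalarTower A C L] [Module.Flat A C] (hs : Function.Surjective (algebraMap C L)) (I : Ideal A)
    (J : Ideal C) (hJ : RingHom.ker (algebraMap C L) = J) :
    IntMult.chi C (C ⧸ J) (C ⧸ I.map (algebraMap A C)) =
      ∑ᶠ i : ℕ, (-1 : ℤ) ^ i * ((Module.length L (PushFormula.Hh L (ModuleCat.of A (A ⧸ I)) i)).toNat : ℤ) := by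
  rw [FlatBC.chi_congr ((Submodule.quotEquivOfEq _ _ hJ.symm).trans
      (Ideal.quotientKerAlgEquivOfSurjective (f := Algebra.ofId C L) hs).toLinearEquiv)
    (Algebra.TensorProduct.quotIdealMapEquivTensorQuot C I).toLinearEquiv]
  exact finsum_congr fun i => by
    erw [PushFormula.length_tor_quot C L hs (ModuleCat.of A (A ⧸ I)) i]

/-- The length at the generic point of a finite domain. -/
theorem locLen_fraction {B : Type u} [CommRing B] [IsDomain B] [Algebra A B] [Module.Finite A B]
    (p : PrimeSpectrum A) (hker : RingHom.ker (algebraMap A B) = p.asIdeal) (Ap : Type u) [CommRing Ap]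
    [Algebra A Ap] [IsLocalization.AtPrime Ap p.asIdeal] (L : Type u) [Field L] [Algebra A L] [Algebra B L]
    [IsScalarTower A B L] [IsFractionRing B L] [Algebra Ap L] [IsScalarTower A Ap L] :
    locLen B p = Module.length Ap L := by
  let g := (IsScalarTower.toAlgHom A B L).toLinearMap
  haveI : IsLocalizedModule p.asIdeal.primeCompl g := by
    have hne : ∀ a : p.asIdeal.primeCompl, algebraMap A L a.1 ≠ 0 := fun a h => by
      rw [IsScalarTower.algebraMap_apply A B L, map_eq_zero_iff _ (IsFractionRing.injective B L)] at h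
      exact a.2 ((SetLike.ext_iff.1 hker a.1).1 h)
    refine { map_units := fun a => ?_, surj := fun y => ?_, exists_of_eq := fun {x₁ x₂} h => ?_ }
    · rw [Module.End.isUnit_iff]
      exact ⟨fun x y h => by
        simp only [Module.algebraMap_end_apply, Algebra.smul_def] at h
        exact mul_left_cancel₀ (hne a) h,
        fun y => ⟨(algebraMap A L a.1)⁻¹ * y, by
          simp only [Module.algebraMap_end_apply, Algebra.smul_def]
          rw [← mul_assoc, mul_inv_cancel₀ (hne a), one_mul]⟩⟩
    · obtain ⟨⟨c, d⟩, hcd⟩ := IsLocalization.surj (nonZeroDivisors B) y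
      let A' := A ⧸ RingHom.ker (algebraMap A B)
      letI : Algebra A' B := (RingHom.kerLift (algebraMap A B)).toAlgebra
      haveI : IsScalarTower A A' B := IsScalarTower.of_algebraMap_eq fun a => rfl
      have hd : IsAlgebraic A' d.1 := by
        haveI : IsDomain A' := by
          haveI : (RingHom.ker (algebraMap A B)).IsPrime := RingHom.ker_isPrime _
          exact Ideal.Quotient.isDomain _
        exact ((IsIntegral.of_finite A d.1).tower_top).isAlgebraic
      obtain ⟨r, hr, d', hd'⟩ := hd.exists_nonzero_dvd d.2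
      obtain ⟨a, rfl⟩ := Ideal.Quotient.mk_surjective r
      have ha : a ∈ p.asIdeal.primeCompl := fun h => hr (Ideal.Quotient.eq_zero_iff_mem.2 ((SetLike.ext_iff.1 hker a).2 h))
      refine ⟨⟨c * d', a, ha⟩, ?_⟩
      show a • y = algebraMap B L (c * d')
      rw [map_mul, ← hcd, Algebra.smul_def, IsScalarTower.algebraMap_apply A B L,
        show algebraMap A B a = d.1 * d' from hd', map_mul]
      ring
    · exact ⟨1, by rw [(IsFractionRing.injective B L) h]⟩
  exact (StalkLen.length_eq p.asIdeal Ap L g).symm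

/-- The length of the residue field of a local algebra. -/
theorem length_residueField {L : Type u} [CommRing L] [IsLocalRing L] [IsLocalRing A] [Algebra A L]
    [IsLocalHom (algebraMap A L)] [Module.Finite (ResidueField A) (ResidueField L)] :
    Module.length A (ResidueField L) = (Module.finrank (ResidueField A) (ResidueField L) : ℕ∞) := by
  rw [← Module.length_eq_finrank (K := ResidueField A) (M := ResidueField L)]
  exact Module.length_eq_of_surjective residue_surjective

end Alg

section Scheme

variable {X Y V : Scheme.{u}}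

/-- The map of local rings at a point over a generization. -/
noncomputable def toV (g : V ⟶ Y) {y : Y} (v : V) (h : g v ⤳ y) : Y.presheaf.stalk y →+* V.presheaf.stalk v :=
  (Y.presheaf.stalkSpecializes h ≫ g.stalkMap v).hom

theorem toV_germ (g : V ⟶ Y) {y : Y} (v : V) (h : g v ⤳ y) {U : Y.Opens} (hy : y ∈ U) (r : Γ(Y, U)) :
    toV g v h (Y.presheaf.germ U y hy r) =
      V.presheaf.germ (g ⁻¹ᵁ U) v (show g v ∈ U from h.mem_open U.2 hy) (g.app U r) :=
  (congrArg (g.stalkMap v) (TopCat.Presheaf.germ_stalkSpecializes_apply _ hy _ r)).trans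
    (Scheme.Hom.germ_stalkMap_apply _ _ _ _ _)

theorem toV_comp (ι : V ⟶ X) (f : X ⟶ Y) {y : Y} (v : V) (h : f (ι v) ⤳ y) :
    toV (ι ≫ f) v h = (ι.stalkMap v).hom.comp (toV f (ι v) h) := by
  simp only [toV]
  rw [Scheme.Hom.stalkMap_comp]
  rfl

theorem isLocalHom_toV (g : V ⟶ Y) {y : Y} (v : V) (h : g v = y) :
    IsLocalHom (toV g v (specializes_of_eq h)) := by
  subst h
  simp only [toV, TopCat.Presheaf.stalkSpecializes_refl, Category.id_comp]
  exact inferInstanceAs (IsLocalHom (g.stalkMap v).hom)

theorem toV_flat (g : V ⟶ Y) [Flat g] {y : Y} (v : V) (h : g v = y) :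
    (toV g v (specializes_of_eq h)).Flat := by
  subst h
  simp only [toV, TopCat.Presheaf.stalkSpecializes_refl, Category.id_comp]
  exact Flat.stalkMap g v

theorem finite_residue (g : V ⟶ Y) {y : Y} (v : V) (h : g v = y) (hfin : (g.residueFieldMap v).hom.Finite) :
    letI := (toV g v (specializes_of_eq h)).toAlgebra
    Module.length (Y.presheaf.stalk y) (ResidueField (V.presheaf.stalk v)) = (g.residueDegree v : ℕ∞) := by
  subst h
  have h1 : toV g v (specializes_of_eq rfl) = (g.stalkMap v).hom := by
    simp [toV, TopCat.Presheaf.stalkSpecializes_refl]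
  letI := (toV g v (specializes_of_eq (rfl : g v = g v))).toAlgebra
  haveI : IsLocalHom (algebraMap (Y.presheaf.stalk (g v)) (V.presheaf.stalk v)) := isLocalHom_toV g v rfl
  let i₁ : Algebra (ResidueField (Y.presheaf.stalk (g v))) (ResidueField (V.presheaf.stalk v)) := inferInstance
  have hM : i₁ = (g.residueFieldMap v).hom.toAlgebra := Algebra.algebra_ext _ _ fun a => by
    obtain ⟨a, rfl⟩ := residue_surjective a
    show residue _ (toV g v _ a) = _
    rw [h1]
    rfl
  haveI : Module.Finite (ResidueField (Y.presheaf.stalk (g v))) (ResidueField (V.presheaf.stalk v)) := by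
    show @Module.Finite _ _ _ _ i₁.toModule
    rw [hM]
    exact hfin
  rw [length_residueField]
  show ((@Module.finrank _ _ _ _ i₁.toModule : ℕ) : ℕ∞) = _
  rw [hM]
  rfl

theorem map_genPrime (f : X ⟶ Y) {x : X} {y : Y} (h : f x = y) (ω : Y) (hω : ω ⤳ y) (hω' : ω ⤳ f x) :
    (DimFun.genPrime (f x) ω hω').asIdeal.map (f.stalkMap x).hom =
      (DimFun.genPrime y ω hω).asIdeal.map (toV f x (specializes_of_eq h)) := by
  subst h
  simp [toV, TopCat.Presheaf.stalkSpecializes_refl]

/-- The local ring of a closed integral subscheme. -/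
theorem ker_stalkMap_closed [IsIntegral V] (ι : V ⟶ X) [IsClosedImmersion ι] (v : V)
    (h : ι (genericPoint V) ⤳ ι v) :
    RingHom.ker (ι.stalkMap v).hom = (DimFun.genPrime (ι v) (ι (genericPoint V)) h).asIdeal := by
  have hgv : genericPoint V ⤳ v := genericPoint_specializes v
  rw [DimFun.genPrime_eq]
  ext a
  show ι.stalkMap v a = 0 ↔ (X.presheaf.stalkSpecializes h a) ∈ maximalIdeal _
  have h1 : ι.stalkMap (genericPoint V) (X.presheaf.stalkSpecializes h a) =
      V.presheaf.stalkSpecializes hgv (ι.stalkMap v a) := Scheme.Hom.stalkSpecializes_stalkMap_apply ι _ v hgv a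
  have hinj : Function.Injective (V.presheaf.stalkSpecializes hgv) :=
    IsFractionRing.injective (V.presheaf.stalk v) V.functionField
  haveI : IsLocalHom (ι.stalkMap (genericPoint V)).hom := inferInstance
  rw [mem_maximalIdeal, mem_nonunits_iff, ← isUnit_map_iff (ι.stalkMap (genericPoint V)).hom]
  change _ ↔ ¬ IsUnit (ι.stalkMap (genericPoint V) (X.presheaf.stalkSpecializes h a))
  rw [h1]
  change _ ↔ ¬ IsUnit (show V.functionField from V.presheaf.stalkSpecializes hgv (ι.stalkMap v a))
  rw [isUnit_iff_ne_zero, not_not]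
  exact (map_eq_zero_iff _ hinj).symm

/-- A point over a generization, generic in its fibre. -/
theorem exists_fib_gen (f : X ⟶ Y) [Flat f] (x : X) {ω : Y} (h : ω ⤳ f x) :
    ∃ ω', ω' ⤳ x ∧ f ω' = ω ∧ FibLen.IsMaxFib f ω' := by
  obtain ⟨z, hz, rfl⟩ := Flat.generalizingMap f h
  obtain ⟨w, hw, hfw, hmax⟩ := FlatDim.exists_isMaxFib_specializes f z
  exact ⟨w, hw.trans hz, hfw, hmax⟩

theorem exists_algebra {K : Type u} [Field K] (gX : X ⟶ Spec (CommRingCat.of K)) [Smooth gX] (x : X) :
    ∃ _ : Algebra K (X.presheaf.stalk x), Algebra.EssFiniteType K (X.presheaf.stalk x) ∧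
      Algebra.FormallySmooth K (X.presheaf.stalk x) := by
  obtain ⟨U, hU, W, hW, hxW, e, hstd⟩ := Smooth.exists_isStandardSmooth gX x
  have hUtop : U = ⊤ := by
    ext y
    simp only [TopologicalSpace.Opens.coe_top, Set.mem_univ, iff_true]
    exact Subsingleton.elim (gX x) y ▸ e hxW
  subst hUtop
  let ι := (Scheme.ΓSpecIso (CommRingCat.of K)).inv.hom
  have hψ : ((gX.appLE ⊤ W e).hom.comp ι).IsStandardSmooth :=
    RingHom.isStandardSmooth_respectsIso.2 _ (RingEquiv.ofBijective ι
      (ConcreteCategory.bijective_of_isIso (Scheme.ΓSpecIso (CommRingCat.of K)).inv)) hstd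
  letI : Algebra K Γ(X, W) := ((gX.appLE ⊤ W e).hom.comp ι).toAlgebra
  haveI : Algebra.IsStandardSmooth K Γ(X, W) := hψ
  letI : Algebra Γ(X, W) (X.presheaf.stalk x) := X.presheaf.algebra_section_stalk ⟨x, hxW⟩
  letI : Algebra K (X.presheaf.stalk x) :=
    ((algebraMap Γ(X, W) (X.presheaf.stalk x)).comp (algebraMap K Γ(X, W))).toAlgebra
  haveI : IsScalarTower K Γ(X, W) (X.presheaf.stalk x) := IsScalarTower.of_algebraMap_eq fun x => rfl
  haveI := hW.isLocalization_stalk ⟨x, hxW⟩
  haveI : Algebra.EssFiniteType Γ(X, W) (X.presheaf.stalk x) :=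
    Algebra.EssFiniteType.of_isLocalization _ (hW.primeIdealOf ⟨x, hxW⟩).asIdeal.primeCompl
  haveI : Algebra.FormallyEtale Γ(X, W) (X.presheaf.stalk x) :=
    Algebra.FormallyEtale.of_isLocalization (hW.primeIdealOf ⟨x, hxW⟩).asIdeal.primeCompl
  exact ⟨inferInstance, Algebra.EssFiniteType.comp K Γ(X, W) _, Algebra.FormallySmooth.comp K Γ(X, W) _⟩

/-- The lengths of a pulled back prime cycle at the generizations of a point. -/
theorem locLen_pull [IsLocallyNoetherian X] [IsLocallyNoetherian Y] (f : X ⟶ Y) (x : X)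
    (P : PrimeSpectrum (X.presheaf.stalk x)) {z : X} (hz : X.fromSpecStalk x P = z) {ω : Y}
    (hω : ω ⤳ f x) (hfz : f z = ω) :
    locLen (↑(X.presheaf.stalk x) ⧸ (DimFun.genPrime (f x) ω hω).asIdeal.map (f.stalkMap x).hom) P =
      FibLen.fibLen f z := by
  subst hz hfz
  set I := (DimFun.genPrime (f x) (f (X.fromSpecStalk x P)) hω).asIdeal with hI
  have h : X.fromSpecStalk x P ⤳ x := DimFun.fromSpecStalk_specializes_self x P
  have hq : CDivInt.Factorial.primeOf h = P.asIdeal := by
    rw [DiagReduce.genPrime_primeOf, ← congrArg PrimeSpectrum.asIdeal (DimFun.eq_genPrime x P)]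
  letI : Algebra (X.presheaf.stalk x) (X.presheaf.stalk (X.fromSpecStalk x P)) :=
    (X.presheaf.stalkSpecializes h).hom.toAlgebra
  haveI : IsLocalization.AtPrime (X.presheaf.stalk (X.fromSpecStalk x P)) P.asIdeal := by
    have := CartierDescent.isLocalization_stalkSpecializes h
    show IsLocalization P.asIdeal.primeCompl _
    rw [show P.asIdeal.primeCompl = (CDivInt.Factorial.primeOf h).primeCompl from
      SetLike.ext fun r => not_congr (by rw [hq])]
    exact this
  letI : Algebra (Y.presheaf.stalk (f x)) (Y.presheaf.stalk (f (X.fromSpecStalk x P))) :=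
    (Y.presheaf.stalkSpecializes hω).hom.toAlgebra
  haveI : IsLocalization.AtPrime (Y.presheaf.stalk (f (X.fromSpecStalk x P))) I := by
    have := CartierDescent.isLocalization_stalkSpecializes hω
    show IsLocalization I.primeCompl _
    rw [show I.primeCompl = (CDivInt.Factorial.primeOf hω).primeCompl from
      SetLike.ext fun r => not_congr (by rw [DiagReduce.genPrime_primeOf])]
    exact this
  haveI : IsLocalizedModule P.asIdeal.primeCompl
      (TensorProduct.mk (X.presheaf.stalk x) (X.presheaf.stalk (X.fromSpecStalk x P))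
        (↑(X.presheaf.stalk x) ⧸ I.map (f.stalkMap x).hom) 1) :=
    (isLocalizedModule_iff_isBaseChange P.asIdeal.primeCompl (X.presheaf.stalk (X.fromSpecStalk x P)) _).mpr
      (TensorProduct.isBaseChange _ _ _)
  refine (StalkLen.length_eq P.asIdeal (X.presheaf.stalk (X.fromSpecStalk x P)) _
    (TensorProduct.mk (X.presheaf.stalk x) (X.presheaf.stalk (X.fromSpecStalk x P))
        (↑(X.presheaf.stalk x) ⧸ I.map (f.stalkMap x).hom) 1)).symm.trans ?_
  refine ((Algebra.TensorProduct.quotIdealMapEquivTensorQuot (X.presheaf.stalk (X.fromSpecStalk x P))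
    (I.map (f.stalkMap x).hom)).toLinearEquiv.symm.trans (Submodule.quotEquivOfEq _ _ ?_)).length_eq
  rw [Ideal.map_map, ← IsLocalization.AtPrime.map_eq_maximalIdeal I (Y.presheaf.stalk (f (X.fromSpecStalk x P))),
    Ideal.map_map]
  exact congrArg (fun φ => Ideal.map φ I)
    (congrArg CommRingCat.Hom.hom (Scheme.Hom.stalkSpecializes_stalkMap f _ x h)).symm

end Scheme

end Groth.Agent.H19.IntMult.PushLocal
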