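import Groth.Agent.Lib.Tor.BaseChange
import Groth.Agent.H19.IntMult.TorVanish
import Mathlib

/-!
# Reduction of Tor to the diagonal

For an `A`-algebra `S` with a retraction `S → A` (think `S = A ⊗_k A`) and an ideal `J` of `S` with
`S ⧸ J` flat over `A` and `Tor^S_{>0}(A, S ⧸ J) = 0`, one has
`Tor^A_n(A ⧸ J A, A ⧸ P) ≅ Tor^S_n(A, S ⧸ (J + P S))`.
-/

set_option autoImplicit false
set_option linter.style.haveILetI false

universe u

open CategoryTheory CategoryTheory.Limits MonoidalCategory
open scoped TensorProduct

namespace Groth.Agent.H19.IntMult.TorDiag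

open Groth.Agent.Lib Groth.Agent.Lib.Tor

variable (A S : Type u) [CommRing A] [CommRing S] [Algebra A S]

/-- `N ⊗_S -` landing in `A`-modules. -/
noncomputable def bimod (N : Type u) [AddCommGroup N] [Module S N] [Module A N] [IsScalarTower A S N] :
    ModuleCat.{u} S ⥤ ModuleCat.{u} A where
  obj Y := ModuleCat.of A (N ⊗[S] Y)
  map f := ModuleCat.ofHom ((LinearMap.lTensor N f.hom).restrictScalars A)
  map_id Y := by ext : 1; simp
  map_comp f g := by ext : 1; simp [LinearMap.lTensor_comp]

instance bimod_additive (N : Type u) [AddCommGroup N] [Module S N] [Module A N] [IsScalarTower A S N] :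
    (bimod A S N).Additive where
  map_add {X Y f g} := by
    apply ModuleCat.hom_ext
    exact congrArg (LinearMap.restrictScalars A) (LinearMap.lTensor_add N f.hom g.hom)

/-- `restrict ∘ (- ⊗_S N) ≅ N ⊗_S -`. -/
noncomputable def bimodIso (N : Type u) [AddCommGroup N] [Module S N] [Module A N] [IsScalarTower A S N] :
    tensorRight (ModuleCat.of S N) ⋙ ModuleCat.restrictScalars (algebraMap A S) ≅ bimod A S N :=
  NatIso.ofComponents (fun Y => BaseChange.restrictIso A S _ _ (TensorProduct.comm S Y N).toAddEquiv
      (fun r x => ((TensorProduct.comm S Y N).map_smul (algebraMap A S r) x).trans (algebraMap_smul S r _)))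
    (fun {X Y} f => by
      ext x
      induction x using TensorProduct.induction_on with
      | zero => exact (map_zero _).trans (map_zero _).symm
      | add a b ha hb => exact (map_add _ a b).trans ((congrArg₂ (· + ·) ha hb).trans (map_add _ a b).symm)
      | tmul p y => rfl)

theorem homology_semilinear (N : Type u) [AddCommGroup N] [Module S N] [Module A N] [IsScalarTower A S N]
    (G : ChainComplex (ModuleCat.{u} S) ℕ) (n : ℕ) :
    ∃ φ : (((bimod A S N).mapHomologicalComplex (ComplexShape.down ℕ)).obj G).homology n →ₛₗ[algebraMap A S]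
      (((tensorRight (ModuleCat.of S N)).mapHomologicalComplex (ComplexShape.down ℕ)).obj G).homology n,
      Function.Bijective φ :=
  BaseChange.exists_semilinear A S (K := ((tensorRight (ModuleCat.of S N)).mapHomologicalComplex _).obj G)
    ((NatIso.mapHomologicalComplex (bimodIso A S N) _).app G) n

theorem flat_bimod (N : Type u) [AddCommGroup N] [Module S N] [Module A N] [IsScalarTower A S N]
    [Module.Flat A N] (Y : Type u) [AddCommGroup Y] [Module S Y] [Module.Flat S Y] :
    Module.Flat A (N ⊗[S] Y) := by
  rw [Module.Flat.iff_lTensor_preserves_injective_linearMap]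
  intro X X' _ _ _ _ f hf
  let e := TensorProduct.AlgebraTensorModule.rightComm A S S N Y X
  let e' := TensorProduct.AlgebraTensorModule.rightComm A S S N Y X'
  have h1 : Function.Injective (TensorProduct.AlgebraTensorModule.lTensor S N f) :=
    Module.Flat.lTensor_preserves_injective_linearMap f hf
  have h2 := Module.Flat.rTensor_preserves_injective_linearMap (M := Y) _ h1
  have key : ∀ z, e' (LinearMap.lTensor (N ⊗[S] Y) f z) =
      LinearMap.rTensor Y (TensorProduct.AlgebraTensorModule.lTensor S N f) (e z) := fun z => by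
    induction z using TensorProduct.induction_on with
    | zero => simp
    | add a b ha hb => simp [ha, hb]
    | tmul x q =>
      induction x using TensorProduct.induction_on with
      | zero => simp
      | add a b ha hb =>
        simp only [TensorProduct.add_tmul, map_add] at *
        rw [ha, hb]
      | tmul m y => rfl
  intro z w hzw
  exact e.injective (h2 (by rw [← key, ← key, hzw]))

variable [Algebra S A] [IsScalarTower A S A] (J : Ideal S) (P : Ideal A)

/-- `(S ⧸ J) ⊗_A (A ⧸ P) ≅ S ⧸ (J + P S)`. -/
noncomputable def quotEquiv :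
    ((S ⧸ J) ⊗[A] (A ⧸ P)) ≃ₗ[S] S ⧸ (J ⊔ P.map (algebraMap A S)) :=
  ((Algebra.TensorProduct.quotIdealMapEquivTensorQuot (S ⧸ J) P).toLinearEquiv.restrictScalars S).symm.trans
    (((Ideal.quotientEquivAlgOfEq S (show P.map (algebraMap A (S ⧸ J)) =
        (P.map (algebraMap A S)).map (Ideal.Quotient.mkₐ S J) by
          rw [show (P.map (algebraMap A S)).map (Ideal.Quotient.mkₐ S J) =
            (P.map (algebraMap A S)).map (Ideal.Quotient.mk J) from rfl, Ideal.map_map,
            IsScalarTower.algebraMap_eq A S (S ⧸ J)]; rfl)).trans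
      (DoubleQuot.quotQuotEquivQuotSupₐ S J (P.map (algebraMap A S)))).toLinearEquiv)

/-- `((S ⧸ J) ⊗_S -) ⊗_A (A ⧸ P) ≅ (S ⧸ (J + P S)) ⊗_S -`. -/
noncomputable def quotNatIso :
    bimod A S (S ⧸ J) ⋙ tensorRight (ModuleCat.of A (A ⧸ P)) ≅
      bimod A S (S ⧸ (J ⊔ P.map (algebraMap A S))) :=
  NatIso.ofComponents (fun Y =>
    (((TensorProduct.AlgebraTensorModule.rightComm A S S (S ⧸ J) Y (A ⧸ P)).restrictScalars A).trans
      ((TensorProduct.congr (quotEquiv A S J P) (LinearEquiv.refl S Y)).restrictScalars A)).toModuleIso)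
    (fun {X Y} f => by
      ext x
      induction x using TensorProduct.induction_on with
      | zero => exact (map_zero _).trans (map_zero _).symm
      | add a b ha hb => exact (map_add _ a b).trans ((congrArg₂ (· + ·) ha hb).trans (map_add _ a b).symm)
      | tmul p q =>
        induction p using TensorProduct.induction_on with
        | zero =>
          exact ((congrArg _ (TensorProduct.zero_tmul _ q)).trans (map_zero _)).trans
            ((congrArg _ (TensorProduct.zero_tmul _ q)).trans (map_zero _)).symm
        | add a b ha hb =>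
          exact ((congrArg _ (TensorProduct.add_tmul a b q)).trans (map_add _ _ _)).trans
            ((congrArg₂ (· + ·) ha hb).trans
              ((congrArg _ (TensorProduct.add_tmul a b q)).trans (map_add _ _ _)).symm)
        | tmul m y => rfl)

theorem smul_eq_lTensor (a : A) (z : (S ⧸ J) ⊗[S] A) :
    a • z = LinearMap.lTensor (S ⧸ J) ((algebraMap A S a) • LinearMap.id : A →ₗ[S] A) z := by
  induction z using TensorProduct.induction_on with
  | zero => simp
  | add x y hx hy => rw [smul_add, hx, hy, map_add]
  | tmul m y =>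
    rw [LinearMap.lTensor_tmul, LinearMap.smul_apply, LinearMap.id_apply, ← TensorProduct.smul_tmul,
      TensorProduct.smul_tmul', algebraMap_smul]

/-- `(S ⧸ J) ⊗_S A ≅ A ⧸ J A`. -/
noncomputable def zeroEquiv :
    ((S ⧸ J) ⊗[S] A) ≃ₗ[A] A ⧸ J.map (algebraMap S A) :=
  { ((TensorProduct.comm S (S ⧸ J) A).toAddEquiv.trans
      (Algebra.TensorProduct.quotIdealMapEquivTensorQuot A J).symm.toRingEquiv.toAddEquiv) with
    map_smul' := fun a z => by
      change (Algebra.TensorProduct.quotIdealMapEquivTensorQuot A J).symm (TensorProduct.comm S (S ⧸ J) A (a • z)) =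
        a • (Algebra.TensorProduct.quotIdealMapEquivTensorQuot A J).symm (TensorProduct.comm S (S ⧸ J) A z)
      rw [smul_eq_lTensor, ← map_smul]
      congr 1
      induction z using TensorProduct.induction_on with
      | zero => simp
      | add x y hx hy => simp only [map_add, smul_add, hx, hy]
      | tmul m y =>
        rw [LinearMap.lTensor_tmul, TensorProduct.comm_tmul, TensorProduct.comm_tmul, LinearMap.smul_apply,
          LinearMap.id_apply, TensorProduct.smul_tmul', algebraMap_smul] }

/-- Reduction to the diagonal. -/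
theorem tor_diag [Module.Flat A (S ⧸ J)]
    (hvan : ∀ m : ℕ, Subsingleton (DRing.Tor S (m + 1) A (S ⧸ J))) (n : ℕ) :
    ∃ φ : DRing.Tor A n (A ⧸ J.map (algebraMap S A)) (A ⧸ P) →ₛₗ[algebraMap A S]
      DRing.Tor S n A (S ⧸ (J ⊔ P.map (algebraMap A S))), Function.Bijective φ := by
  let R := projectiveResolution (ModuleCat.of S A)
  let Q := ((bimod A S (S ⧸ J)).mapHomologicalComplex (ComplexShape.down ℕ)).obj R.complex
  have hflat : ∀ i, Module.Flat A (Q.X i) := fun i => by
    haveI := Balance.flat_of_projective (R.complex.X i)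
    exact flat_bimod A S (S ⧸ J) (R.complex.X i)
  have hexact : ∀ m, Q.ExactAt (m + 1) := fun m => by
    obtain ⟨φ, hφ⟩ := homology_semilinear A S (S ⧸ J) R.complex (m + 1)
    haveI := hvan m
    haveI : Subsingleton ((((tensorRight (ModuleCat.of S (S ⧸ J))).mapHomologicalComplex
        (ComplexShape.down ℕ)).obj R.complex).homology (m + 1) : ModuleCat.{u} S) :=
      (Balance.torObjIso R (ModuleCat.of S (S ⧸ J)) (m + 1)).toLinearEquiv.symm.injective.subsingleton
    haveI : Subsingleton (Q.homology (m + 1)) := hφ.injective.subsingleton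
    exact (Q.exactAt_iff_isZero_homology _).2 (ModuleCat.isZero_of_subsingleton _)
  let ε : Q.X 0 ⟶ ModuleCat.of A (A ⧸ J.map (algebraMap S A)) :=
    (bimod A S (S ⧸ J)).map (R.π.f 0) ≫ ModuleCat.ofHom (zeroEquiv A S J).toLinearMap
  have hsurj : Function.Surjective (R.π.f 0) := (ModuleCat.epi_iff_surjective (R.π.f 0)).1 inferInstance
  have w : Q.d 1 0 ≫ ε = 0 := by
    change (bimod A S (S ⧸ J)).map (R.complex.d 1 0) ≫ (bimod A S (S ⧸ J)).map (R.π.f 0) ≫ _ = 0
    rw [← Category.assoc, ← Functor.map_comp, R.complex_d_comp_π_f_zero, Functor.map_zero, zero_comp]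
  have he : Epi ε := (ModuleCat.epi_iff_surjective ε).2
    ((zeroEquiv A S J).surjective.comp (LinearMap.lTensor_surjective (S ⧸ J) hsurj))
  have hz : (ShortComplex.mk _ _ w).Exact := by
    have h := Balance.resolution_exact_zero R
    rw [ShortComplex.ShortExact.moduleCat_exact_iff_function_exact] at h ⊢
    intro x
    exact ⟨fun hx => (lTensor_exact (S ⧸ J) h hsurj x).1 ((zeroEquiv A S J).map_eq_zero_iff.1 hx),
      fun hx => (zeroEquiv A S J).map_eq_zero_iff.2 ((lTensor_exact (S ⧸ J) h hsurj x).2 hx)⟩
  refine BaseChange.semilinear_transport A S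
    (((Balance.torIsoOfFlatResolution Q hflat hexact ε w he hz n).app (ModuleCat.of A (A ⧸ P))).symm ≪≫
      (HomologicalComplex.homologyFunctor _ (ComplexShape.down ℕ) n).mapIso
        ((NatIso.mapHomologicalComplex (quotNatIso A S J P) _).app R.complex))
    (Balance.torObjIso R _ n).symm
    (homology_semilinear A S _ R.complex n)

end Groth.Agent.H19.IntMult.TorDiag
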