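import Groth.Agent.H19.IntMult.RegSeq
import Groth.Agent.Lib.Regular.Indep
import Groth.Agent.Lib.Regular.Quotient
import Groth.Agent.Lib.GenFinite.Regular
import Groth.Agent.H46.OpenDim
import Mathlib

/-!
# Transversal intersections in a regular local ring
-/

set_option autoImplicit false
set_option linter.style.haveILetI false

universe u

open IsLocalRing

namespace Groth.Agent.H19.IntMult.Transversal

open Groth.Agent.Lib

variable {A : Type u} [CommRing A] [IsRegularLocalRing A]

/-- Elements of an ideal whose classes form a basis of its image in the cotangent space. -/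
theorem exists_indep (P : Ideal A) :
    ∃ (c : ℕ) (f : Fin c → maximalIdeal A), (∀ i, (f i : A) ∈ P) ∧
      LinearIndependent (ResidueField A) (fun i => (maximalIdeal A).toCotangent (f i)) ∧
      c = Module.finrank (ResidueField A)
        (Submodule.span (ResidueField A) ((maximalIdeal A).toCotangent '' {x | (x : A) ∈ P}) :
          Submodule (ResidueField A) (CotangentSpace A)) := by
  classical
  obtain ⟨b, hbs, hspan, hli⟩ := exists_linearIndependent (ResidueField A)
    ((maximalIdeal A).toCotangent '' {x | (x : A) ∈ P})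
  haveI : Fintype b := hli.setFinite.fintype
  let e := (Fintype.equivFin b).symm
  choose f hf hfe using fun i : Fin (Fintype.card b) => hbs (e i).2
  refine ⟨Fintype.card b, f, hf, ?_, ?_⟩
  · rw [funext hfe]
    exact hli.comp (fun i => e i) e.injective
  · have h := finrank_span_eq_card hli
    rw [Subtype.range_coe, hspan] at h
    exact h.symm

theorem eq_span_of_le {P : Ideal A} [hP : P.IsPrime] {d a c : ℕ} (f : Fin c → maximalIdeal A)
    (hfP : ∀ i, (f i : A) ∈ P)
    (hf : LinearIndependent (ResidueField A) (fun i => (maximalIdeal A).toCotangent (f i)))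
    (hd : ringKrullDim A = d) (ha : ringKrullDim (A ⧸ P) = a) :
    a + c ≤ d ∧ (a + c = d → P = Ideal.span (Set.range fun i => (f i : A)) ∧ IsRegularLocalRing (A ⧸ P) ∧
      RingTheory.Sequence.IsRegular A (List.ofFn fun i => (f i : A))) := by
  obtain ⟨hreg, hdim⟩ := Regular.Indep.quotient_of_indep f hf
  rw [hd] at hdim
  let I := Ideal.span (Set.range fun i => (f i : A))
  haveI : IsRegularLocalRing (A ⧸ I) := hreg
  haveI : I.IsPrime := (Ideal.Quotient.isDomain_iff_prime I).mp (Groth.Agent.Lib.Regular.Quotient.isDomain _)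
  have hIP : I ≤ P := Ideal.span_le.mpr (by rintro _ ⟨i, rfl⟩; exact hfP i)
  have hle : ((a + c : ℕ) : WithBot ℕ∞) ≤ d := by
    rw [← hdim, Nat.cast_add, ← ha]
    exact add_le_add (ringKrullDim_le_of_surjective (Ideal.Quotient.factor hIP)
      (Ideal.Quotient.factor_surjective hIP)) le_rfl
  refine ⟨by exact_mod_cast hle, fun he => ?_⟩
  have hPI : P = I := by
    refine (hIP.eq_or_lt.resolve_right fun hlt => ?_).symm
    have h1 := Groth.Agent.H46.OpenDim.ringKrullDim_quotient_succ_le hlt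
    rw [ha] at h1
    have h2 := add_le_add h1 (le_refl (c : WithBot ℕ∞))
    rw [hdim] at h2
    have h3 : a + 1 + c ≤ d := by exact_mod_cast h2
    omega
  refine ⟨hPI, hPI ▸ hreg, ?_⟩
  haveI := Groth.Agent.Lib.GenFinite.Regular.isCohenMacaulayLocalRing A
  refine Groth.Agent.H20.CMRegular.isRegular_of_ringKrullDim_le _ (fun x hx => ?_) ?_
  · obtain ⟨i, rfl⟩ := List.mem_ofFn.mp hx
    exact (f i).2
  · rw [List.length_ofFn, ringKrullDim_eq_of_ringEquiv (Ideal.quotEquivOfEq
      (RegSeq.ofList_ofFn fun i => (f i : A))), hdim, hd]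

/-- A transversal intersection has multiplicity one and regular cycles. -/
theorem transversal {P Q : Ideal A} [P.IsPrime] [Q.IsPrime] (hPQ : P ⊔ Q = maximalIdeal A) {d a b : ℕ}
    (hd : ringKrullDim A = d) (ha : ringKrullDim (A ⧸ P) = a) (hb : ringKrullDim (A ⧸ Q) = b)
    (hle : d ≤ a + b) :
    IntMult.chi A (A ⧸ Q) (A ⧸ P) = 1 ∧ IsRegularLocalRing (A ⧸ P) ∧ IsRegularLocalRing (A ⧸ Q) := by
  obtain ⟨cp, fp, hfp, hlp, hcp⟩ := exists_indep P
  obtain ⟨cq, fq, hfq, hlq, hcq⟩ := exists_indep Q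
  obtain ⟨h1, hP'⟩ := eq_span_of_le fp hfp hlp hd ha
  obtain ⟨h2, hQ'⟩ := eq_span_of_le fq hfq hlq hd hb
  set Sp := Submodule.span (ResidueField A) ((maximalIdeal A).toCotangent '' {x | (x : A) ∈ P}) with hSp
  set Sq := Submodule.span (ResidueField A) ((maximalIdeal A).toCotangent '' {x | (x : A) ∈ Q}) with hSq
  have htop : Sp ⊔ Sq = ⊤ := by
    refine eq_top_iff.mpr fun v _ => ?_
    obtain ⟨⟨x, hx⟩, rfl⟩ := (maximalIdeal A).toCotangent_surjective v
    obtain ⟨y, hy, z, hz, rfl⟩ := Submodule.mem_sup.mp (hPQ.symm ▸ hx : x ∈ P ⊔ Q)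
    have hym : y ∈ maximalIdeal A := IsLocalRing.le_maximalIdeal (Ideal.IsPrime.ne_top ‹P.IsPrime›) hy
    have hzm : z ∈ maximalIdeal A := IsLocalRing.le_maximalIdeal (Ideal.IsPrime.ne_top ‹Q.IsPrime›) hz
    rw [show (⟨y + z, hx⟩ : maximalIdeal A) = ⟨y, hym⟩ + ⟨z, hzm⟩ from rfl, map_add]
    exact Submodule.add_mem_sup (Submodule.subset_span ⟨_, hy, rfl⟩) (Submodule.subset_span ⟨_, hz, rfl⟩)
  have hV : Module.finrank (ResidueField A) (CotangentSpace A) = d := by
    have h := (IsRegularLocalRing.iff_finrank_cotangentSpace A).mp inferInstance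
    rw [hd] at h
    exact_mod_cast h
  have h3 : d ≤ cp + cq := by
    have hV' : Module.finrank (ResidueField A) (⊤ : Submodule (ResidueField A) (CotangentSpace A)) = d := by
      rw [finrank_top]; exact hV
    rw [← htop] at hV'
    rw [hcp, hcq, ← hV']
    exact (le_of_le_of_eq (Nat.le_add_right _ _) (Submodule.finrank_sup_add_finrank_inf_eq Sp Sq) :)
  obtain ⟨hPe, hPreg, hreg⟩ := hP' (by omega)
  obtain ⟨hQe, hQreg, -⟩ := hQ' (by omega)
  refine ⟨?_, hPreg, hQreg⟩
  haveI := hQreg
  haveI := Groth.Agent.Lib.GenFinite.Regular.isCohenMacaulayLocalRing (A ⧸ Q)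
  have hfin : ∀ q : Ideal A, q.IsPrime → Ideal.span (Set.range fun i => (fp i : A)) ≤ q → Q ≤ q →
      q = maximalIdeal A := fun q hq hpq hQq =>
    ((maximalIdeal.isMaximal A).eq_of_le hq.ne_top (hPQ ▸ sup_le (hPe.le.trans hpq) hQq)).symm
  have key := RegSeq.chi_eq_length (fun i => (fp i : A)) hreg Q hfin hd
    ((ringKrullDim_eq_of_ringEquiv (Ideal.quotEquivOfEq hPe.symm)).trans ha) hb hle
  rw [← hPe] at key
  rw [key, sup_comm, hPQ]
  have h1' : Module.length A (A ⧸ maximalIdeal A) = 1 := by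
    haveI : IsSimpleModule A (A ⧸ maximalIdeal A) :=
      isSimpleModule_iff_isCoatom.mpr (maximalIdeal.isMaximal A).out
    exact Module.length_eq_one A _
  rw [h1']
  rfl

end Groth.Agent.H19.IntMult.Transversal
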