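import Groth.Agent.H19.IntMult.Additive
import Groth.Agent.Lib.TensorCx.Vanish
import Groth.Agent.Lib.DerivedOX.Bifunctor
import Groth.Prelude.Def_DTen
import Mathlib

/-!
# The Euler characteristic of a triple derived tensor product
-/

set_option autoImplicit false
set_option linter.style.haveILetI false

universe u v v' w w'

open CategoryTheory CategoryTheory.Limits MonoidalCategory HomologicalComplex IsLocalRing
attribute [local instance] HasDerivedCategory.standard

namespace Groth.Agent.H19.IntMult.TripleTor

open Groth.Agent.Lib.TensorCx.Basic Groth.Agent.Lib.TensorCx.Vanish Groth.Agent.H25.TorLES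
  Groth.Agent.H19.IntMult.Additive Groth.Agent.Lib

section MapExtend

variable {C : Type w} [Category.{v} C] [Preadditive C] [HasZeroObject C]
  {D : Type w'} [Category.{v'} D] [Preadditive D] [HasZeroObject D]
  (G : C ⥤ D) [G.Additive] (K : ChainComplex C ℕ)

/-- The components of `mapExtendIso`. -/
noncomputable def xIso (j : ℤ) :
    ((G.mapHomologicalComplex _).obj (K.extend ComplexShape.embeddingDownNat)).X j ≅
      (((G.mapHomologicalComplex _).obj K).extend ComplexShape.embeddingDownNat).X j :=
  if h : j ≤ 0 then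
    G.mapIso (K.extendXIso ComplexShape.embeddingDownNat (i := (-j).toNat) (show -((-j).toNat : ℤ) = j by omega)) ≪≫
      (((G.mapHomologicalComplex _).obj K).extendXIso ComplexShape.embeddingDownNat (i := (-j).toNat)
        (show -((-j).toNat : ℤ) = j by omega)).symm
  else
    (G.map_isZero (K.isZero_extend_X ComplexShape.embeddingDownNat j
      (fun i (hi : -(i : ℤ) = j) => h (by omega)))).iso
      (((G.mapHomologicalComplex _).obj K).isZero_extend_X ComplexShape.embeddingDownNat j
        (fun i (hi : -(i : ℤ) = j) => h (by omega)))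

lemma key {a b a' b' : C} {x y : D} (e : a ≅ a') (e' : b ≅ b') (g : x ≅ G.obj a')
    (g' : y ≅ G.obj b') (d : a' ⟶ b') :
    (G.mapIso e ≪≫ g.symm).hom ≫ g.hom ≫ G.map d ≫ g'.inv =
      G.map (e.hom ≫ d ≫ e'.inv) ≫ (G.mapIso e' ≪≫ g'.symm).hom := by
  simp

/-- A functor commutes with extension by zero. -/
noncomputable def mapExtendIso :
    (G.mapHomologicalComplex _).obj (K.extend ComplexShape.embeddingDownNat) ≅
      ((G.mapHomologicalComplex _).obj K).extend ComplexShape.embeddingDownNat :=
  HomologicalComplex.Hom.isoOfComponents (xIso G K) fun i j hij => by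
    by_cases hj : j ≤ 0
    · have hi : i ≤ 0 := by simp at hij; omega
      rw [xIso, dif_pos hi, xIso, dif_pos hj]
      erw [HomologicalComplex.extend_d_eq _ ComplexShape.embeddingDownNat
        (show -((-i).toNat : ℤ) = i by omega) (show -((-j).toNat : ℤ) = j by omega)]
      simp only [Functor.mapHomologicalComplex_obj_d]
      rw [HomologicalComplex.extend_d_eq K ComplexShape.embeddingDownNat
        (show -((-i).toNat : ℤ) = i by omega) (show -((-j).toNat : ℤ) = j by omega)]
      exact key G _ _ _ _ _
    · exact (((G.mapHomologicalComplex _).obj K).isZero_extend_X ComplexShape.embeddingDownNat j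
        (fun i (hi : -(i : ℤ) = j) => hj (by omega))).eq_of_tgt _ _

end MapExtend

variable {A : Type u} [CommRing A]

/-- The sign of a degree. -/
abbrev sgn (n : ℤ) : ℤ := ((n.negOnePow : ℤˣ) : ℤ)

theorem sgn_succ (n : ℤ) : sgn (n + 1) = -sgn n := by
  simp [sgn, Int.negOnePow_succ]

theorem sgn_sub_nat (a : ℤ) (k : ℕ) : sgn (a - k) = sgn a * (-1) ^ k := by
  rw [sgn, sgn, Int.negOnePow_sub, Units.val_mul, Int.negOnePow_def (k : ℤ), zpow_natCast,
    Units.val_pow_eq_pow_val]
  rfl

/-- The Euler characteristic of a complex. -/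
noncomputable def eul (C : Cx A) : ℤ := ∑ᶠ n : ℤ, sgn n * lz (A := A) (C.homology n)

/-- Complexes with cohomology of finite length in finitely many degrees. -/
structure Nice (C : Cx A) : Prop where
  len : ∀ n, Module.length A (C.homology n) ≠ ⊤
  fin : {n | ¬ IsZero (C.homology n)}.Finite

theorem lz_isZero {V : ModuleCat.{u} A} (h : IsZero V) : lz (A := A) V = 0 := by
  haveI := ModuleCat.subsingleton_of_isZero h
  simp [lz, Module.length_eq_zero]

theorem length_isZero {V : ModuleCat.{u} A} (h : IsZero V) : Module.length A V = 0 := by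
  haveI := ModuleCat.subsingleton_of_isZero h
  simp [Module.length_eq_zero]

theorem Nice.of_iso {C D : Cx A} (e : ∀ n, C.homology n ≅ D.homology n) (h : Nice D) :
    Nice C ∧ eul C = eul D := by
  refine ⟨⟨fun n => ((e n).toLinearEquiv.length_eq).trans_ne (h.len n), h.fin.subset fun n hn hz => hn ?_⟩,
    finsum_congr fun n => ?_⟩
  · exact hz.of_iso (e n)
  · rw [lz, lz, (e n).toLinearEquiv.length_eq]

theorem Nice.of_quasiIso {C D : Cx A} (f : C ⟶ D) [QuasiIso f] (h : Nice D) : Nice C ∧ eul C = eul D :=
  h.of_iso fun n => isoOfQuasiIsoAt f n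

theorem Nice.of_quasiIso' {C D : Cx A} (f : C ⟶ D) [QuasiIso f] (h : Nice C) : Nice D ∧ eul D = eul C :=
  h.of_iso fun n => (isoOfQuasiIsoAt f n).symm

theorem nice_of_isZero {C : Cx A} (h : ∀ n, IsZero (C.homology n)) : Nice C ∧ eul C = 0 :=
  ⟨⟨fun n => by simp [length_isZero (h n)], by simp [h]⟩,
    finsum_eq_zero_of_forall_eq_zero fun n => by rw [lz_isZero (h n), mul_zero]⟩

theorem length_le_of_exact {U V W : Type u} [AddCommGroup U] [AddCommGroup V] [AddCommGroup W] [Module A U]
    [Module A V] [Module A W] (f : U →ₗ[A] V) (g : V →ₗ[A] W) (h : Function.Exact f g)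
    (hU : Module.length A U ≠ ⊤) (hW : Module.length A W ≠ ⊤) : Module.length A V ≠ ⊤ := by
  have e : Module.length A V = Module.length A (LinearMap.range f) + Module.length A (LinearMap.range g) :=
    Module.length_eq_add_of_exact (LinearMap.range f).subtype g.rangeRestrict (Submodule.injective_subtype _)
      g.surjective_rangeRestrict (fun x => by
        constructor
        · intro hx
          obtain ⟨y, rfl⟩ := (h x).1 (congrArg Subtype.val hx)
          exact ⟨⟨f y, y, rfl⟩, rfl⟩
        · rintro ⟨⟨_, y, rfl⟩, rfl⟩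
          exact Subtype.ext ((h _).2 ⟨y, rfl⟩))
  rw [e]
  exact WithTop.add_ne_top.mpr
    ⟨ne_top_of_le_ne_top hU (Module.length_le_of_surjective f.rangeRestrict f.surjective_rangeRestrict),
      ne_top_of_le_ne_top hW (Module.length_le_of_injective (LinearMap.range g).subtype
        (Submodule.injective_subtype _))⟩

/-- Additivity of the Euler characteristic. -/
theorem eul_add {S : ShortComplex (Cx A)} (hS : S.ShortExact) (h1 : Nice S.X₁) (h3 : Nice S.X₃) :
    Nice S.X₂ ∧ eul S.X₂ = eul S.X₁ + eul S.X₃ := by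
  have x2 : ∀ n, Function.Exact (homologyMap S.f n).hom (homologyMap S.g n).hom := fun n =>
    (ShortComplex.ShortExact.moduleCat_exact_iff_function_exact _).mp (hS.homology_exact₂ n)
  have x1 : ∀ n, Function.Exact (hS.δ (n - 1) n (by simp)).hom (homologyMap S.f n).hom := fun n =>
    (ShortComplex.ShortExact.moduleCat_exact_iff_function_exact _).mp (hS.homology_exact₁ (n - 1) n (by simp))
  have x3 : ∀ n, Function.Exact (homologyMap S.g n).hom (hS.δ n (n + 1) (by simp)).hom := fun n =>
    (ShortComplex.ShortExact.moduleCat_exact_iff_function_exact _).mp (hS.homology_exact₃ n (n + 1) (by simp))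
  have h2 : Nice S.X₂ := ⟨fun n => length_le_of_exact _ _ (x2 n) (h1.len n) (h3.len n),
    (h1.fin.union h3.fin).subset fun n hn => by
      by_contra hc
      rw [Set.mem_union, Set.mem_setOf, Set.mem_setOf, not_or, not_not, not_not] at hc
      exact hn ((hS.homology_exact₂ n).isZero_X₂ (hc.1.eq_of_src _ _) (hc.2.eq_of_tgt _ _))⟩
  refine ⟨h2, ?_⟩
  let a : ℤ → ℤ := fun n => lz (A := A) (LinearMap.range (homologyMap S.f n).hom)
  let b : ℤ → ℤ := fun n => lz (A := A) (LinearMap.range (homologyMap S.g n).hom)
  let c : ℤ → ℤ := fun n => lz (A := A) (LinearMap.range (hS.δ n (n + 1) (by simp)).hom)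
  have hc1 : ∀ n, lz (A := A) (LinearMap.range (hS.δ (n - 1) n (by simp)).hom) = c (n - 1) := fun n => by
    have : ∀ m k (hk : m + 1 = k), lz (A := A) (LinearMap.range (hS.δ m k (by simpa using hk)).hom) = c m := by
      rintro m k rfl
      rfl
    exact this (n - 1) n (by omega)
  have e1 : ∀ n, lz (A := A) (S.X₁.homology n) = c (n - 1) + a n := fun n => by
    rw [← hc1]; exact lz_range_add _ _ (x1 n) (h1.len n)
  have e2 : ∀ n, lz (A := A) (S.X₂.homology n) = a n + b n := fun n => lz_range_add _ _ (x2 n) (h2.len n)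
  have e3 : ∀ n, lz (A := A) (S.X₃.homology n) = b n + c n := fun n => lz_range_add _ _ (x3 n) (h3.len n)
  have fs : ∀ {C : Cx A}, Nice C → (Function.support fun n => sgn n * lz (A := A) (C.homology n)).Finite :=
    fun {C} hC => hC.fin.subset fun n hn hz => hn (by simp only [lz_isZero hz, mul_zero])
  have hcfin : (Function.support fun n => sgn n * c n).Finite :=
    h3.fin.subset fun n hn hz => hn (by
      haveI := ModuleCat.subsingleton_of_isZero hz
      haveI : Subsingleton (LinearMap.range (hS.δ n (n + 1) (by simp)).hom) :=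
        Function.Surjective.subsingleton (hS.δ n (n + 1) (by simp)).hom.surjective_rangeRestrict
      simp [c, lz, Module.length_eq_zero])
  have hcfin' : (Function.support fun n => sgn n * c (n - 1)).Finite :=
    (hcfin.image (fun n => n + 1)).subset fun n hn => ⟨n - 1, fun h => hn (by
      simp only [mul_eq_zero] at h ⊢
      rcases h with h | h
      · simp [sgn] at h
      · exact Or.inr h), by simp⟩
  have hshift : ∑ᶠ n : ℤ, sgn n * c (n - 1) = -∑ᶠ n : ℤ, sgn n * c n := by
    rw [← finsum_neg_distrib, ← finsum_comp_equiv (Equiv.addRight (1 : ℤ))]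
    exact finsum_congr fun n => by simp [sgn_succ]
  have key : ∀ n, sgn n * lz (A := A) (S.X₁.homology n) + sgn n * lz (A := A) (S.X₃.homology n) =
      sgn n * lz (A := A) (S.X₂.homology n) + (sgn n * c (n - 1) + sgn n * c n) := fun n => by
    rw [e1, e2, e3]; ring
  unfold eul
  rw [← finsum_add_distrib (fs h1) (fs h3), finsum_congr key,
    finsum_add_distrib (fs h2) ((hcfin'.union hcfin).subset (Function.support_add _ _)),
    finsum_add_distrib hcfin' hcfin, hshift]
  ring

/-- The cochain complex of a projective resolution. -/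
noncomputable abbrev res (M : ModuleCat.{u} A) : Cx A := (projectiveResolution M).cochainComplex

theorem flat_res (M : ModuleCat.{u} A) (i : ℤ) : Module.Flat A ((res M).X i) :=
  Tor.Balance.flat_of_projective _

theorem res_bdd (M : ModuleCat.{u} A) (i : ℤ) (hi : 0 < i) : IsZero ((res M).X i) :=
  CochainComplex.isZero_of_isStrictlyLE _ 0 _ hi

theorem nonempty_homology_tens_single (K : Cx A) (X : ModuleCat.{u} A) (a m p : ℤ) (h : p + a = m) :
    Nonempty ((tens K ((single (ModuleCat.{u} A) (.up ℤ) a).obj X)).homology m ≅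
      (((curriedTensor (ModuleCat.{u} A)).flip.obj X).mapHomologicalComplex (.up ℤ) |>.obj K).homology p) := by
  have h₁ : p - 1 + a = m - 1 := by omega
  have h₃ : p + 1 + a = m + 1 := by omega
  let Φ := curriedTensor (ModuleCat.{u} A)
  haveI e₁ := DerivedOX.Bifunctor.isIso_singleHom₂ Φ K a X (m - 1) (p - 1) h₁
  haveI e₂ := DerivedOX.Bifunctor.isIso_singleHom₂ Φ K a X m p h
  haveI e₃ := DerivedOX.Bifunctor.isIso_singleHom₂ Φ K a X (m + 1) (p + 1) h₃
  refine ⟨(homologyIsoSc' _ (m - 1) m (m + 1) (by simp) (by simp)) ≪≫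
    ShortComplex.homologyMapIso ?_ ≪≫ (homologyIsoSc' _ (p - 1) p (p + 1) (by simp) (by simp)).symm⟩
  exact (ShortComplex.isoMk (@asIso _ _ _ _ _ e₁) (@asIso _ _ _ _ _ e₂) (@asIso _ _ _ _ _ e₃)
    (DerivedOX.Bifunctor.singleHom₂_d Φ K a X _ _ _ _ h₁ h (by omega))
    (DerivedOX.Bifunctor.singleHom₂_d Φ K a X _ _ _ _ h h₃ (by omega))).symm

/-- A projective resolution tensored with a module in one degree computes Tor. -/
theorem tens_single (M X : ModuleCat.{u} A) (a : ℤ) :
    (∀ k : ℕ, Nonempty ((tens (res M) ((single (ModuleCat.{u} A) (.up ℤ) a).obj X)).homology (a - k) ≅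
      (T M k).obj X)) ∧
    (∀ m, a < m → IsZero ((tens (res M) ((single (ModuleCat.{u} A) (.up ℤ) a).obj X)).homology m)) := by
  let G := (curriedTensor (ModuleCat.{u} A)).flip.obj X
  let P := projectiveResolution M
  refine ⟨fun k => ?_, fun m hm => ?_⟩
  · obtain ⟨e⟩ := nonempty_homology_tens_single (res M) X a (a - k) (-(k : ℤ)) (by omega)
    exact ⟨e ≪≫ (homologyFunctor _ _ (-(k : ℤ))).mapIso (mapExtendIso G P.complex) ≪≫
      ((G.mapHomologicalComplex _).obj P.complex).extendHomologyIso ComplexShape.embeddingDownNat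
        (j := k) (j' := -(k : ℤ)) rfl ≪≫
      (Tor.Balance.torIsoOfResolution P k).app X⟩
  · obtain ⟨e⟩ := nonempty_homology_tens_single (res M) X a m (m - a) (by omega)
    refine IsZero.of_iso ?_ e
    refine ExactAt.isZero_homology (HomologicalComplex.ExactAt.of_isZero ?_)
    exact G.map_isZero (res_bdd M (m - a) (by omega))

variable [IsRegularLocalRing A]

/-- The supports of two modules meet at most in the closed point. -/
def MeetsAtMax (M N : Type u) [AddCommGroup M] [Module A M] [AddCommGroup N] [Module A N] : Prop :=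
  ∀ q : PrimeSpectrum A, q ∈ Module.support A M → q ∈ Module.support A N → q.asIdeal = maximalIdeal A

theorem meetsAtMax_congr {M : Type u} [AddCommGroup M] [Module A M] {N N' : ModuleCat.{u} A} (e : N ≅ N')
    (h : MeetsAtMax (A := A) M N') : MeetsAtMax (A := A) M N := fun q h₁ h₂ =>
  h q h₁ (by rwa [← e.toLinearEquiv.support_eq])

theorem meetsAtMax_of_isZero {M : Type u} [AddCommGroup M] [Module A M] {N : ModuleCat.{u} A} (h : IsZero N) :
    MeetsAtMax (A := A) M N := fun q _ h₂ => by
  haveI := ModuleCat.subsingleton_of_isZero h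
  rw [Module.support_eq_empty] at h₂
  exact h₂.elim

theorem nice_single (M X : ModuleCat.{u} A) [Module.Finite A M] [Module.Finite A X]
    (hMX : MeetsAtMax (A := A) M X) (a : ℤ) :
    Nice (tens (res M) ((single (ModuleCat.{u} A) (.up ℤ) a).obj X)) ∧
      eul (tens (res M) ((single (ModuleCat.{u} A) (.up ℤ) a).obj X)) = sgn a * IntMult.chi A M X := by
  classical
  obtain ⟨hiso, hgt⟩ := tens_single M X a
  set D := (maximalIdeal A).spanFinrank
  have hvan : ∀ i, D < i → IsZero ((T M i).obj X) := isZero_of_pdle M _ X (pdle_dim X)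
  set C := tens (res M) ((single (ModuleCat.{u} A) (.up ℤ) a).obj X)
  have hout : ∀ n, n ∉ (Finset.range (D + 1)).image (fun k : ℕ => a - (k : ℤ)) → IsZero (C.homology n) :=
    fun n hn => by
      rcases lt_or_ge a n with h | h
      · exact hgt n h
      · obtain ⟨k, rfl⟩ : ∃ k : ℕ, n = a - k := ⟨(a - n).toNat, by omega⟩
        refine (hvan k ?_).of_iso (hiso k).some
        by_contra hk
        exact hn (Finset.mem_image.mpr ⟨k, Finset.mem_range.mpr (by omega), rfl⟩)
  refine ⟨⟨fun n => ?_, ((Finset.range (D + 1)).image (fun k : ℕ => a - (k : ℤ))).finite_toSet.subset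
    fun n hn => by_contra fun h => hn (hout n h)⟩, ?_⟩
  · rcases lt_or_ge a n with h | h
    · simp [length_isZero (hgt n h)]
    · obtain ⟨k, rfl⟩ : ∃ k : ℕ, n = a - k := ⟨(a - n).toNat, by omega⟩
      rw [((hiso k).some).toLinearEquiv.length_eq]
      exact length_tor_ne_top M X hMX k
  · rw [eul, finsum_eq_sum_of_support_subset (s := (Finset.range (D + 1)).image (fun k : ℕ => a - (k : ℤ))) _
      (fun n hn => by_contra fun h => hn (by simp only [lz_isZero (hout n h), mul_zero])),
      Finset.sum_image (by intro x _ y _ hxy; simpa using hxy), chi_eq_sum hvan, Finset.mul_sum]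
    refine Finset.sum_congr rfl fun k _ => ?_
    rw [sgn_sub_nat, lz, lz, ((hiso k).some).toLinearEquiv.length_eq, mul_assoc]

/-- The Euler characteristic of a resolution tensored with a complex of finite modules. -/
theorem nice_tens (M : ModuleCat.{u} A) [Module.Finite A M] (s : Finset ℤ) :
    ∀ (K : Cx A), (∀ j, j ∉ s → IsZero (K.homology j)) → (∀ j, Module.Finite A (K.homology j)) →
      (∀ j, MeetsAtMax (A := A) M (K.homology j)) →
      Nice (tens (res M) K) ∧ eul (tens (res M) K) = ∑ j ∈ s, sgn j * IntMult.chi A M (K.homology j) := by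
  classical
  have hflat := flat_res M
  have hb := res_bdd M
  induction s using Finset.induction_on_max with
  | empty =>
    intro K hz _ _
    simp only [Finset.sum_empty]
    exact nice_of_isZero fun q => isZero_homology_of_acyclic hflat 0 hb
      (fun j => (exactAt_iff_isZero_homology _ _).2 (hz j (Finset.notMem_empty j))) q
  | insert a s has ih =>
    intro K hz hfin hmeet
    have hnot : a ∉ s := fun h => lt_irrefl a (has a h)
    let e := ComplexShape.embeddingUpIntLE (a - 1)
    let S := HomologicalComplex.shortComplexTruncLE K e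
    have hS : S.ShortExact := HomologicalComplex.shortComplexTruncLE_shortExact K e
    have mem : ∀ j : ℤ, j ≤ a - 1 → ∃ i, e.f i = j := fun j hj => ⟨(a - 1 - j).toNat, by simp [e]; omega⟩
    have notmem : ∀ j : ℤ, a ≤ j → ∀ i, e.f i ≠ j := fun j hj i => by simp [e]; omega
    -- the truncation
    have h1iso : ∀ j, j ≤ a - 1 → Nonempty (S.X₁.homology j ≅ K.homology j) := fun j hj => by
      obtain ⟨i, hi⟩ := mem j hj
      haveI := HomologicalComplex.quasiIsoAt_ιTruncLE K e hi
      exact ⟨isoOfQuasiIsoAt (HomologicalComplex.ιTruncLE K e) j⟩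
    have h1zero : ∀ j, a ≤ j → IsZero (S.X₁.homology j) := fun j hj =>
      ((HomologicalComplex.truncLE K e).exactAt_of_isSupported e j (notmem j hj)).isZero_homology
    have h3zero : ∀ j, j ≤ a - 1 → IsZero (S.X₃.homology j) := fun j hj => by
      obtain ⟨i, rfl⟩ := mem j hj
      exact ((HomologicalComplex.shortComplexTruncLE_X₃_isSupportedOutside K e).exactAt i).isZero_homology
    have h3iso : ∀ j, a ≤ j → Nonempty (S.X₃.homology j ≅ K.homology j) := fun j hj => by
      haveI := HomologicalComplex.isIso_homologyMap_shortComplexTruncLE_g K e j (notmem j hj)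
      exact ⟨(asIso (homologyMap S.g j)).symm⟩
    -- the lower part
    obtain ⟨n1, c1⟩ := ih S.X₁ (fun j hj => by
      rcases le_or_gt a j with h | h
      · exact h1zero j h
      · exact (hz j (by simp [hj]; omega)).of_iso (h1iso j (by omega)).some) (fun j => by
      rcases le_or_gt a j with h | h
      · haveI := ModuleCat.subsingleton_of_isZero (h1zero j h)
        exact Module.Finite.of_finite
      · haveI := hfin j
        exact Module.Finite.equiv (h1iso j (by omega)).some.toLinearEquiv.symm) (fun j => by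
      rcases le_or_gt a j with h | h
      · exact meetsAtMax_of_isZero (h1zero j h)
      · exact meetsAtMax_congr (h1iso j (by omega)).some (hmeet j))
    have c1' : ∑ j ∈ s, sgn j * IntMult.chi A M (S.X₁.homology j) =
        ∑ j ∈ s, sgn j * IntMult.chi A M (K.homology j) :=
      Finset.sum_congr rfl fun j hj => by
        rw [chi_congr_right (h1iso j (by have := has j hj; omega)).some.toLinearEquiv]
    -- the top part
    have hX3 : ∀ j, j ≠ a → IsZero (S.X₃.homology j) := fun j hj => by
      rcases le_or_gt a j with h | h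
      · exact (hz j (by simp only [Finset.mem_insert, not_or]; exact ⟨hj, fun h' => by have := has j h'; omega⟩)).of_iso
          (h3iso j h).some
      · exact h3zero j (by omega)
    haveI : CochainComplex.IsLE S.X₃ a :=
      (CochainComplex.isLE_iff _ _).2 fun i hi => (exactAt_iff_isZero_homology _ _).2 (hX3 i (by omega))
    haveI : CochainComplex.IsGE S.X₃ a :=
      (CochainComplex.isGE_iff _ _).2 fun i hi => (exactAt_iff_isZero_homology _ _).2 (hX3 i (by omega))
    let K' := CochainComplex.truncLE S.X₃ a
    haveI : CochainComplex.IsGE K' a :=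
      (CochainComplex.isGE_iff _ _).2 fun i hi => (exactAt_iff_isZero_homology _ _).2
        ((hX3 i (by omega)).of_iso (isoOfQuasiIsoAt (CochainComplex.ιTruncLE S.X₃ a) i))
    let K'' := CochainComplex.truncGE K' a
    obtain ⟨X, ⟨eX⟩⟩ := CochainComplex.exists_iso_single K'' a
    have eH : X ≅ K.homology a :=
      (singleObjHomologySelfIso (ComplexShape.up ℤ) a X).symm ≪≫
        (homologyFunctor _ _ a).mapIso eX.symm ≪≫
        (isoOfQuasiIsoAt (CochainComplex.πTruncGE K' a) a).symm ≪≫
        isoOfQuasiIsoAt (CochainComplex.ιTruncLE S.X₃ a) a ≪≫ (h3iso a le_rfl).some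
    haveI := hfin a
    haveI : Module.Finite A X := Module.Finite.equiv eH.toLinearEquiv.symm
    obtain ⟨nX, cX⟩ := nice_single M X (meetsAtMax_congr eH (hmeet a)) a
    haveI := quasiIso_mapR (res M) hflat 0 hb (CochainComplex.ιTruncLE S.X₃ a)
    haveI := quasiIso_mapR (res M) hflat 0 hb (CochainComplex.πTruncGE K' a ≫ eX.hom)
    obtain ⟨nK', cK'⟩ := nX.of_quasiIso (mapR (res M) (CochainComplex.πTruncGE K' a ≫ eX.hom))
    obtain ⟨n3, c3⟩ := nK'.of_quasiIso' (mapR (res M) (CochainComplex.ιTruncLE S.X₃ a))
    obtain ⟨n2, c2⟩ := eul_add (tensSC_shortExact (res M) hflat S hS) n1 n3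
    refine ⟨n2, ?_⟩
    refine c2.trans ?_
    change eul (tens (res M) S.X₁) + eul (tens (res M) S.X₃) = _
    rw [c1, c1', c3, cK', cX, chi_congr_right eH.toLinearEquiv, Finset.sum_insert hnot]
    ring

/-- The alternating sum of the intersection numbers with the torsion modules. -/
noncomputable def phi (M N L : ModuleCat.{u} A) : ℤ :=
  ∑ j ∈ Finset.range ((maximalIdeal A).spanFinrank + 1), (-1 : ℤ) ^ j * IntMult.chi A M ((T N j).obj L)

theorem support_tor (N L : ModuleCat.{u} A) [Module.Finite A N] [Module.Finite A L] (j : ℕ) :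
    Module.support A ((T N j).obj L) ⊆ Module.support A N ∩ Module.support A L := by
  intro x hx
  haveI := finite_tor N j L inferInstance
  rw [Module.support_eq_zeroLocus, PrimeSpectrum.mem_zeroLocus, SetLike.coe_subset_coe] at hx
  constructor <;>
    rw [Module.support_eq_zeroLocus, PrimeSpectrum.mem_zeroLocus, SetLike.coe_subset_coe] <;>
    refine fun a ha => hx (Module.mem_annihilator.mpr fun z => TorVanish.smul_tor_eq_zero N L ?_ j z)
  · exact Ideal.mem_sup_right ha
  · exact Ideal.mem_sup_left ha

/-- The triple complex computes `phi`. -/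
theorem phi_eq_eul (M N L : ModuleCat.{u} A) [Module.Finite A M] [Module.Finite A N] [Module.Finite A L]
    (h : ∀ q : PrimeSpectrum A, q ∈ Module.support A M → q ∈ Module.support A N → q ∈ Module.support A L →
      q.asIdeal = maximalIdeal A) :
    Nice (tens (res M) (tens (res N) (res L))) ∧ eul (tens (res M) (tens (res N) (res L))) = phi M N L := by
  classical
  set D := (maximalIdeal A).spanFinrank
  set K := tens (res N) (res L)
  let π : res L ⟶ (single (ModuleCat.{u} A) (.up ℤ) 0).obj L := (projectiveResolution L).π'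
  haveI : QuasiIso π := inferInstanceAs (QuasiIso (projectiveResolution L).π')
  haveI := quasiIso_mapR (res N) (flat_res N) 0 (res_bdd N) π
  obtain ⟨hiso, hgt⟩ := tens_single N L 0
  have e : ∀ k : ℕ, Nonempty (K.homology (0 - (k : ℤ)) ≅ (T N k).obj L) := fun k =>
    ⟨isoOfQuasiIsoAt (mapR (res N) π) _ ≪≫ (hiso k).some⟩
  have hgt' : ∀ m, 0 < m → IsZero (K.homology m) := fun m hm =>
    (hgt m hm).of_iso (isoOfQuasiIsoAt (mapR (res N) π) m)
  have cases' : ∀ m : ℤ, IsZero (K.homology m) ∨ ∃ k : ℕ, m = 0 - (k : ℤ) := fun m => by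
    rcases lt_or_ge 0 m with hm | hm
    · exact Or.inl (hgt' m hm)
    · exact Or.inr ⟨(-m).toNat, by omega⟩
  obtain ⟨n, c⟩ := nice_tens M ((Finset.range (D + 1)).image fun k : ℕ => 0 - (k : ℤ)) K
    (fun j hj => by
      rcases cases' j with h0 | ⟨k, rfl⟩
      · exact h0
      · refine (isZero_of_pdle N _ L (pdle_dim L) k ?_).of_iso (e k).some
        by_contra hk
        exact hj (Finset.mem_image.mpr ⟨k, Finset.mem_range.mpr (by omega), rfl⟩))
    (fun j => by
      rcases cases' j with h0 | ⟨k, rfl⟩
      · haveI := ModuleCat.subsingleton_of_isZero h0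
        exact Module.Finite.of_finite
      · haveI := finite_tor N k L inferInstance
        exact Module.Finite.equiv (e k).some.toLinearEquiv.symm)
    (fun j => by
      rcases cases' j with h0 | ⟨k, rfl⟩
      · exact meetsAtMax_of_isZero h0
      · refine meetsAtMax_congr (e k).some fun q h₁ h₂ => ?_
        obtain ⟨hN, hL⟩ := support_tor N L k h₂
        exact h q h₁ hN hL)
  refine ⟨n, c.trans ?_⟩
  rw [Finset.sum_image (by intro x _ y _ hxy; simpa using hxy), phi]
  refine Finset.sum_congr rfl fun k _ => ?_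
  rw [sgn_sub_nat, chi_congr_right (e k).some.toLinearEquiv]
  simp [sgn]

/-- Associativity of intersection numbers. -/
theorem phi_rot (M N L : ModuleCat.{u} A) [Module.Finite A M] [Module.Finite A N] [Module.Finite A L]
    (h : ∀ q : PrimeSpectrum A, q ∈ Module.support A M → q ∈ Module.support A N → q ∈ Module.support A L →
      q.asIdeal = maximalIdeal A) :
    phi M N L = phi L M N := by
  obtain ⟨n₁, c₁⟩ := phi_eq_eul M N L h
  obtain ⟨-, c₂⟩ := phi_eq_eul L M N fun q hL hM hN => h q hM hN hL
  let iso : tens (res L) (tens (res M) (res N)) ≅ tens (res M) (tens (res N) (res L)) :=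
    DTen.braidCx (res L) (res M ⊗ res N) ≪≫ α_ (res M) (res N) (res L)
  obtain ⟨-, hc⟩ := n₁.of_iso fun m => (homologyFunctor _ _ m).mapIso iso
  rw [← c₁, ← c₂, hc]

end Groth.Agent.H19.IntMult.TripleTor
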